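import Cfsg.Agent.Lib.KnownB.GL2.Pairs1
import Cfsg.Agent.Lib.Classical.SL2Sylow
import Cfsg.Agent.Lib.Char.Perm

/-!
The conjugacy classes of `GL₂` and `SL₂` over a finite field and sums of class functions.
-/

set_option autoImplicit false

namespace CfsgLib.KnownB.GL2

open scoped MatrixGroups

variable {F : Type*} [Field F]

local notation "Mat" => Matrix (Fin 2) (Fin 2) F

/-- A scalar element of `GL₂`. -/
noncomputable def scalGL (z : Fˣ) : GL (Fin 2) F :=
  Matrix.GeneralLinearGroup.mkOfDetNeZero ((z : F) • (1 : Mat)) (by simp [Matrix.det_fin_two])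

theorem coe_scalGL (z : Fˣ) : (scalGL z : Mat) = (z : F) • 1 := rfl

/-- A companion element of `GL₂`. -/
noncomputable def compGL (t d : F) (hd : d ≠ 0) : GL (Fin 2) F :=
  Matrix.GeneralLinearGroup.mkOfDetNeZero (comp t d) (by rwa [det_comp])

theorem coe_compGL (t d : F) (hd : d ≠ 0) : (compGL t d hd : Mat) = comp t d := rfl

/-- Representatives of the classes of `GL₂`. -/
noncomputable def repGL : Fˣ ⊕ {p : F × F // p.2 ≠ 0} → GL (Fin 2) F
  | .inl z => scalGL z
  | .inr p => compGL p.1.1 p.1.2 p.2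

theorem repGL_bijective :
    Function.Bijective fun i : Fˣ ⊕ {p : F × F // p.2 ≠ 0} => ConjClasses.mk (repGL i) := by
  constructor
  · intro i j h
    rw [ConjClasses.mk_eq_mk_iff_isConj, gl_isConj_iff] at h
    have hs : ∀ z : Fˣ, Scal ((scalGL z : GL (Fin 2) F) : Mat) := fun z =>
      (scal_iff_exists _).2 ⟨_, coe_scalGL z⟩
    rcases i with z | p <;> rcases j with z' | p'
    · rcases h with h | ⟨h, -⟩
      · have := congrArg (fun g : GL (Fin 2) F => (g : Mat) 0 0) h
        simp [repGL, coe_scalGL] at this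
        exact congrArg Sum.inl (Units.ext this)
      · exact absurd (hs z) h
    · rcases h with h | ⟨h, -⟩
      · refine absurd ?_ (not_scal_comp p'.1.1 p'.1.2)
        rw [← coe_compGL p'.1.1 p'.1.2 p'.2, show compGL p'.1.1 p'.1.2 p'.2 = scalGL z from h.symm]
        exact hs z
      · exact absurd (hs z) h
    · rcases h with h | ⟨-, h, -⟩
      · refine absurd ?_ (not_scal_comp p.1.1 p.1.2)
        rw [← coe_compGL p.1.1 p.1.2 p.2, show compGL p.1.1 p.1.2 p.2 = scalGL z' from h]
        exact hs z'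
      · exact absurd (hs z') h
    · refine congrArg Sum.inr (Subtype.ext ?_)
      rcases h with h | ⟨-, -, ht, hd⟩
      · have h1 := congrArg (fun g : GL (Fin 2) F => ((g : Mat).trace, (g : Mat).det)) h
        simpa [repGL, coe_compGL] using h1
      · exact Prod.ext (by simpa [repGL, coe_compGL] using ht)
          (by simpa [repGL, coe_compGL] using hd)
  · intro C
    obtain ⟨g, rfl⟩ := ConjClasses.exists_rep C
    by_cases hg : Scal (g : Mat)
    · have h00 : (g : Mat) 0 0 ≠ 0 := fun h0 => by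
        have := g.det_ne_zero
        rw [scal_eq hg, h0, zero_smul] at this
        simp at this
      refine ⟨Sum.inl (Units.mk0 _ h00), congrArg ConjClasses.mk (Units.ext ?_)⟩
      exact (scal_eq hg).symm
    · refine ⟨Sum.inr ⟨((g : Mat).trace, (g : Mat).det), g.det_ne_zero⟩, ?_⟩
      rw [ConjClasses.mk_eq_mk_iff_isConj, gl_isConj_iff]
      exact Or.inr ⟨not_scal_comp _ _, hg, trace_comp _ _, det_comp _ _⟩

/-- A sum of a class function through representatives of the classes. -/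
theorem sum_classes {G : Type*} [Group G] [Fintype G] {ι : Type*} [Fintype ι] (rep : ι → G)
    (h : Function.Bijective fun i => ConjClasses.mk (rep i)) (f : G → ℂ)
    (hf : ∀ a b, IsConj a b → f a = f b) :
    ∑ g, f g = ∑ i, (Nat.card G : ℂ) /
      (Nat.card (Subgroup.centralizer ({rep i} : Set G)) : ℂ) * f (rep i) := by
  classical
  rw [← Finset.sum_fiberwise (Finset.univ : Finset G) ConjClasses.mk,
    ← (Equiv.ofBijective _ h).sum_comp]
  refine Finset.sum_congr rfl fun i _ => ?_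
  simp only [Equiv.ofBijective_apply]
  rw [Finset.sum_congr rfl fun g hg => hf g (rep i)
    (ConjClasses.mk_eq_mk_iff_isConj.1 (Finset.mem_filter.1 hg).2), Finset.sum_const, nsmul_eq_mul]
  congr 1
  rw [← CfsgLib.Char.card_conjugates_mul (rep i), Nat.cast_mul, mul_div_cancel_right₀,
    Nat.card_eq_fintype_card, Fintype.card_subtype]
  · simp only [ConjClasses.mk_eq_mk_iff_isConj]
  · exact Nat.cast_ne_zero.2 Nat.card_pos.ne'

variable [Fintype F]

theorem card_GL : Nat.card (GL (Fin 2) F) =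
    (Fintype.card F ^ 2 - 1) * (Fintype.card F ^ 2 - Fintype.card F) := by
  rw [Matrix.card_GL_field, Fin.prod_univ_two]
  simp

theorem card_SL : Nat.card SL(2, F) = Fintype.card F * (Fintype.card F ^ 2 - 1) :=
  CfsgLib.Classical.card_sl2 rfl

theorem cast_card_GL : (Nat.card (GL (Fin 2) F) : ℂ) =
    ((Fintype.card F : ℂ) ^ 2 - 1) * ((Fintype.card F : ℂ) ^ 2 - Fintype.card F) := by
  have h1 : 1 ≤ Fintype.card F ^ 2 := Nat.one_le_pow _ _ Fintype.card_pos
  have h2 : Fintype.card F ≤ Fintype.card F ^ 2 := Nat.le_self_pow two_ne_zero _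
  rw [card_GL, Nat.cast_mul, Nat.cast_sub h1, Nat.cast_sub h2]
  push_cast
  ring

theorem cast_card_SL : (Nat.card SL(2, F) : ℂ) =
    (Fintype.card F : ℂ) * ((Fintype.card F : ℂ) ^ 2 - 1) := by
  have h1 : 1 ≤ Fintype.card F ^ 2 := Nat.one_le_pow _ _ Fintype.card_pos
  rw [card_SL, Nat.cast_mul, Nat.cast_sub h1]
  push_cast
  ring

theorem cast_centGL (g : GL (Fin 2) F) (hg : ¬ Scal (g : Mat)) :
    (Nat.card (Subgroup.centralizer ({g} : Set (GL (Fin 2) F))) : ℂ) =
      (Fintype.card F : ℂ) ^ 2 - 1 -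
        ((Fintype.card F : ℂ) - 1) * ((rts (g : Mat).trace (g : Mat).det).card : ℂ) := by
  have h := congrArg (Nat.cast : ℕ → ℂ) (card_centGL g hg)
  push_cast [Nat.cast_sub (Fintype.card_pos : 1 ≤ Fintype.card F)] at h
  linear_combination h

theorem card_cent_scal (g : GL (Fin 2) F) (hg : Scal (g : Mat)) :
    Nat.card (Subgroup.centralizer ({g} : Set (GL (Fin 2) F))) = Nat.card (GL (Fin 2) F) := by
  have : Subgroup.centralizer ({g} : Set (GL (Fin 2) F)) = ⊤ := by
    refine eq_top_iff.2 fun x _ => Subgroup.mem_centralizer_singleton_iff.2 (Units.ext ?_)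
    rw [Units.val_mul, Units.val_mul, scal_eq hg]
    simp
  rw [this]
  exact Nat.card_congr Subgroup.topEquiv.toEquiv

theorem card_classes_GL :
    Nat.card (ConjClasses (GL (Fin 2) F)) = Fintype.card F ^ 2 - 1 := by
  classical
  rw [← Nat.card_congr (Equiv.ofBijective _ repGL_bijective), Nat.card_sum,
    Nat.card_eq_fintype_card, Fintype.card_units,
    Nat.card_eq_fintype_card, Fintype.card_subtype]
  have : (Finset.univ.filter fun p : F × F => p.2 ≠ 0) =
      (Finset.univ : Finset F) ×ˢ ((Finset.univ : Finset F).erase 0) := by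
    ext p; simp
  rw [this, Finset.card_product, Finset.card_erase_of_mem (Finset.mem_univ _), Finset.card_univ]
  obtain ⟨k, hk⟩ := Nat.exists_eq_add_of_le (Fintype.one_lt_card : 1 < Fintype.card F)
  rw [hk, show 2 + k - 1 = k + 1 by omega]
  symm
  apply Nat.sub_eq_of_eq_add
  ring

open _root_.Classical in
/-- Sum of a class function on `GL₂`, through representatives of the four types. -/
theorem sum_GL [DecidableEq F] (f : GL (Fin 2) F → ℂ) (hf : ∀ a b, IsConj a b → f a = f b) (Φ : F → F → ℂ)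
    (hΦ : ∀ g : GL (Fin 2) F, ¬ Scal (g : Mat) → f g = Φ (g : Mat).trace (g : Mat).det)
    {t₀ d₀ : F} (h₀ : rts t₀ d₀ = ∅) :
    2 * ∑ g, f g = 2 * ∑ z : Fˣ, f (scalGL z) +
      2 * ((Fintype.card F : ℂ) ^ 2 - 1) * ∑ r : Fˣ, Φ (2 * (r : F)) ((r : F) ^ 2) +
      (Fintype.card F : ℂ) * ((Fintype.card F : ℂ) + 1) *
        ∑ p ∈ distinct F, Φ (p.1 + p.2) (p.1 * p.2) +
      (Fintype.card F : ℂ) * ((Fintype.card F : ℂ) - 1) *
        ∑ v ∈ Finset.univ.filter (fun v : F × F => v.2 ≠ 0),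
          Φ (2 * v.1 + t₀ * v.2) (nf t₀ d₀ v.1 v.2) := by
  set q : ℂ := (Fintype.card F : ℂ) with hq
  have hsc : ∀ z : Fˣ, (Nat.card (GL (Fin 2) F) : ℂ) /
      (Nat.card (Subgroup.centralizer ({repGL (.inl z)} : Set (GL (Fin 2) F))) : ℂ) = 1 := fun z => by
    simp only [repGL]
    rw [card_cent_scal _ ((scal_iff_exists _).2 ⟨_, coe_scalGL z⟩), div_self]
    exact Nat.cast_ne_zero.2 Nat.card_pos.ne'
  have hq1 : q - 1 ≠ 0 := by
    rw [sub_ne_zero, hq]
    exact_mod_cast (Fintype.one_lt_card : 1 < Fintype.card F).ne'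
  have hq0 : q ≠ 0 := by rw [hq]; exact_mod_cast Fintype.card_ne_zero
  have hq2 : q + 1 ≠ 0 := by rw [hq]; exact_mod_cast Nat.succ_ne_zero (Fintype.card F)
  have hw : ∀ k : ℕ, ∀ p : F × F, ∀ hp : p.2 ≠ 0, (rts p.1 p.2).card = k →
      (Nat.card (GL (Fin 2) F) : ℂ) /
        (Nat.card (Subgroup.centralizer ({repGL (.inr ⟨p, hp⟩)} : Set (GL (Fin 2) F))) : ℂ) =
      (q ^ 2 - 1) * (q ^ 2 - q) / (q ^ 2 - 1 - (q - 1) * (k : ℂ)) := fun k p hp hk => by
    rw [cast_card_GL, cast_centGL _ (not_scal_comp _ _)]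
    simp only [repGL, coe_compGL, trace_comp, det_comp, hk, hq]
  rw [sum_classes repGL repGL_bijective f hf, Fintype.sum_sum_type]
  simp only [hsc, one_mul]
  have hpairs : ∑ i : {p : F × F // p.2 ≠ 0}, (Nat.card (GL (Fin 2) F) : ℂ) /
      (Nat.card (Subgroup.centralizer ({repGL (.inr i)} : Set (GL (Fin 2) F))) : ℂ) *
        f (repGL (.inr i)) =
      q * (q - 1) * ∑ b ∈ pairs F 0, Φ b.1 b.2 + (q ^ 2 - 1) * ∑ b ∈ pairs F 1, Φ b.1 b.2 +
        q * (q + 1) * ∑ b ∈ pairs F 2, Φ b.1 b.2 := by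
    let W : F × F → ℂ := fun p => if h : p.2 ≠ 0 then (Nat.card (GL (Fin 2) F) : ℂ) /
      (Nat.card (Subgroup.centralizer ({repGL (.inr ⟨p, h⟩)} : Set (GL (Fin 2) F))) : ℂ) *
        f (repGL (.inr ⟨p, h⟩)) else 0
    rw [Finset.sum_congr rfl (g := fun i : {p : F × F // p.2 ≠ 0} => W i.1) fun i _ => by
      simp only [W, dif_pos i.2]]
    rw [← Finset.sum_subtype (Finset.univ.filter fun p : F × F => p.2 ≠ 0) (by simp) W, sum_pairs]
    rw [Finset.mul_sum, Finset.mul_sum, Finset.mul_sum]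
    congr 1
    congr 1
    all_goals
      refine Finset.sum_congr rfl fun b hb => ?_
      obtain ⟨hb0, hbk⟩ := mem_pairs.1 hb
      simp only [W, dif_pos hb0]
      rw [hw _ b hb0 hbk, hΦ _ (not_scal_comp _ _)]
      simp only [repGL, coe_compGL, trace_comp, det_comp]
      congr 1
      push_cast
      rw [div_eq_iff]
      · ring
      · intro h
        first
          | exact mul_ne_zero hq1 hq2 (by linear_combination h)
          | exact mul_ne_zero hq0 hq1 (by linear_combination h)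
          | exact mul_ne_zero hq1 hq1 (by linear_combination h)
  rw [hpairs]
  have e2 := sum_split (F := F) (fun b => Φ b.1 b.2)
  have e0 := sum_ell h₀ (fun b => Φ b.1 b.2)
  have e1 := sum_double (F := F) (fun b => Φ b.1 b.2)
  simp only [nsmul_eq_mul, Nat.cast_ofNat] at e2 e0
  simp only at e1
  rw [e1, e2, e0]
  simp only [repGL]
  ring

end CfsgLib.KnownB.GL2
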