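import Cfsg.Agent.Lib.KnownB.GL2.TwoMat

/-!
Conjugacy and centralisers in `GL₂` and `SL₂` over a finite field.
-/

set_option autoImplicit false

namespace CfsgLib.KnownB.GL2

open scoped MatrixGroups

variable {F : Type*} [Field F]

local notation "Mat" => Matrix (Fin 2) (Fin 2) F

theorem scal_of_similar {M N P : Mat} (hP : P.det ≠ 0) (h : M * P = P * N) (hM : Scal M) :
    N = M := by
  obtain ⟨c, rfl⟩ := (scal_iff_exists M).1 hM
  have hu : IsUnit P.det := isUnit_iff_ne_zero.2 hP
  have h1 := congrArg (fun X => P⁻¹ * X) h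
  simp only [Matrix.smul_mul, one_mul, Matrix.mul_smul, Matrix.nonsing_inv_mul_cancel_left _ _ hu,
    Matrix.nonsing_inv_mul _ hu] at h1
  exact h1.symm

theorem trace_det_of_similar {M N P : Mat} (hP : P.det ≠ 0) (h : M * P = P * N) :
    M.trace = N.trace ∧ M.det = N.det := by
  have hu : IsUnit P.det := isUnit_iff_ne_zero.2 hP
  have e : N = P⁻¹ * (M * P) := by rw [h, Matrix.nonsing_inv_mul_cancel_left _ _ hu]
  constructor
  · rw [e, Matrix.trace_mul_comm, mul_assoc, Matrix.mul_nonsing_inv _ hu, mul_one]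
  · have := congrArg Matrix.det h
    rw [Matrix.det_mul, Matrix.det_mul, mul_comm] at this
    exact mul_left_cancel₀ hP this

theorem gl_isConj_iff {g h : GL (Fin 2) F} :
    IsConj g h ↔ g = h ∨ (¬ Scal (g : Mat) ∧ ¬ Scal (h : Mat) ∧
      (g : Mat).trace = (h : Mat).trace ∧ (g : Mat).det = (h : Mat).det) := by
  constructor
  · rintro hc
    obtain ⟨x, rfl⟩ := isConj_iff.1 hc
    have hx : (x : Mat).det ≠ 0 := x.det_ne_zero
    have hrel : ((x * g * x⁻¹ : GL (Fin 2) F) : Mat) * x = x * g := by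
      rw [← Units.val_mul, ← Units.val_mul, inv_mul_cancel_right]
    by_cases hg : Scal ((x * g * x⁻¹ : GL (Fin 2) F) : Mat)
    · exact Or.inl (Units.ext (scal_of_similar hx hrel hg))
    · obtain ⟨ht, hd⟩ := trace_det_of_similar hx hrel
      refine Or.inr ⟨fun hs => hg ?_, hg, ht.symm, hd.symm⟩
      obtain ⟨c, hc⟩ := (scal_iff_exists _).1 hs
      refine (scal_iff_exists _).2 ⟨c, ?_⟩
      rw [Units.val_mul, Units.val_mul, hc]
      simp
  · rintro (rfl | ⟨hg, hh, ht, hd⟩)
    · exact IsConj.refl g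
    · obtain ⟨P, hP, hP'⟩ := exists_similar hh hg ht.symm hd.symm
      refine isConj_iff.2 ⟨Matrix.GeneralLinearGroup.mkOfDetNeZero P hP, ?_⟩
      rw [mul_inv_eq_iff_eq_mul]
      exact Units.ext hP'.symm

theorem sl_det (g : SL(2, F)) : (g : Mat).det = 1 := g.2

/-- An element of `SL₂` from a matrix of determinant one. -/
def mkSL (M : Mat) (h : M.det = 1) : SL(2, F) := ⟨M, h⟩

@[simp] theorem coe_mkSL (M : Mat) (h : M.det = 1) : (mkSL M h : Mat) = M := rfl

variable [Fintype F]

/-- In `SL₂` two non-scalar elements with the same trace are conjugate unless the trace is `± 2`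
in odd characteristic. -/
theorem sl_isConj_of_trace {g h : SL(2, F)} (hg : ¬ Scal (g : Mat)) (hh : ¬ Scal (h : Mat))
    (ht : (g : Mat).trace = (h : Mat).trace)
    (hns : dsc (g : Mat).trace 1 ≠ 0 ∨ (2 : F) = 0) : IsConj g h := by
  obtain ⟨P, hP, hP'⟩ := exists_similar hh hg ht.symm (by rw [sl_det, sl_det])
  obtain ⟨x, y, hxy⟩ := exists_nf_eq hns (P.det)⁻¹
  set X : Mat := x • (1 : Mat) + y • (g : Mat) with hX
  have hdet : (P * X).det = 1 := by
    rw [Matrix.det_mul, det_lin, sl_det, hxy, mul_inv_cancel₀ hP]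
  refine isConj_iff.2 ⟨mkSL (P * X) hdet, ?_⟩
  rw [mul_inv_eq_iff_eq_mul]
  apply Subtype.ext
  show P * X * (g : Mat) = (h : Mat) * (P * X)
  rw [← mul_assoc (h : Mat), hP', mul_assoc, mul_assoc]
  congr 1
  simp [hX, add_mul, mul_add]

theorem sl_isConj_trace {g h : SL(2, F)} (hc : IsConj g h) :
    (g : Mat).trace = (h : Mat).trace ∧ (Scal (g : Mat) → g = h) := by
  obtain ⟨x, rfl⟩ := isConj_iff.1 hc
  have hx : (x : Mat).det ≠ 0 := by rw [sl_det]; exact one_ne_zero
  have hrel : ((x * g * x⁻¹ : SL(2, F)) : Mat) * x = x * g := by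
    rw [← Matrix.SpecialLinearGroup.coe_mul, ← Matrix.SpecialLinearGroup.coe_mul,
      inv_mul_cancel_right]
  refine ⟨(trace_det_of_similar hx hrel).1.symm, fun hs => ?_⟩
  obtain ⟨c, hc⟩ := (scal_iff_exists _).1 hs
  apply Subtype.ext
  rw [Matrix.SpecialLinearGroup.coe_mul, Matrix.SpecialLinearGroup.coe_mul, hc, Matrix.mul_smul,
    mul_one, Matrix.smul_mul, ← Matrix.SpecialLinearGroup.coe_mul, mul_inv_cancel]
  rfl

/-- The centraliser in `GL₂` of a non-scalar element. -/
noncomputable def centGLEquiv (g : GL (Fin 2) F) (hg : ¬ Scal (g : Mat)) :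
    {p : F × F // nf (g : Mat).trace (g : Mat).det p.1 p.2 ≠ 0} ≃
      Subgroup.centralizer ({g} : Set (GL (Fin 2) F)) := by
  refine Equiv.ofBijective (fun p => ⟨Matrix.GeneralLinearGroup.mkOfDetNeZero
    (p.1.1 • (1 : Mat) + p.1.2 • (g : Mat)) (by rw [det_lin]; exact p.2), ?_⟩) ⟨?_, ?_⟩
  · rw [Subgroup.mem_centralizer_singleton_iff]
    apply Units.ext
    show (p.1.1 • (1 : Mat) + p.1.2 • (g : Mat)) * (g : Mat) = _
    simp [add_mul, mul_add]
  · intro p p' h
    exact Subtype.ext (lin_injective hg (congrArg (fun X : Subgroup.centralizer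
      ({g} : Set (GL (Fin 2) F)) => ((X : GL (Fin 2) F) : Mat)) h))
  · rintro ⟨X, hX⟩
    rw [Subgroup.mem_centralizer_singleton_iff] at hX
    obtain ⟨x, y, hxy⟩ := exists_of_commute hg (congrArg Units.val hX :)
    refine ⟨⟨(x, y), ?_⟩, Subtype.ext (Units.ext hxy.symm)⟩
    rw [← det_lin, ← hxy]
    exact X.det_ne_zero

theorem card_centGL (g : GL (Fin 2) F) (hg : ¬ Scal (g : Mat)) :
    Nat.card (Subgroup.centralizer ({g} : Set (GL (Fin 2) F))) +
      (1 + (Fintype.card F - 1) * (rts (g : Mat).trace (g : Mat).det).card) =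
        Fintype.card F ^ 2 := by
  rw [← Nat.card_congr (centGLEquiv g hg), card_nf_ne_zero]

/-- The centraliser in `SL₂` of a non-scalar element. -/
noncomputable def centSLEquiv (g : SL(2, F)) (hg : ¬ Scal (g : Mat)) :
    {p : F × F // nf (g : Mat).trace 1 p.1 p.2 = 1} ≃
      Subgroup.centralizer ({g} : Set SL(2, F)) := by
  refine Equiv.ofBijective (fun p => ⟨mkSL (p.1.1 • (1 : Mat) + p.1.2 • (g : Mat))
    (by rw [det_lin, sl_det]; exact p.2), ?_⟩) ⟨?_, ?_⟩
  · rw [Subgroup.mem_centralizer_singleton_iff]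
    apply Subtype.ext
    show (p.1.1 • (1 : Mat) + p.1.2 • (g : Mat)) * (g : Mat) = _
    simp [add_mul, mul_add]
  · intro p p' h
    exact Subtype.ext (lin_injective hg (congrArg (fun X : Subgroup.centralizer
      ({g} : Set SL(2, F)) => ((X : SL(2, F)) : Mat)) h))
  · rintro ⟨X, hX⟩
    rw [Subgroup.mem_centralizer_singleton_iff] at hX
    obtain ⟨x, y, hxy⟩ := exists_of_commute hg (congrArg Subtype.val hX :)
    refine ⟨⟨(x, y), ?_⟩, Subtype.ext (Subtype.ext hxy.symm)⟩
    have h1 := det_lin (g : Mat) x y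
    rw [← hxy, sl_det, sl_det] at h1
    exact h1.symm

theorem card_nf_one_mul {t d : F} (hs : dsc t d ≠ 0 ∨ (2 : F) = 0) :
    Nat.card {p : F × F // nf t d p.1 p.2 = 1} * (Fintype.card F - 1) =
      Nat.card {p : F × F // nf t d p.1 p.2 ≠ 0} := by
  classical
  choose x y hxy using fun c : Fˣ => exists_nf_eq hs (c : F)
  -- multiplication in `F[M]` for the companion matrix transports the fibres
  let e : ∀ c : Fˣ, {p : F × F // nf t d p.1 p.2 = 1} → {p : F × F // nf t d p.1 p.2 = c} :=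
    fun c p => ⟨(x c * p.1.1 - d * (y c * p.1.2), x c * p.1.2 + y c * p.1.1 + t * (y c * p.1.2)), by
      have h1 := hxy c
      have h2 := p.2
      simp only [nf] at h1 h2 ⊢
      linear_combination h2 * (x c ^ 2 + t * x c * y c + d * y c ^ 2) + h1⟩
  let e' : ∀ c : Fˣ, {p : F × F // nf t d p.1 p.2 = c} → {p : F × F // nf t d p.1 p.2 = 1} :=
    fun c p => ⟨(((x c + t * y c) * p.1.1 + d * (y c * p.1.2)) / c,
        (x c * p.1.2 - y c * p.1.1) / c), by
      have h1 := hxy c
      have h2 := p.2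
      have hc : (c : F) ≠ 0 := c.ne_zero
      simp only [nf] at h1 h2 ⊢
      field_simp
      linear_combination h2 * (x c ^ 2 + t * x c * y c + d * y c ^ 2) + (c : F) * h1⟩
  have hfib : ∀ c : Fˣ, Nat.card {p : F × F // nf t d p.1 p.2 = c} =
      Nat.card {p : F × F // nf t d p.1 p.2 = 1} := fun c =>
    Nat.card_congr
      { toFun := e' c
        invFun := e c
        left_inv := fun p => by
          have h1 := hxy c
          have hc : (c : F) ≠ 0 := c.ne_zero
          simp only [nf] at h1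
          refine Subtype.ext (Prod.ext ?_ ?_) <;> simp only [e, e'] <;> field_simp
          · linear_combination p.1.1 * h1
          · linear_combination p.1.2 * h1
        right_inv := fun p => by
          have h1 := hxy c
          have hc : (c : F) ≠ 0 := c.ne_zero
          simp only [nf] at h1
          refine Subtype.ext (Prod.ext ?_ ?_) <;> simp only [e, e'] <;> field_simp
          · linear_combination p.1.1 * h1
          · linear_combination p.1.2 * h1 }
  have E : (Σ c : Fˣ, {p : F × F // nf t d p.1 p.2 = c}) ≃ {p : F × F // nf t d p.1 p.2 ≠ 0} :=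
    { toFun := fun z => ⟨z.2.1, by rw [z.2.2]; exact z.1.ne_zero⟩
      invFun := fun p => ⟨Units.mk0 _ p.2, ⟨p.1, rfl⟩⟩
      left_inv := fun ⟨c, p, hp⟩ => Sigma.subtype_ext (Units.ext hp) rfl
      right_inv := fun _ => rfl }
  rw [← Nat.card_congr E, Nat.card_sigma]
  simp only [hfib, Finset.sum_const, Finset.card_univ, Fintype.card_units, smul_eq_mul, mul_comm]

theorem card_nf_one_parabolic {t : F} (hd : dsc t 1 = 0) (h2 : (2 : F) ≠ 0) :
    Nat.card {p : F × F // nf t 1 p.1 p.2 = 1} = 2 * Fintype.card F := by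
  classical
  have hr : (t / 2) ^ 2 = 1 := by
    rw [dsc] at hd
    field_simp
    linear_combination hd
  have key : ∀ x y : F, nf t 1 x y = (x + t / 2 * y) ^ 2 := fun x y => by
    simp only [nf]
    linear_combination (norm := (field_simp; ring)) -y ^ 2 * hr
  have h11 : (1 : F) ≠ -1 := fun h => h2 (by linear_combination h)
  let E : {p : F × F // nf t 1 p.1 p.2 = 1} ≃ ({s : F // s = 1 ∨ s = -1} × F) :=
    { toFun := fun p => (⟨p.1.1 + t / 2 * p.1.2, sq_eq_one_iff.1 ((key _ _).symm.trans p.2)⟩, p.1.2)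
      invFun := fun z => ⟨(z.1.1 - t / 2 * z.2, z.2), by
        rw [key, sub_add_cancel]
        rcases z.1.2 with h | h <;> simp [h]⟩
      left_inv := fun p => Subtype.ext (Prod.ext (add_sub_cancel_right _ _) rfl)
      right_inv := fun z => Prod.ext (Subtype.ext (sub_add_cancel _ _)) rfl }
  rw [Nat.card_congr E, Nat.card_prod, Nat.card_eq_fintype_card (α := F),
    show Nat.card {s : F // s = 1 ∨ s = -1} = 2 from ?_]
  exact (Set.ncard_pair h11)

theorem card_centSL (g : SL(2, F)) (hg : ¬ Scal (g : Mat))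
    (hs : dsc (g : Mat).trace 1 ≠ 0 ∨ (2 : F) = 0) :
    Nat.card (Subgroup.centralizer ({g} : Set SL(2, F))) * (Fintype.card F - 1) +
      (1 + (Fintype.card F - 1) * (rts (g : Mat).trace 1).card) = Fintype.card F ^ 2 := by
  rw [← Nat.card_congr (centSLEquiv g hg), card_nf_one_mul hs, card_nf_ne_zero]

theorem card_centSL_parabolic (g : SL(2, F)) (hg : ¬ Scal (g : Mat))
    (hd : dsc (g : Mat).trace 1 = 0) (h2 : (2 : F) ≠ 0) :
    Nat.card (Subgroup.centralizer ({g} : Set SL(2, F))) = 2 * Fintype.card F := by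
  rw [← Nat.card_congr (centSLEquiv g hg), card_nf_one_parabolic hd h2]

end CfsgLib.KnownB.GL2
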