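import Cfsg.Agent.Lib.KnownB.GL2.Pairs
import Cfsg.Agent.Lib.KnownB.GL2.Classes

/-!
Sums over the traces of elements of determinant one.
-/

set_option autoImplicit false

namespace CfsgLib.KnownB.GL2

variable {F : Type*} [Field F] [Fintype F]

open Classical in
/-- The traces whose polynomial `X ^ 2 - t X + 1` has `k` roots. -/
noncomputable def trs (F : Type*) [Field F] [Fintype F] (k : ℕ) : Finset F :=
  Finset.univ.filter fun t => (rts t 1).card = k

theorem mem_trs {k : ℕ} {t : F} : t ∈ trs F k ↔ (rts t 1).card = k := by simp [trs]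

open Classical in
/-- The square roots of one. -/
noncomputable def signs (F : Type*) [Field F] [Fintype F] : Finset F :=
  Finset.univ.filter fun r => r ^ 2 = 1

theorem mem_signs {r : F} : r ∈ signs F ↔ r ^ 2 = 1 := by simp [signs]

theorem signs_eq [DecidableEq F] : signs F = {1, -1} := by
  ext r; simp [mem_signs]

theorem card_signs_odd (h2 : (2 : F) ≠ 0) : (signs F).card = 2 := by
  classical
  rw [signs_eq, Finset.card_pair fun h => h2 (by linear_combination h)]

theorem card_signs_two (h2 : (2 : F) = 0) : (signs F).card = 1 := by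
  classical
  rw [signs_eq, show (-1 : F) = 1 by linear_combination -h2]
  simp

open Classical in
/-- The nonzero elements with square different from one. -/
noncomputable def splitVals (F : Type*) [Field F] [Fintype F] : Finset F :=
  Finset.univ.filter fun a => a ≠ 0 ∧ a ^ 2 ≠ 1

theorem mem_splitVals {a : F} : a ∈ splitVals F ↔ a ≠ 0 ∧ a ^ 2 ≠ 1 := by simp [splitVals]

theorem splitVals_ne {a : F} (ha : a ∈ splitVals F) : a ≠ a⁻¹ := fun h =>
  (mem_splitVals.1 ha).2 (by rw [sq]; nth_rewrite 2 [h]; exact mul_inv_cancel₀ (mem_splitVals.1 ha).1)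

theorem card_splitVals : (splitVals F).card + (signs F).card = Fintype.card F - 1 := by
  classical
  rw [← Finset.card_univ, ← Finset.card_erase_of_mem (Finset.mem_univ (0 : F)),
    ← Finset.card_union_of_disjoint]
  · congr 1
    ext a
    simp only [Finset.mem_union, mem_splitVals, mem_signs, Finset.mem_erase, Finset.mem_univ,
      and_true]
    constructor
    · rintro (h | h)
      · exact h.1
      · rintro rfl; simp at h
    · intro h; tauto
  · rw [Finset.disjoint_left]
    intro a ha hb
    exact (mem_splitVals.1 ha).2 (mem_signs.1 hb)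

theorem split_mem_trs {a : F} (ha : a ∈ splitVals F) : a + a⁻¹ ∈ trs F 2 := by
  have h := card_rts_split (splitVals_ne ha)
  rwa [mul_inv_cancel₀ (mem_splitVals.1 ha).1, ← mem_trs] at h

theorem split_fibre [DecidableEq F] {t : F} (ht : t ∈ trs F 2) :
    ((splitVals F).filter fun a => a + a⁻¹ = t).card = 2 := by
  obtain ⟨x, y, hxy, h1, h2⟩ := exists_split_of_card (mem_trs.1 ht)
  have hx : x ≠ 0 := left_ne_zero_of_mul_eq_one h2
  have hy : y = x⁻¹ := eq_inv_of_mul_eq_one_right h2
  have : (splitVals F).filter (fun a => a + a⁻¹ = t) = {x, y} := by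
    ext a
    simp only [Finset.mem_filter, mem_splitVals, Finset.mem_insert, Finset.mem_singleton]
    constructor
    · rintro ⟨⟨ha0, -⟩, ha⟩
      refine (root_iff_of_split x y a).1 ?_
      rw [h1, h2, ← ha, ← mul_inv_cancel₀ ha0]
      exact (root_iff_of_split _ _ a).2 (Or.inl rfl)
    · have hxy2 : x ^ 2 ≠ 1 := fun h => hxy (mul_left_cancel₀ hx (by linear_combination h - h2))
      rintro (rfl | rfl)
      · exact ⟨⟨hx, hxy2⟩, by rw [← hy]; exact h1⟩
      · refine ⟨⟨right_ne_zero_of_mul_eq_one h2, fun h => hxy ?_⟩, by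
          rw [hy, inv_inv, add_comm, ← hy]; exact h1⟩
        exact mul_right_cancel₀ (right_ne_zero_of_mul_eq_one h2) (by linear_combination h2 - h)
  rw [this, Finset.card_pair hxy]

theorem card_splitVals_eq : (splitVals F).card = 2 * (trs F 2).card := by
  classical
  rw [Finset.card_eq_sum_card_fiberwise (f := fun a : F => a + a⁻¹) (t := trs F 2)
    (fun a ha => split_mem_trs ha), Finset.sum_congr rfl (g := fun _ => (2 : ℕ)) ?_,
    Finset.sum_const, smul_eq_mul, mul_comm]
  intro t ht
  convert split_fibre ht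

theorem sum_split1 {M : Type*} [AddCommMonoid M] (Φ : F → M) :
    ∑ a ∈ splitVals F, Φ (a + a⁻¹) = 2 • ∑ t ∈ trs F 2, Φ t := by
  classical
  exact sum_two_to_one (fun a : F => a + a⁻¹) (fun a ha => split_mem_trs ha)
    (fun t ht => (split_fibre ht).le) card_splitVals_eq Φ

theorem sum_double1 {M : Type*} [AddCommMonoid M] (Φ : F → M) :
    ∑ t ∈ trs F 1, Φ t = ∑ r ∈ signs F, Φ (2 * r) := by
  classical
  refine (Finset.sum_bij (fun r _ => 2 * r) (fun r hr => ?_) (fun r hr s hs h => ?_)
    (fun t ht => ?_) (fun r _ => rfl)).symm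
  · rw [mem_trs, ← mem_signs.1 hr]
    exact card_rts_double r
  · exact double_injective h ((mem_signs.1 hr).trans (mem_signs.1 hs).symm)
  · obtain ⟨r, h1, h2⟩ := exists_double_of_card (mem_trs.1 ht)
    exact ⟨r, mem_signs.2 h2, h1⟩

theorem card_trs_one : (trs F 1).card = (signs F).card := by
  rw [Finset.card_eq_sum_ones, sum_double1, ← Finset.card_eq_sum_ones]

open Classical in
theorem sum_trs {M : Type*} [AddCommMonoid M] (Φ : F → M) :
    ∑ t, Φ t = ∑ t ∈ trs F 0, Φ t + ∑ t ∈ trs F 1, Φ t + ∑ t ∈ trs F 2, Φ t := by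
  rw [← Finset.sum_fiberwise_of_maps_to (t := Finset.range 3) (g := fun t : F => (rts t 1).card)
    (fun t _ => Finset.mem_range.2 (by have := card_rts_le t 1; omega))]
  simp only [Finset.sum_range_succ, Finset.sum_range_zero, zero_add, trs]

theorem card_trs_zero :
    2 * (trs F 0).card + (signs F).card = Fintype.card F + 1 := by
  have h := sum_trs (F := F) (fun _ => (1 : ℕ))
  simp only [Finset.sum_const, smul_eq_mul, mul_one, Finset.card_univ, card_trs_one] at h
  have h1 := card_splitVals (F := F)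
  rw [card_splitVals_eq] at h1
  have := Fintype.one_lt_card (α := F)
  omega

variable {t₀ d₀ : F}

open Classical in
/-- The norm-one part of the non-split torus, outside the centre. -/
noncomputable def ellOne (t₀ d₀ : F) : Finset (F × F) :=
  Finset.univ.filter fun v => v.2 ≠ 0 ∧ nf t₀ d₀ v.1 v.2 = 1

theorem card_nf_one_ell (h₀ : rts t₀ d₀ = ∅) :
    Nat.card {p : F × F // nf t₀ d₀ p.1 p.2 = 1} = Fintype.card F + 1 := by
  have h1 := card_nf_one_mul (t := t₀) (d := d₀) (Or.inl (dsc_ne_zero h₀))
  have h2 := card_nf_ne_zero t₀ d₀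
  rw [h₀, Finset.card_empty, mul_zero, add_zero, ← h1] at h2
  obtain ⟨k, hk⟩ := Nat.exists_eq_add_of_le (Fintype.one_lt_card : 1 < Fintype.card F)
  rw [hk] at h2 ⊢
  simp only [show 2 + k - 1 = k + 1 by omega] at h2
  nlinarith

theorem card_ellOne (h₀ : rts t₀ d₀ = ∅) :
    (ellOne t₀ d₀).card + (signs F).card = Fintype.card F + 1 := by
  classical
  rw [← card_nf_one_ell h₀, Nat.card_eq_fintype_card, Fintype.card_subtype,
    ← Finset.card_filter_add_card_filter_not
      (s := Finset.univ.filter fun p : F × F => nf t₀ d₀ p.1 p.2 = 1) (fun p : F × F => p.2 ≠ 0)]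
  congr 1
  · rw [Finset.filter_filter, ellOne]
    simp only [and_comm]
  · refine Finset.card_nbij (fun r => (r, 0)) (fun r hr => ?_)
      (fun r _ s _ h => congrArg Prod.fst h) (fun p hp => ?_)
    · exact Finset.mem_filter.2 ⟨Finset.mem_filter.2 ⟨Finset.mem_univ _,
        by simpa [nf] using mem_signs.1 (Finset.mem_coe.1 hr)⟩, by simp⟩
    · simp only [Finset.coe_filter, Finset.mem_filter, Finset.mem_univ, true_and,
        Set.mem_setOf_eq, not_not] at hp
      refine ⟨p.1, mem_signs.2 ?_, Prod.ext rfl hp.2.symm⟩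
      simpa [nf, hp.2] using hp.1

open Classical in
theorem sum_ell1 (h₀ : rts t₀ d₀ = ∅) {M : Type*} [AddCommMonoid M] (Φ : F → M) :
    ∑ v ∈ ellOne t₀ d₀, Φ (2 * v.1 + t₀ * v.2) = 2 • ∑ t ∈ trs F 0, Φ t := by
  refine sum_two_to_one (fun v : F × F => 2 * v.1 + t₀ * v.2) (fun v hv => ?_) (fun t _ => ?_) ?_ Φ
  · obtain ⟨hy, hn⟩ := (Finset.mem_filter.1 hv).2
    rw [mem_trs, ← hn, rts_ell h₀ hy, Finset.card_empty]
  · rcases ((ellOne t₀ d₀).filter fun v => 2 * v.1 + t₀ * v.2 = t).eq_empty_or_nonempty with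
      h | ⟨w, hw⟩
    · rw [h]; simp
    · refine (Finset.card_le_card (t := {w, (w.1 + t₀ * w.2, -w.2)}) ?_).trans Finset.card_le_two
      intro v hv
      simp only [ellOne, Finset.mem_filter, Finset.mem_univ, true_and] at hv hw
      rcases ell_fibre h₀ (hv.2.trans hw.2.symm) (hv.1.2.trans hw.1.2.symm) with ⟨a, b⟩ | ⟨a, b⟩
      · exact Finset.mem_insert.2 (Or.inl (Prod.ext a b))
      · exact Finset.mem_insert.2 (Or.inr (Finset.mem_singleton.2 (Prod.ext a b)))
  · have h1 := card_ellOne h₀
    have h2 := card_trs_zero (F := F)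
    omega

end CfsgLib.KnownB.GL2
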