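import Cfsg.Agent.Lib.KnownB.GL2.TableSLValues

/-!
The cuspidal series through an arbitrary cyclic subgroup of order `q + 1`.
-/

set_option autoImplicit false

namespace CfsgLib.KnownB.GL2

open scoped MatrixGroups ComplexConjugate

variable {F : Type*} [Field F] [Fintype F] [DecidableEq F] {t₀ d₀ : F}

local notation "Mat" => Matrix (Fin 2) (Fin 2) F
local notation "qC" => (Fintype.card F : ℂ)

theorem scal_of_center {z : SL(2, F)} (hz : z ∈ Subgroup.center SL(2, F)) : Scal (z : Mat) := by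
  have hu := congrArg (fun x : SL(2, F) => (x : Mat))
    (Subgroup.mem_center_iff.1 hz (parSL 1 1 (one_pow 2)))
  have hl := congrArg (fun x : SL(2, F) => (x : Mat))
    (Subgroup.mem_center_iff.1 hz (mkSL !![1, 0; 1, 1] (by simp [Matrix.det_fin_two_of])))
  simp only [Matrix.SpecialLinearGroup.coe_mul, coe_parSL, coe_mkSL] at hu hl
  have a := congrFun (congrFun hu 0) 0
  have b := congrFun (congrFun hu 0) 1
  have c := congrFun (congrFun hl 0) 0
  simp [Matrix.mul_apply, Fin.sum_univ_two] at a b c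
  refine ⟨?_, a, ?_⟩
  · linear_combination c
  · linear_combination -b

/-- A cyclic subgroup of order `q + 1` is conjugate to a non-split torus. -/
theorem exists_torS_equiv (hodd : Odd (Fintype.card F)) (C : Subgroup SL(2, F)) (hC : IsCyclic C)
    (hcard : Nat.card C = Fintype.card F + 1) :
    ∃ (t : F) (h₀ : rts t 1 = ∅) (e : C ≃* torS h₀),
      ∀ y : C, IsConj ((e y : torS h₀) : SL(2, F)) (y : SL(2, F)) := by
  obtain ⟨t₁, d₁, -, h₁⟩ := exists_irreducible (F := F)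
  obtain ⟨g, hg⟩ := IsCyclic.exists_generator (α := C)
  have ho : orderOf (g : SL(2, F)) = Fintype.card F + 1 := by
    rw [Subgroup.orderOf_coe, orderOf_eq_card_of_forall_mem_zpowers hg, hcard]
  set T := ((g : SL(2, F)) : Mat).trace with hT
  have hq := (Fintype.one_lt_card : 1 < Fintype.card F)
  have hsmall : ∀ k : ℕ, 0 < k → k < Fintype.card F + 1 → (g : SL(2, F)) ^ k ≠ 1 := fun k hk hk' h => by
    have := orderOf_le_of_pow_eq_one hk h
    omega
  have hr : rts T 1 = ∅ := by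
    rcases sl_cases h₁ (g : SL(2, F)) with ⟨r, hr⟩ | ⟨r, b, hc⟩ | ⟨a, ha, hc⟩ | ⟨c, hc0, hc⟩
    · refine absurd ?_ (hsmall 2 two_pos (by omega))
      rw [hr]
      refine Subtype.ext ?_
      show ((scalSL r.1 (sg_sq r) ^ 2 : SL(2, F)) : Mat) = 1
      rw [Matrix.SpecialLinearGroup.coe_pow, coe_scalSL, smul_pow, one_pow, sg_sq r, one_smul]
    · exfalso
      obtain ⟨p, hp⟩ := CharP.exists F
      obtain ⟨n, hpr, hn⟩ := FiniteField.card F p
      haveI : Fact p.Prime := ⟨hpr⟩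
      have h2p : (g : SL(2, F)) ^ (2 * p) = 1 := by
        obtain ⟨x, hx⟩ := isConj_iff.1 hc
        rw [← hx, conj_pow]
        suffices h : (parSL r.1 (b : F) (sg_sq r) : SL(2, F)) ^ (2 * p) = 1 by rw [h, mul_one, mul_inv_cancel]
        refine Subtype.ext ?_
        show ((parSL r.1 (b : F) (sg_sq r) ^ (2 * p) : SL(2, F)) : Mat) = 1
        rw [Matrix.SpecialLinearGroup.coe_pow]
        have key : ∀ k : ℕ, (parSL r.1 (b : F) (sg_sq r) : Mat) ^ k =
            !![r.1 ^ k, (k : F) * r.1 ^ (k - 1) * b; 0, r.1 ^ k] := by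
          intro k
          induction k with
          | zero => simp [Matrix.one_fin_two]
          | succ k ih =>
            rw [pow_succ, ih, coe_parSL]
            ext i j
            rcases k with _ | k
            · fin_cases i <;> fin_cases j <;> simp [Matrix.mul_apply, Fin.sum_univ_two]
            · fin_cases i <;> fin_cases j <;> simp [Matrix.mul_apply, Fin.sum_univ_two] <;> ring
        rw [key, pow_mul, sg_sq r, one_pow, Nat.cast_mul, CharP.cast_eq_zero F p]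
        simp [Matrix.one_fin_two]
      have hd : Fintype.card F + 1 ∣ 2 * p := ho ▸ orderOf_dvd_of_pow_eq_one h2p
      have hcop : Nat.Coprime (Fintype.card F + 1) p := by
        rw [hn, Nat.coprime_comm, hpr.coprime_iff_not_dvd]
        intro h
        exact hpr.ne_one (Nat.dvd_one.1 ((Nat.dvd_add_right (dvd_pow_self p n.ne_zero)).1 h))
      have := Nat.le_of_dvd two_pos (hcop.dvd_of_dvd_mul_right hd)
      omega
    · refine absurd ?_ (hsmall (Fintype.card F - 1) (by omega) (by omega))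
      obtain ⟨x, hx⟩ := isConj_iff.1 hc
      rw [← hx, conj_pow]
      suffices h : (diagSL a : SL(2, F)) ^ (Fintype.card F - 1) = 1 by rw [h, mul_one, mul_inv_cancel]
      refine Subtype.ext ?_
      show ((diagSL a ^ (Fintype.card F - 1) : SL(2, F)) : Mat) = 1
      have key : ∀ k : ℕ, (diagSL a : Mat) ^ k = !![(a : F) ^ k, 0; 0, ((a : F)⁻¹) ^ k] := by
        intro k
        induction k with
        | zero => simp [Matrix.one_fin_two]
        | succ k ih =>
          rw [pow_succ, ih, coe_diagSL]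
          ext i j
          fin_cases i <;> fin_cases j <;> simp [Matrix.mul_apply, Fin.sum_univ_two, pow_succ]
      rw [Matrix.SpecialLinearGroup.coe_pow, key, FiniteField.pow_card_sub_one_eq_one _ a.ne_zero,
        FiniteField.pow_card_sub_one_eq_one _ (inv_ne_zero a.ne_zero), Matrix.one_fin_two]
    · rw [hT, ← (sl_isConj_trace hc).1]
      exact rts_torS h₁ hc0
  have hns : ¬ Scal ((g : SL(2, F)) : Mat) := fun hs => by
    have h1 := sl_det (g : SL(2, F))
    rw [scal_eq hs] at h1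
    refine hsmall 2 two_pos (by omega) (Subtype.ext ?_)
    show (((g : SL(2, F)) ^ 2 : SL(2, F)) : Mat) = 1
    rw [Matrix.SpecialLinearGroup.coe_pow, scal_eq hs, smul_pow, one_pow]
    simp at h1 ⊢
    rcases h1 with h1 | h1 <;> simp [h1]
  have hd : dsc T 1 ≠ 0 := fun h => by
    have := mem_trs.1 (dsc_eq_zero_iff.1 h)
    simp [hr] at this
  obtain ⟨x, hx⟩ := isConj_iff.1 (sl_isConj_of_trace (g := compSL T) (not_scal_comp _ _) hns
    (by rw [coe_compSL, trace_comp]) (Or.inl (by rw [coe_compSL, trace_comp]; exact hd)))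
  have hcomm : ∀ y : C, Commute (compSL T) (x⁻¹ * (y : SL(2, F)) * x) := fun y => by
    obtain ⟨k, rfl⟩ := Subgroup.mem_zpowers_iff.1 (hg y)
    have e : x⁻¹ * ((g : SL(2, F)) ^ k) * x = compSL T ^ k := by
      rw [← hx, conj_zpow]; group
    rw [Subgroup.coe_zpow, e]
    exact Commute.self_zpow _ _
  have hmem : ∀ y : C, x⁻¹ * (y : SL(2, F)) * x ∈ torS hr := fun y => by
    show Matrix.SpecialLinearGroup.toGL _ ∈ torG hr
    rw [torG, Subgroup.mem_centralizer_singleton_iff]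
    refine Units.ext ?_
    have e := congrArg (fun z : SL(2, F) => (z : Mat)) (hcomm y).eq
    simp only [Matrix.SpecialLinearGroup.coe_mul, coe_compSL] at e
    exact e.symm
  let f : C →* torS hr := MonoidHom.mk' (fun y => ⟨x⁻¹ * (y : SL(2, F)) * x, hmem y⟩) fun a b =>
    Subtype.ext (by show x⁻¹ * ((a * b : C) : SL(2, F)) * x = x⁻¹ * a * x * (x⁻¹ * b * x)
                    rw [Subgroup.coe_mul]; group)
  have hinj : Function.Injective f := fun a b h => by
    have h' := congrArg Subtype.val h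
    exact Subtype.ext (mul_left_cancel (mul_right_cancel h'))
  have hbij : Function.Bijective f :=
    (Nat.bijective_iff_injective_and_card f).2 ⟨hinj, by rw [hcard, card_torS]⟩
  exact ⟨T, hr, MulEquiv.ofBijective f hbij, fun y => isConj_iff.2 ⟨x, by
    show x * (x⁻¹ * (y : SL(2, F)) * x) * x⁻¹ = y
    group⟩⟩

theorem piS_central (h₀ : rts t₀ d₀ = ∅) (ψ : torS h₀ →* ℂˣ) (r : Sg F) (g : SL(2, F)) :
    piS h₀ ψ (scalSL r.1 (sg_sq r) * g) = (ψ (sgT h₀ r) : ℂ) * piS h₀ ψ g := by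
  have hz : ∀ x : SL(2, F), x * scalSL r.1 (sg_sq r) = scalSL r.1 (sg_sq r) * x :=
    Subgroup.mem_center_iff.1 (scal_center (scal_scalSL _ _))
  have hred : ∀ k : SL(2, F), IsConj k g →
      piS h₀ ψ (scalSL r.1 (sg_sq r) * k) = (ψ (sgT h₀ r) : ℂ) * piS h₀ ψ k →
      piS h₀ ψ (scalSL r.1 (sg_sq r) * g) = (ψ (sgT h₀ r) : ℂ) * piS h₀ ψ g := by
    intro k hk e
    obtain ⟨x, hx⟩ := isConj_iff.1 hk
    rw [← piS_isClassFunction h₀ ψ hk, ← e]
    refine (piS_isClassFunction h₀ ψ (isConj_iff.2 ⟨x, ?_⟩)).symm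
    rw [← hx, ← mul_assoc x, hz x]
    simp only [mul_assoc]
  have hsg : ∀ s : Sg F, ∃ t : Sg F, t.1 = r.1 * s.1 ∧ sgT h₀ r * sgT h₀ s = sgT h₀ t := fun s =>
    ⟨⟨r.1 * s.1, mem_signs.2 (by rw [mul_pow, sg_sq r, sg_sq s, one_mul])⟩, rfl,
      Subtype.ext (Subtype.ext (by
        show (r.1 • (1 : Mat)) * (s.1 • (1 : Mat)) = (r.1 * s.1) • (1 : Mat)
        rw [smul_mul_smul_comm, one_mul]))⟩
  rcases sl_cases h₀ g with ⟨s, rfl⟩ | ⟨s, b, hc⟩ | ⟨a, ha, hc⟩ | ⟨c, hc0, hc⟩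
  · obtain ⟨t, ht, hm⟩ := hsg s
    have e : scalSL r.1 (sg_sq r) * scalSL s.1 (sg_sq s) = scalSL t.1 (sg_sq t) :=
      congrArg Subtype.val hm
    rw [e, piS_scal, piS_scal, ← hm, map_mul, Units.val_mul]
    ring
  · obtain ⟨t, ht, hm⟩ := hsg s
    refine hred _ hc ?_
    have e : scalSL r.1 (sg_sq r) * parSL s.1 (b : F) (sg_sq s) =
        parSL t.1 ((sgU r * b : Fˣ) : F) (sg_sq t) := by
      refine Subtype.ext ?_
      show (scalSL r.1 (sg_sq r) : Mat) * (parSL s.1 (b : F) (sg_sq s) : Mat) = _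
      rw [coe_scalSL, coe_parSL]
      show _ = !![t.1, ((sgU r * b : Fˣ) : F); 0, t.1]
      rw [ht]
      ext i j
      fin_cases i <;> fin_cases j <;> simp [sgU]
    rw [e, piS_par h₀ ψ t (Units.ne_zero _), piS_par h₀ ψ s b.ne_zero, ← hm, map_mul, Units.val_mul]
    ring
  · refine hred _ hc ?_
    have ha' : ((sgU r * a : Fˣ) : F) ^ 2 ≠ 1 := by
      rw [Units.val_mul, mul_pow, sgU, Units.val_mk0, sg_sq r, one_mul]; exact ha
    have e : scalSL r.1 (sg_sq r) * diagSL a = diagSL (sgU r * a) := by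
      refine Subtype.ext ?_
      show (scalSL r.1 (sg_sq r) : Mat) * (diagSL a : Mat) = (diagSL (sgU r * a) : Mat)
      rw [coe_scalSL, coe_diagSL, coe_diagSL]
      have hr : (r.1 : F)⁻¹ = r.1 := inv_eq_of_mul_eq_one_right (by rw [← sq]; exact sg_sq r)
      ext i j
      fin_cases i <;> fin_cases j <;> simp [sgU, hr, mul_comm]
    rw [e, piS_diag h₀ ψ ha', piS_diag h₀ ψ ha, mul_zero]
  · refine hred _ hc ?_
    have hne : ¬ Scal (((sgT h₀ r * c : torS h₀) : SL(2, F)) : Mat) := fun hs => hc0 (by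
      have e : ((c : SL(2, F)) : Mat) = r.1 • (((sgT h₀ r * c : torS h₀) : SL(2, F)) : Mat) := by
        show _ = r.1 • ((scalSL r.1 (sg_sq r) : Mat) * ((c : SL(2, F)) : Mat))
        rw [coe_scalSL, Matrix.smul_mul, one_mul, smul_smul, ← sq, sg_sq r, one_smul]
      rw [e, scal_eq hs]
      exact (scal_iff_exists _).2 ⟨_, smul_smul _ _ _⟩)
    have hi : (sgT h₀ r)⁻¹ = sgT h₀ r := by
      refine inv_eq_of_mul_eq_one_right (Subtype.ext (Subtype.ext ?_))
      show (r.1 • (1 : Mat)) * (r.1 • (1 : Mat)) = 1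
      rw [smul_mul_smul_comm, ← sq r.1, sg_sq r, one_smul, one_mul]
    rw [show scalSL r.1 (sg_sq r) * (c : SL(2, F)) = ((sgT h₀ r * c : torS h₀) : SL(2, F)) from rfl,
      piS_tor h₀ ψ hne, piS_tor h₀ ψ hc0, map_mul, mul_inv, ← map_inv ψ (sgT h₀ r), hi,
      Units.val_mul, Units.val_mul]
    ring

theorem exists_hom_sq_ne_one (hodd : Odd (Fintype.card F)) (h₀ : rts t₀ d₀ = ∅) :
    ∃ ψ : torS h₀ →* ℂˣ, ψ ^ 2 ≠ 1 := by
  by_contra hc
  push Not at hc
  have h := card_sq_torS_odd h₀ hodd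
  rw [Nat.card_congr (Equiv.subtypeUnivEquiv hc), CommGroup.card_monoidHom_of_hasEnoughRootsOfUnity,
    card_torS] at h
  have := (Fintype.one_lt_card : 1 < Fintype.card F)
  omega

theorem cuspidal_through_torus (hodd : Odd (Fintype.card F)) (C : Subgroup SL(2, F)) (hC : IsCyclic C)
    (hcard : Nat.card C = Fintype.card F + 1) :
    (∀ θ : C →* ℂˣ, (∃ c : C, θ c ^ 2 ≠ 1) →
      ∃ χ : SL(2, F) → ℂ, Cfsg.IsIrrCharacter SL(2, F) χ ∧ χ 1 = qC - 1 ∧
        (∀ c : C, (c : SL(2, F)) ∉ Subgroup.center SL(2, F) → χ c = -((θ c).val + (θ c)⁻¹.val)) ∧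
        (∀ c : C, (c : SL(2, F)) ∈ Subgroup.center SL(2, F) → ∀ g : SL(2, F),
          χ ((c : SL(2, F)) * g) = (θ c).val * χ g) ∧
        (∀ g : SL(2, F), (g : Mat) 0 1 = 0 → (g : Mat) 1 0 = 0 → (g : Mat) 0 0 ^ 2 ≠ 1 → χ g = 0) ∧
        (∀ g : SL(2, F), (g : Mat) 1 0 = 0 → (g : Mat) 0 0 = 1 → (g : Mat) 1 1 = 1 → (g : Mat) 0 1 ≠ 0 →
          χ g = -1)) ∧
    (∀ χ : SL(2, F) → ℂ, Cfsg.IsIrrCharacter SL(2, F) χ → χ 1 = qC - 1 →
      ∃ θ : C →* ℂˣ, (∃ c : C, θ c ^ 2 ≠ 1) ∧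
        ∀ c : C, (c : SL(2, F)) ∉ Subgroup.center SL(2, F) → χ c = -((θ c).val + (θ c)⁻¹.val)) := by
  obtain ⟨t, h₀, e, he⟩ := exists_torS_equiv hodd C hC hcard
  have hnc : ∀ c : C, (c : SL(2, F)) ∉ Subgroup.center SL(2, F) →
      ¬ Scal (((e c : torS h₀) : SL(2, F)) : Mat) := fun c hc hs => hc (by
    rw [← (sl_isConj_trace (he c)).2 hs]
    exact scal_center hs)
  constructor
  · rintro θ ⟨c₁, hc₁⟩
    set ψ := θ.comp e.symm.toMonoidHom with hψd
    have hψe : ∀ c, ψ (e c) = θ c := fun c => by simp [hψd]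
    have hψ : ψ ^ 2 ≠ 1 := fun h => hc₁ (by rw [← hψe]; exact DFunLike.congr_fun h (e c₁))
    refine ⟨piS h₀ ψ, isIrr_piS h₀ hψ, piS_apply_one h₀ ψ, fun c hc => ?_, fun c hc g => ?_,
      fun g h01 h10 ha => ?_, fun g h10 h00 h11 h01 => ?_⟩
    · rw [← piS_isClassFunction h₀ ψ (he c), piS_tor h₀ ψ (hnc c hc), hψe]
    · have hs := scal_of_center hc
      have h1 := sl_det (c : SL(2, F))
      rw [scal_eq hs] at h1
      set r : Sg F := ⟨((c : SL(2, F)) : Mat) 0 0, mem_signs.2 (by simpa using h1)⟩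
      have hcr : (c : SL(2, F)) = scalSL r.1 (sg_sq r) := Subtype.ext (scal_eq hs)
      obtain ⟨x, hx⟩ := isConj_iff.1 (he c).symm
      rw [Subgroup.mem_center_iff.1 hc x, mul_inv_cancel_right] at hx
      rw [hcr, piS_central]
      congr 2
      rw [← hψe c]
      exact congrArg ψ (Subtype.ext (hcr.symm.trans hx))
    · obtain ⟨a, hae, rfl⟩ := diag_of_entries h01 h10
      exact piS_diag h₀ ψ (by rw [hae]; exact ha)
    · have e1 : g = parSL 1 ((g : Mat) 0 1) (one_pow 2) := by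
        refine Subtype.ext ?_
        show (g : Mat) = !![1, (g : Mat) 0 1; 0, 1]
        ext i j
        fin_cases i <;> fin_cases j <;> simp [h10, h00, h11]
      rw [e1, piS_par h₀ ψ ⟨1, sg_one⟩ h01, sgT_one, map_one, Units.val_one]
  · intro χ hχ hd
    have mk : ∀ ψ : torS h₀ →* ℂˣ, ψ ^ 2 ≠ 1 → ∃ c : C, ψ.comp e.toMonoidHom c ^ 2 ≠ 1 := fun ψ hψ => by
      by_contra hn
      push Not at hn
      refine hψ (MonoidHom.ext fun y => ?_)
      have := hn (e.symm y)
      simpa using this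
    obtain ⟨T⟩ := exists_oddTable h₀ hodd
    obtain ⟨n, hn, hc⟩ := irr_SL_odd T hodd hχ
    have hn' : n = Fintype.card F - 1 := by
      rw [hn, cast_q_sub_one] at hd
      exact_mod_cast hd
    have hm := Nat.odd_iff.1 hodd
    have hq := (Fintype.one_lt_card : 1 < Fintype.card F)
    rcases hc with ⟨k, h⟩ | ⟨k, h⟩ | ⟨k, h⟩ | ⟨k, ψ, hψ, h⟩ | ⟨k, h⟩ | ⟨k, h⟩
    · omega
    · omega
    · omega
    · refine ⟨ψ.comp e.toMonoidHom, mk ψ hψ, fun c hc => ?_⟩
      rw [h, ← piS_isClassFunction h₀ ψ (he c), piS_tor h₀ ψ (hnc c hc)]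
      rfl
    · -- `q = 3`
      have hq3 : Fintype.card F = 3 := by omega
      obtain ⟨ψ, hψ⟩ := exists_hom_sq_ne_one hodd h₀
      refine ⟨ψ.comp e.toMonoidHom, mk ψ hψ, fun c hc => ?_⟩
      have hz : piS h₀ ψ ((e c : torS h₀) : SL(2, F)) = 0 :=
        (vanishing_SL_odd hodd _ (isIrr_piS h₀ hψ) _).2
          (Or.inr (by rw [piS_apply_one, hq3]; norm_num)) fun s v hv hsv => by
            have := root_of_eigen hv hsv
            rw [sl_det, rts_torS h₀ (hnc c hc)] at this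
            simp at this
      rw [piS_tor h₀ ψ (hnc c hc)] at hz
      rw [← irr_conj hχ (he c)]
      show χ _ = -((ψ (e c) : ℂ) + ((ψ (e c))⁻¹ : ℂˣ))
      rw [hz]
      rcases h with h | h <;> rw [h]
      · rw [(T.HI.semi_eq (semi_tor (hnc c hc))).1, indS_tor _ (hnc c hc), zero_div]
      · rw [(T.HI.semi_eq (semi_tor (hnc c hc))).2, indS_tor _ (hnc c hc), zero_div]
    · omega

end CfsgLib.KnownB.GL2
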