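import Cfsg.Agent.Lib.KnownB.GL2.CountSL

/-!
Elementary consequences: eigenvectors, unipotent elements.
-/

set_option autoImplicit false

namespace CfsgLib.KnownB.GL2

open scoped MatrixGroups

variable {F : Type*} [Field F] [Fintype F]

local notation "Mat" => Matrix (Fin 2) (Fin 2) F

theorem exists_eigen_of_root {M : Mat} {r : F} (hr : r ∈ rts M.trace M.det) :
    ∃ v : Fin 2 → F, v ≠ 0 ∧ M.mulVec v = r • v := by
  rw [mem_rts, Matrix.trace_fin_two, Matrix.det_fin_two] at hr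
  have h0 : (M - r • (1 : Mat)).det = 0 := by
    rw [Matrix.det_fin_two]
    simp
    linear_combination hr
  obtain ⟨v, hv, hv'⟩ := Matrix.exists_mulVec_eq_zero_iff.2 h0
  refine ⟨v, hv, ?_⟩
  rw [Matrix.sub_mulVec, Matrix.smul_mulVec, Matrix.one_mulVec, sub_eq_zero] at hv'
  exact hv'

theorem root_of_eigen {M : Mat} {r : F} {v : Fin 2 → F} (hv : v ≠ 0) (h : M.mulVec v = r • v) :
    r ∈ rts M.trace M.det := by
  have h0 : (M - r • (1 : Mat)).det = 0 := Matrix.exists_mulVec_eq_zero_iff.1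
    ⟨v, hv, by rw [Matrix.sub_mulVec, Matrix.smul_mulVec, Matrix.one_mulVec, h, sub_self]⟩
  rw [Matrix.det_fin_two] at h0
  simp at h0
  rw [mem_rts, Matrix.trace_fin_two, Matrix.det_fin_two]
  linear_combination h0

theorem elliptic_of_noEigen (M : Mat)
    (h : ∀ (c : F) (v : Fin 2 → F), v ≠ 0 → M.mulVec v ≠ c • v) :
    ¬ Scal M ∧ rts M.trace M.det = ∅ := by
  refine ⟨fun hs => ?_, Finset.eq_empty_of_forall_notMem fun r hr => ?_⟩
  · refine h (M 0 0) ![1, 0] (fun h' => by simpa using congrFun h' 0) ?_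
    conv_lhs => rw [scal_eq hs]
    rw [Matrix.smul_mulVec, Matrix.one_mulVec]
  · obtain ⟨v, hv, hv'⟩ := exists_eigen_of_root hr
    exact h r v hv hv'

/-- An element of order the characteristic has trace two and is not scalar. -/
theorem unipotent_data (p : ℕ) [Fact p.Prime] [CharP F p] (g : SL(2, F)) (hg : orderOf g = p) :
    ¬ Scal (g : Mat) ∧ (g : Mat).trace = 2 := by
  have hchar : CharP Mat p := charP_of_injective_algebraMap (algebraMap F Mat).injective p
  have hnil : ((g : Mat) - 1) ^ p = 0 := by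
    rw [sub_pow_char_of_commute _ (Commute.one_right _), one_pow, sub_eq_zero,
      ← Matrix.SpecialLinearGroup.coe_pow, ← hg, pow_orderOf_eq_one, Matrix.SpecialLinearGroup.coe_one]
  have hch := sub_eq_zero.1 (Matrix.isNilpotent_charpoly_sub_pow_of_isNilpotent ⟨p, hnil⟩).eq_zero
  have htr : ((g : Mat) - 1).trace = 0 := by
    rw [Matrix.trace_eq_neg_charpoly_coeff, hch]; simp
  rw [Matrix.trace_sub, Matrix.trace_one, Fintype.card_fin, sub_eq_zero] at htr
  have htr' : (g : Mat).trace = 2 := by rw [htr]; norm_num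
  refine ⟨fun hs => ?_, htr'⟩
  have h00 : (g : Mat) 0 0 = 1 := by
    have hd := sl_det g
    rw [scal_eq hs] at hd
    simp at hd
    rw [scal_eq hs] at htr'
    simp [Matrix.trace_fin_two] at htr'
    refine double_injective ?_ ?_
    · linear_combination htr'
    · rcases hd with h | h <;> rw [h] <;> ring
  have : g = 1 := Subtype.ext (by
    show (g : Mat) = 1
    rw [scal_eq hs, h00, one_smul])
  exact (Fact.out : p.Prime).ne_one (by rw [← hg, this, orderOf_one])

theorem carrier_card_mul {G : Type*} [Group G] [Finite G] (g : G) :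
    Nat.card (ConjClasses.mk g).carrier * Nat.card (Subgroup.centralizer ({g} : Set G)) =
      Nat.card G := by
  rw [← CfsgLib.Char.card_conjugates_mul g]
  congr 1
  refine Nat.card_congr (Equiv.subtypeEquivRight fun x => ?_)
  rw [ConjClasses.mem_carrier_iff_mk_eq, ConjClasses.mk_eq_mk_iff_isConj]

theorem involutions_char_two [CharP F 2] (g h : SL(2, F)) (hg : orderOf g = 2) (hh : orderOf h = 2) :
    IsConj g h ∧ Nat.card (ConjClasses.mk g).carrier = Fintype.card F ^ 2 - 1 := by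
  have : Fact (Nat.Prime 2) := ⟨Nat.prime_two⟩
  obtain ⟨hsg, htg⟩ := unipotent_data 2 g hg
  obtain ⟨hsh, hth⟩ := unipotent_data 2 h hh
  have h2 : (2 : F) = 0 := CharTwo.two_eq_zero
  refine ⟨sl_isConj_of_trace hsg hsh (htg.trans hth.symm) (Or.inr h2), ?_⟩
  have hk : (rts (g : Mat).trace 1).card = 1 :=
    mem_trs.1 (dsc_eq_zero_iff.1 (by rw [htg, dsc]; ring))
  have hc := card_centSL g hsg (Or.inr h2)
  rw [hk, mul_one] at hc
  have hcent : Nat.card (Subgroup.centralizer ({g} : Set SL(2, F))) = Fintype.card F := by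
    obtain ⟨k, hk'⟩ := Nat.exists_eq_add_of_le (Fintype.one_lt_card : 1 < Fintype.card F)
    rw [hk'] at hc ⊢
    rw [show Nat.succ 1 + k - 1 = k + 1 by omega] at hc
    nlinarith
  have := carrier_card_mul g
  rw [hcent, card_SL, mul_comm] at this
  exact Nat.eq_of_mul_eq_mul_left Fintype.card_pos this

theorem two_ne_zero_of_char (p : ℕ) [Fact p.Prime] [CharP F p] (hp : p ≠ 2) : (2 : F) ≠ 0 := by
  intro h
  have h' : ((2 : ℕ) : F) = 0 := by exact_mod_cast h
  exact hp ((Nat.prime_dvd_prime_iff_eq Fact.out Nat.prime_two).mp ((CharP.cast_eq_zero_iff F p 2).mp h'))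

theorem parSL_isConj_square {b b' : F} (hb : b ≠ 0) (hb' : b' ≠ 0) :
    IsConj (parSL 1 b (one_pow 2)) (parSL 1 b' (one_pow 2)) ↔ IsSquare (b * b') := by
  rw [parSL_isConj _ _ hb]
  constructor
  · rintro ⟨-, a, -, rfl⟩
    exact ⟨b * a, by ring⟩
  · rintro ⟨c, hc⟩
    have hc0 : c ≠ 0 := fun h => mul_ne_zero hb hb' (by rw [hc, h, mul_zero])
    exact ⟨rfl, c / b, div_ne_zero hc0 hb, by field_simp; linear_combination hc⟩

theorem unipotent_odd (p : ℕ) [Fact p.Prime] [CharP F p] (hp : p ≠ 2) :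
    Nat.card {C : ConjClasses SL(2, F) // ∃ g : SL(2, F), orderOf g = p ∧ ConjClasses.mk g = C} = 2 ∧
    (∀ g : SL(2, F), orderOf g = p →
      Nat.card (ConjClasses.mk g).carrier = (Fintype.card F ^ 2 - 1) / 2) ∧
    ∀ g h : SL(2, F), (g : Mat) 0 0 = 1 → (g : Mat) 1 1 = 1 → (g : Mat) 1 0 = 0 → (g : Mat) 0 1 ≠ 0 →
      (h : Mat) 0 0 = 1 → (h : Mat) 1 1 = 1 → (h : Mat) 1 0 = 0 → (h : Mat) 0 1 ≠ 0 →
      (IsConj g h ↔ IsSquare ((g : Mat) 0 1 * (h : Mat) 0 1)) := by
  classical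
  have h2 := two_ne_zero_of_char (F := F) p hp
  have h1 : (1 : F) ^ 2 = 1 := one_pow 2
  have hpow : ∀ (b : F) (n : ℕ), ((parSL 1 b h1 : SL(2, F)) : Mat) ^ n = !![1, (n : F) * b; 0, 1] := by
    intro b n
    induction n with
    | zero => ext i j; fin_cases i <;> fin_cases j <;> simp
    | succ n ih =>
      rw [pow_succ, ih, coe_parSL]
      ext i j; fin_cases i <;> fin_cases j <;> simp [Matrix.mul_apply, Fin.sum_univ_two]; ring
  have hord : ∀ b : Fˣ, orderOf (parSL 1 (b : F) h1) = p := fun b => by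
    refine orderOf_eq_prime (Subtype.ext ?_) fun h' => ?_
    · show ((parSL 1 (b : F) h1) ^ p : SL(2, F)).1 = 1
      rw [Matrix.SpecialLinearGroup.coe_pow, hpow, CharP.cast_eq_zero, zero_mul]
      ext i j; fin_cases i <;> fin_cases j <;> simp
    · have := congrArg (fun g : SL(2, F) => (g : Mat) 0 1) h'
      simp [coe_parSL] at this
  have hform : ∀ g : SL(2, F), orderOf g = p →
      ∃ b : Fˣ, IsConj (parSL 1 (b : F) h1) g := fun g hg => by
    obtain ⟨hs, ht⟩ := unipotent_data p g hg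
    obtain ⟨r, hr, b, hc⟩ := exists_parSL hs (by rw [ht, dsc]; ring)
    obtain rfl : r = 1 := double_injective (by
      rw [← trace_parSL r b hr, (sl_isConj_trace hc).1, ht, mul_one]) (hr.trans h1.symm)
    exact ⟨b, hc⟩
  refine ⟨?_, fun g hg => ?_, fun g h g0 g1 g2 g3 k0 k1 k2 k3 => ?_⟩
  · have hidx : Nat.card (Fˣ ⧸ sqUnits F) = 2 := by
      rw [← Subgroup.index_eq_card, card_sqUnits_index, card_signs_odd h2]
    refine Eq.trans ?_ hidx
    refine (Nat.card_congr (Equiv.ofBijective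
      (fun c : Fˣ ⧸ sqUnits F => (⟨ConjClasses.mk (repSL (.inr (.inr (⟨1, mem_signs.2 h1⟩, c)))),
        _, hord c.out, rfl⟩ :
        {C : ConjClasses SL(2, F) // ∃ g : SL(2, F), orderOf g = p ∧ ConjClasses.mk g = C}))
      ⟨fun c c' h => by simpa using repSL_bijective.1 (congrArg Subtype.val h), ?_⟩)).symm
    rintro ⟨C, g, hg, rfl⟩
    obtain ⟨b, hc⟩ := hform g hg
    refine ⟨QuotientGroup.mk b, Subtype.ext (ConjClasses.mk_eq_mk_iff_isConj.2 (IsConj.trans ?_ hc))⟩
    obtain ⟨u, hu⟩ := QuotientGroup.mk_out_eq_mul (sqUnits F) b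
    obtain ⟨a, ha⟩ := mem_sqUnits.1 u.2
    refine (parSL_isConj h1 h1 (Units.ne_zero _)).2 ⟨rfl, ((a⁻¹ : Fˣ) : F), Units.ne_zero _, ?_⟩
    rw [hu, ← ha]
    simp
  · obtain ⟨hs, ht⟩ := unipotent_data p g hg
    have hm := carrier_card_mul g
    rw [card_centSL_parabolic g hs (by rw [ht, dsc]; ring) h2, card_SL] at hm
    have he : Nat.card (ConjClasses.mk g).carrier * 2 = Fintype.card F ^ 2 - 1 :=
      Nat.eq_of_mul_eq_mul_left (Fintype.card_pos (α := F)) (by rw [← hm]; ring)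
    rw [← he, Nat.mul_div_cancel _ two_pos]
  · have eg : g = parSL 1 ((g : Mat) 0 1) h1 := Subtype.ext (by
      show (g : Mat) = _
      rw [coe_parSL]; ext i j; fin_cases i <;> fin_cases j <;> simp [g0, g1, g2])
    have eh : h = parSL 1 ((h : Mat) 0 1) h1 := Subtype.ext (by
      show (h : Mat) = _
      rw [coe_parSL]; ext i j; fin_cases i <;> fin_cases j <;> simp [k0, k1, k2])
    conv_lhs => rw [eg, eh]
    exact parSL_isConj_square g3 k3

end CfsgLib.KnownB.GL2
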