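import Cfsg.Agent.Lib.KnownB.GL2.Count

/-!
The conjugacy classes of `SL₂` over a finite field and sums of class functions.
-/

set_option autoImplicit false

namespace CfsgLib.KnownB.GL2

open scoped MatrixGroups

variable {F : Type*} [Field F]

local notation "Mat" => Matrix (Fin 2) (Fin 2) F

/-- A triangular element with repeated diagonal entry. -/
def parSL (r b : F) (h : r ^ 2 = 1) : SL(2, F) :=
  mkSL !![r, b; 0, r] (by rw [Matrix.det_fin_two_of]; linear_combination h)

theorem coe_parSL (r b : F) (h : r ^ 2 = 1) : (parSL r b h : Mat) = !![r, b; 0, r] := rfl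

theorem not_scal_parSL {r b : F} (h : r ^ 2 = 1) (hb : b ≠ 0) : ¬ Scal (parSL r b h : Mat) :=
  fun hs => hb (by simpa [coe_parSL] using hs.1)

theorem trace_parSL (r b : F) (h : r ^ 2 = 1) : (parSL r b h : Mat).trace = 2 * r := by
  simp [coe_parSL, Matrix.trace_fin_two, two_mul]

/-- A companion element of `SL₂`. -/
def compSL (t : F) : SL(2, F) := mkSL (comp t 1) (det_comp t 1)

theorem coe_compSL (t : F) : (compSL t : Mat) = comp t 1 := rfl

/-- A scalar element of `SL₂`. -/
def scalSL (r : F) (h : r ^ 2 = 1) : SL(2, F) :=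
  mkSL (r • (1 : Mat)) (by simp [h])

theorem coe_scalSL (r : F) (h : r ^ 2 = 1) : (scalSL r h : Mat) = r • 1 := rfl

theorem scal_scalSL (r : F) (h : r ^ 2 = 1) : Scal (scalSL r h : Mat) :=
  (scal_iff_exists _).2 ⟨r, coe_scalSL r h⟩

theorem parSL_isConj [Fintype F] {r r' b b' : F} (h : r ^ 2 = 1) (h' : r' ^ 2 = 1) (hb : b ≠ 0) :
    IsConj (parSL r b h) (parSL r' b' h') ↔ r = r' ∧ ∃ a : F, a ≠ 0 ∧ b' = b * a ^ 2 := by
  constructor
  · intro hc
    have ht := (sl_isConj_trace hc).1
    rw [trace_parSL, trace_parSL] at ht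
    have hr : r = r' := double_injective ht (h.trans h'.symm)
    subst hr
    obtain ⟨x, hx⟩ := isConj_iff.1 hc
    rw [mul_inv_eq_iff_eq_mul] at hx
    have hm : (x : Mat) * (parSL r b h : Mat) = (parSL r b' h' : Mat) * x :=
      congrArg Subtype.val hx
    have hdet := sl_det x
    rw [Matrix.det_fin_two] at hdet
    have e01 := congrFun (congrFun hm 0) 1
    have e11 := congrFun (congrFun hm 1) 1
    simp [coe_parSL, Matrix.mul_apply, Fin.sum_univ_two] at e01 e11
    have h10 : (x : Mat) 1 0 = 0 := by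
      have : (x : Mat) 1 0 * b = 0 := by linear_combination e11
      exact (mul_eq_zero.1 this).resolve_right hb
    rw [h10, mul_zero, sub_zero] at hdet
    exact ⟨rfl, (x : Mat) 0 0, left_ne_zero_of_mul_eq_one hdet,
      by linear_combination -(x : Mat) 0 0 * e01 - b' * hdet⟩
  · rintro ⟨rfl, a, ha, rfl⟩
    refine isConj_iff.2 ⟨mkSL !![a, 0; 0, a⁻¹] (by simp [Matrix.det_fin_two_of, ha]), ?_⟩
    rw [mul_inv_eq_iff_eq_mul]
    apply Subtype.ext
    show !![a, 0; 0, a⁻¹] * (parSL r b h : Mat) = (parSL r (b * a ^ 2) h' : Mat) * !![a, 0; 0, a⁻¹]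
    ext i j
    fin_cases i <;> fin_cases j <;>
      simp [coe_parSL, Matrix.mul_apply, Fin.sum_univ_two] <;> field_simp

variable (F) in
/-- The squares among the units. -/
def sqUnits : Subgroup Fˣ := (powMonoidHom 2 : Fˣ →* Fˣ).range

theorem mem_sqUnits {u : Fˣ} : u ∈ sqUnits F ↔ ∃ a : Fˣ, a ^ 2 = u := Iff.rfl

variable [Fintype F]

theorem card_sqUnits_index : (sqUnits F).index = (signs F).card := by
  classical
  have h := (sqUnits F).index_mul_card
  have hk := (powMonoidHom 2 : Fˣ →* Fˣ).ker.index_mul_card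
  rw [Subgroup.index_ker] at hk
  have hs : Nat.card (powMonoidHom 2 : Fˣ →* Fˣ).ker = (signs F).card := by
    rw [← Nat.card_eq_finsetCard]
    refine Nat.card_congr
      { toFun := fun u => ⟨(u.1 : F), mem_signs.2 (by
          have := congrArg Units.val (MonoidHom.mem_ker.1 u.2)
          simpa using this)⟩
        invFun := fun r => ⟨Units.mk0 r.1 (fun h0 => by
          have := mem_signs.1 r.2; simp [h0] at this), MonoidHom.mem_ker.2 (Units.ext (by
            simpa using mem_signs.1 r.2))⟩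
        left_inv := fun u => Subtype.ext (Units.ext rfl)
        right_inv := fun r => rfl }
  rw [hs] at hk
  refine Nat.eq_of_mul_eq_mul_right (m := Nat.card (sqUnits F)) Nat.card_pos ?_
  rw [h, ← hk, sqUnits, mul_comm]

/-- Indices of the classes of `SL₂`. -/
abbrev IdxSL (F : Type*) [Field F] [Fintype F] : Type _ :=
  {r // r ∈ signs F} ⊕ ({t : F // dsc t 1 ≠ 0} ⊕ ({r // r ∈ signs F} × (Fˣ ⧸ sqUnits F)))

/-- Representatives of the classes of `SL₂`. -/
noncomputable def repSL : IdxSL F → SL(2, F)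
  | .inl r => scalSL r.1 (mem_signs.1 r.2)
  | .inr (.inl t) => compSL t.1
  | .inr (.inr (r, c)) => parSL r.1 (c.out : F) (mem_signs.1 r.2)

theorem dsc_double {r : F} (h : r ^ 2 = 1) : dsc (2 * r) 1 = 0 := by
  rw [dsc]; linear_combination 4 * h

theorem dsc_eq_zero_iff {t : F} : dsc t 1 = 0 ↔ t ∈ trs F 1 := by
  rw [mem_trs, card_rts_eq_one_iff]
  refine ⟨fun h => ⟨?_, h⟩, And.right⟩
  by_contra hne
  rw [Finset.not_nonempty_iff_eq_empty] at hne
  exact dsc_ne_zero hne h

theorem exists_parSL {g : SL(2, F)} (hg : ¬ Scal (g : Mat)) (hd : dsc (g : Mat).trace 1 = 0) :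
    ∃ (r : F) (h : r ^ 2 = 1) (b : Fˣ), IsConj (parSL r b h) g := by
  obtain ⟨r, h1, h2⟩ := exists_double_of_card (mem_trs.1 (dsc_eq_zero_iff.1 hd))
  have hu : ¬ Scal (parSL r 1 h2 : Mat) := not_scal_parSL h2 one_ne_zero
  obtain ⟨P, hP, hP'⟩ := exists_similar hg hu (by rw [trace_parSL]; exact h1.symm)
    (by rw [sl_det, sl_det])
  set a : Mat := !![1, 0; 0, P.det⁻¹] with ha
  have hdet : (P * a).det = 1 := by
    rw [Matrix.det_mul, ha, Matrix.det_fin_two_of]
    field_simp
    ring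
  refine ⟨r, h2, Units.mk0 P.det⁻¹ (inv_ne_zero hP), isConj_iff.2 ⟨mkSL (P * a) hdet, ?_⟩⟩
  rw [mul_inv_eq_iff_eq_mul]
  apply Subtype.ext
  show P * a * (parSL r P.det⁻¹ h2 : Mat) = (g : Mat) * (P * a)
  rw [← mul_assoc (g : Mat), hP', mul_assoc, mul_assoc]
  congr 1
  ext i j
  fin_cases i <;> fin_cases j <;>
    simp [coe_parSL, ha, Matrix.mul_apply, Fin.sum_univ_two] <;> ring

theorem repSL_bijective : Function.Bijective fun i : IdxSL F => ConjClasses.mk (repSL i) := by
  constructor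
  · intro i j h
    rw [ConjClasses.mk_eq_mk_iff_isConj] at h
    obtain ⟨ht, hs⟩ := sl_isConj_trace h
    have hs' := (sl_isConj_trace h.symm).2
    have hscal : ∀ r : {r // r ∈ signs F}, Scal (repSL (.inl r) : Mat) := fun r =>
      scal_scalSL r.1 (mem_signs.1 r.2)
    have hns : ∀ k, ¬ Scal (repSL (F := F) (.inr k) : Mat) := fun k => by
      rcases k with t | ⟨r, c⟩
      · exact not_scal_comp t.1 1
      · exact not_scal_parSL (mem_signs.1 r.2) c.out.ne_zero
    have htc : ∀ t : {t : F // dsc t 1 ≠ 0}, (repSL (.inr (.inl t)) : Mat).trace = t.1 := fun t =>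
      trace_comp t.1 1
    have htp : ∀ p : {r // r ∈ signs F} × (Fˣ ⧸ sqUnits F),
        (repSL (.inr (.inr p)) : Mat).trace = 2 * p.1.1 := fun p =>
      trace_parSL p.1.1 (p.2.out : F) (mem_signs.1 p.1.2)
    rcases i with r | t | ⟨r, c⟩ <;> rcases j with r' | t' | ⟨r', c'⟩
    · have := congrArg (fun g : SL(2, F) => (g : Mat) 0 0) (hs (hscal r))
      simp [repSL, coe_scalSL] at this
      exact congrArg Sum.inl this
    · exact (hns _ (hs (hscal r) ▸ hscal r)).elim
    · exact (hns _ (hs (hscal r) ▸ hscal r)).elim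
    · exact (hns _ (hs' (hscal r') ▸ hscal r')).elim
    · rw [htc, htc] at ht
      exact congrArg (fun x => Sum.inr (Sum.inl x)) (Subtype.ext ht)
    · rw [htc, htp] at ht
      exact absurd (ht ▸ dsc_double (mem_signs.1 r'.2)) t.2
    · exact (hns _ (hs' (hscal r') ▸ hscal r')).elim
    · rw [htp, htc] at ht
      exact absurd (ht ▸ dsc_double (mem_signs.1 r.2)) t'.2
    · obtain ⟨hr, a, ha, hb⟩ := (parSL_isConj (mem_signs.1 r.2) (mem_signs.1 r'.2) c.out.ne_zero).1 h
      obtain rfl : r = r' := Subtype.ext hr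
      refine congrArg (fun x => Sum.inr (Sum.inr (r, x))) ?_
      rw [← c.out_eq', ← c'.out_eq', QuotientGroup.eq, mem_sqUnits]
      refine ⟨Units.mk0 a ha, Units.ext ?_⟩
      simp [hb]
  · intro C
    obtain ⟨g, rfl⟩ := ConjClasses.exists_rep C
    by_cases hg : Scal (g : Mat)
    · have h1 : (g : Mat) 0 0 ^ 2 = 1 := by
        have := sl_det g
        rw [scal_eq hg] at this
        simpa using this
      exact ⟨Sum.inl ⟨_, mem_signs.2 h1⟩, congrArg ConjClasses.mk (Subtype.ext (scal_eq hg).symm)⟩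
    · by_cases hd : dsc (g : Mat).trace 1 = 0
      · obtain ⟨r, hr, b, hc⟩ := exists_parSL hg hd
        refine ⟨Sum.inr (Sum.inr (⟨r, mem_signs.2 hr⟩, QuotientGroup.mk b)), ?_⟩
        rw [ConjClasses.mk_eq_mk_iff_isConj]
        refine IsConj.trans ?_ hc
        obtain ⟨u, hu⟩ := QuotientGroup.mk_out_eq_mul (sqUnits F) b
        obtain ⟨a, ha⟩ := mem_sqUnits.1 u.2
        refine (parSL_isConj hr hr (Units.ne_zero _)).2 ⟨rfl, ((a⁻¹ : Fˣ) : F), Units.ne_zero _, ?_⟩
        rw [hu, ← ha]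
        simp
      · refine ⟨Sum.inr (Sum.inl ⟨_, hd⟩), ?_⟩
        rw [ConjClasses.mk_eq_mk_iff_isConj]
        exact sl_isConj_of_trace (not_scal_comp _ _) hg (trace_comp _ _)
          (Or.inl (by show dsc (comp _ 1).trace 1 ≠ 0; rw [trace_comp]; exact hd))

theorem card_classes_SL : Nat.card (ConjClasses SL(2, F)) + (signs F).card =
    (signs F).card + Fintype.card F + (signs F).card * (signs F).card := by
  classical
  rw [← Nat.card_congr (Equiv.ofBijective _ repSL_bijective), Nat.card_sum, Nat.card_sum,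
    Nat.card_eq_finsetCard, Nat.card_prod, Nat.card_eq_finsetCard,
    show Nat.card (Fˣ ⧸ sqUnits F) = (signs F).card from
      (sqUnits F).index_eq_card.symm.trans card_sqUnits_index,
    Nat.card_eq_fintype_card, Fintype.card_subtype]
  have h := Finset.card_filter_add_card_filter_not (s := (Finset.univ : Finset F))
    (fun t => dsc t 1 ≠ 0)
  have h1 : ((Finset.univ : Finset F).filter fun t => ¬ dsc t 1 ≠ 0) = trs F 1 := by
    ext t; simp [dsc_eq_zero_iff]
  rw [h1, card_trs_one, Finset.card_univ] at h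
  omega

theorem cast_centSL (g : SL(2, F)) (hg : ¬ Scal (g : Mat)) (k : ℕ)
    (hk : (rts (g : Mat).trace 1).card = k) :
    (Nat.card (Subgroup.centralizer ({g} : Set SL(2, F))) : ℂ) =
      if k = 1 then (Fintype.card F : ℂ) * (signs F).card else (Fintype.card F : ℂ) + 1 - k := by
  have hq1 : (Fintype.card F : ℂ) - 1 ≠ 0 := by
    rw [sub_ne_zero]; exact_mod_cast (Fintype.one_lt_card : 1 < Fintype.card F).ne'
  by_cases hs : dsc (g : Mat).trace 1 ≠ 0 ∨ (2 : F) = 0
  · have h := congrArg (Nat.cast : ℕ → ℂ) (card_centSL g hg hs)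
    push_cast [Nat.cast_sub (Fintype.card_pos : 1 ≤ Fintype.card F), hk] at h
    split_ifs with hk1
    · subst hk1
      have h2 : (2 : F) = 0 := hs.resolve_left fun hd => hd (card_rts_eq_one_iff.1 hk).2
      rw [card_signs_two h2]
      push_cast at h ⊢
      apply mul_right_cancel₀ hq1
      linear_combination h
    · apply mul_right_cancel₀ hq1
      linear_combination h
  · push Not at hs
    have hk1 : k = 1 := hk ▸ mem_trs.1 (dsc_eq_zero_iff.1 hs.1)
    rw [if_pos hk1, card_centSL_parabolic g hg hs.1 hs.2, card_signs_odd hs.2]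
    push_cast
    ring

open _root_.Classical in
/-- Sum of a class function on `SL₂`, through representatives of the four types. -/
theorem sum_SL [DecidableEq F] (f : SL(2, F) → ℂ) (hf : ∀ a b, IsConj a b → f a = f b) (Φ : F → ℂ)
    (hΦ : ∀ g : SL(2, F), ¬ Scal (g : Mat) → dsc (g : Mat).trace 1 ≠ 0 → f g = Φ (g : Mat).trace)
    {t₀ d₀ : F} (h₀ : rts t₀ d₀ = ∅) :
    2 * ∑ g, f g = 2 * ∑ r : {r // r ∈ signs F}, f (scalSL r.1 (mem_signs.1 r.2)) +
      2 * ((Fintype.card F : ℂ) + 1) *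
        ∑ r : {r // r ∈ signs F}, ∑ b : Fˣ, f (parSL r.1 b (mem_signs.1 r.2)) +
      (Fintype.card F : ℂ) * ((Fintype.card F : ℂ) + 1) * ∑ a ∈ splitVals F, Φ (a + a⁻¹) +
      (Fintype.card F : ℂ) * ((Fintype.card F : ℂ) - 1) *
        ∑ v ∈ ellOne t₀ d₀, Φ (2 * v.1 + t₀ * v.2) := by
  set q : ℂ := (Fintype.card F : ℂ) with hq
  have hq0 : q ≠ 0 := by rw [hq]; exact_mod_cast Fintype.card_ne_zero
  have hq1 : q - 1 ≠ 0 := by
    rw [sub_ne_zero, hq]
    exact_mod_cast (Fintype.one_lt_card : 1 < Fintype.card F).ne'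
  have hq2 : q + 1 ≠ 0 := by rw [hq]; exact_mod_cast Nat.succ_ne_zero (Fintype.card F)
  have hsgn : 0 < (signs F).card := Finset.card_pos.2 ⟨1, mem_signs.2 (one_pow 2)⟩
  have hs0 : ((signs F).card : ℂ) ≠ 0 := by exact_mod_cast hsgn.ne'
  have hsc : ∀ r : {r // r ∈ signs F}, (Nat.card SL(2, F) : ℂ) /
      (Nat.card (Subgroup.centralizer ({repSL (.inl r)} : Set SL(2, F))) : ℂ) = 1 := fun r => by
    have : Subgroup.centralizer ({repSL (.inl r)} : Set SL(2, F)) = ⊤ := by
      refine eq_top_iff.2 fun x _ => Subgroup.mem_centralizer_singleton_iff.2 (Subtype.ext ?_)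
      show (x : Mat) * (scalSL r.1 (mem_signs.1 r.2) : Mat) = (scalSL r.1 (mem_signs.1 r.2) : Mat) * x
      simp [coe_scalSL]
    rw [this, Nat.card_congr Subgroup.topEquiv.toEquiv, div_self]
    exact Nat.cast_ne_zero.2 Nat.card_pos.ne'
  rw [sum_classes repSL repSL_bijective f hf, Fintype.sum_sum_type, Fintype.sum_sum_type,
    Fintype.sum_prod_type]
  simp only [hsc, one_mul]
  have hpar : ∀ (r : {r // r ∈ signs F}) (c : Fˣ ⧸ sqUnits F), (Nat.card SL(2, F) : ℂ) /
      (Nat.card (Subgroup.centralizer ({repSL (.inr (.inr (r, c)))} : Set SL(2, F))) : ℂ) =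
        (q ^ 2 - 1) / (signs F).card := fun r c => by
    simp only [repSL]
    rw [cast_card_SL, cast_centSL _ (not_scal_parSL _ c.out.ne_zero) 1 (by
      rw [trace_parSL]
      nth_rewrite 1 [← mem_signs.1 r.2]
      exact card_rts_double _), if_pos rfl]
    field_simp
    rfl
  simp only [hpar]
  have hb : ∀ r : {r // r ∈ signs F}, ((signs F).card : ℂ) *
      ∑ b : Fˣ, f (parSL r.1 b (mem_signs.1 r.2)) =
        (q - 1) * ∑ c : Fˣ ⧸ sqUnits F, f (repSL (.inr (.inr (r, c)))) := by
    intro r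
    have e : ∀ c : Fˣ ⧸ sqUnits F,
        ∑ b ∈ Finset.univ.filter (fun b : Fˣ => (QuotientGroup.mk b : Fˣ ⧸ sqUnits F) = c),
          f (parSL r.1 b (mem_signs.1 r.2)) =
        (Nat.card (sqUnits F) : ℂ) * f (repSL (.inr (.inr (r, c)))) := by
      intro c
      rw [Finset.sum_congr rfl (g := fun _ => f (repSL (.inr (.inr (r, c))))) fun b hb => ?_,
        Finset.sum_const, nsmul_eq_mul]
      · congr 2
        rw [← Fintype.card_subtype, ← Nat.card_eq_fintype_card]
        refine Nat.card_congr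
          (Equiv.subtypeEquiv (Equiv.mulLeft c.out⁻¹) (q := fun u => u ∈ sqUnits F) fun b => ?_)
        conv_lhs => rw [← c.out_eq', eq_comm, QuotientGroup.eq]
        rfl
      · obtain rfl := (Finset.mem_filter.1 hb).2
        obtain ⟨u, hu⟩ := QuotientGroup.mk_out_eq_mul (sqUnits F) b
        obtain ⟨a, ha⟩ := mem_sqUnits.1 u.2
        refine hf _ _ ((parSL_isConj (mem_signs.1 r.2) (mem_signs.1 r.2) b.ne_zero).2 ⟨rfl, (a : F), a.ne_zero, ?_⟩)
        rw [hu, ← ha]
        simp
    rw [← Finset.sum_fiberwise (Finset.univ : Finset Fˣ)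
      (fun b => (QuotientGroup.mk b : Fˣ ⧸ sqUnits F)), Finset.sum_congr rfl fun c _ => e c,
      ← Finset.mul_sum, ← mul_assoc]
    congr 1
    have := congrArg (Nat.cast : ℕ → ℂ) (sqUnits F).index_mul_card
    rw [card_sqUnits_index, Nat.cast_mul, Nat.card_eq_fintype_card (α := Fˣ), Fintype.card_units,
      Nat.cast_sub Fintype.card_pos] at this
    simpa using this
  have hmid : ∑ i : {t : F // dsc t 1 ≠ 0}, (Nat.card SL(2, F) : ℂ) /
      (Nat.card (Subgroup.centralizer ({repSL (.inr (.inl i))} : Set SL(2, F))) : ℂ) *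
        f (repSL (.inr (.inl i))) =
      q * (q - 1) * ∑ t ∈ trs F 0, Φ t + q * (q + 1) * ∑ t ∈ trs F 2, Φ t := by
    let W : F → ℂ := fun t => if dsc t 1 ≠ 0 then (Nat.card SL(2, F) : ℂ) /
      (Nat.card (Subgroup.centralizer ({compSL t} : Set SL(2, F))) : ℂ) * f (compSL t) else 0
    rw [Finset.sum_congr rfl (g := fun i : {t : F // dsc t 1 ≠ 0} => W i.1) fun i _ => by
      simp only [W, repSL, if_pos i.2]]
    rw [← Finset.sum_subtype (Finset.univ.filter fun t : F => dsc t 1 ≠ 0) (by simp) W,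
      Finset.sum_subset (Finset.filter_subset _ _) (fun t _ ht => if_neg (by simpa using ht)),
      sum_trs, Finset.mul_sum, Finset.mul_sum]
    have h1 : ∑ t ∈ trs F 1, W t = 0 := Finset.sum_eq_zero fun t ht => by
      simp only [W, dsc_eq_zero_iff.2 ht, ne_eq, not_true_eq_false, if_false]
    rw [h1, add_zero]
    congr 1
    all_goals
      refine Finset.sum_congr rfl fun t ht => ?_
      have hk := mem_trs.1 ht
      have hd : dsc t 1 ≠ 0 := fun h0 => by
        have := mem_trs.1 (dsc_eq_zero_iff.1 h0)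
        omega
      simp only [W, if_pos hd]
      have hk' := hk
      rw [← trace_comp t 1] at hk'
      have hc := cast_centSL (compSL t) (not_scal_comp t 1) _ hk'
      rw [cast_card_SL, hc,
        if_neg (by norm_num), hΦ _ (not_scal_comp t 1) (by rw [coe_compSL, trace_comp]; exact hd)]
      rw [coe_compSL, trace_comp]
      congr 1
      rw [div_eq_iff]
      · push_cast; ring
      · intro h
        first
          | exact hq2 (by push_cast at h; linear_combination h)
          | exact hq1 (by push_cast at h; linear_combination h)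
  rw [hmid]
  have e0 := sum_ell1 h₀ Φ
  have e2 := sum_split1 (F := F) Φ
  simp only [nsmul_eq_mul, Nat.cast_ofNat] at e0 e2
  rw [e0, e2]
  have hb' : ((signs F).card : ℂ) * ∑ r : {r // r ∈ signs F}, ∑ b : Fˣ, f (parSL r.1 b (mem_signs.1 r.2))
      = (q - 1) * ∑ r : {r // r ∈ signs F}, ∑ c : Fˣ ⧸ sqUnits F, f (repSL (.inr (.inr (r, c)))) := by
    rw [Finset.mul_sum, Finset.mul_sum]
    exact Finset.sum_congr rfl fun r _ => hb r
  simp only [← Finset.mul_sum]
  field_simp
  simp only [repSL] at hb' ⊢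
  linear_combination -(q + 1) * hb'

end CfsgLib.KnownB.GL2
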