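import Cfsg.Agent.Lib.KnownB.GL2.Torus
import Cfsg.Agent.Lib.KnownB.GL2.Basics
import Cfsg.Agent.Lib.KnownB.GL2.CountSL

/-!
The non-split torus of `SL₂`, the four types of elements, and class sums by type.
-/

set_option autoImplicit false

namespace CfsgLib.KnownB.GL2

open scoped MatrixGroups

variable {F : Type*} [Field F] [Fintype F] [DecidableEq F] {t₀ d₀ : F}

local notation "Mat" => Matrix (Fin 2) (Fin 2) F

/-- The non-split torus of `SL₂`. -/
noncomputable def torS (h₀ : rts t₀ d₀ = ∅) : Subgroup SL(2, F) :=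
  (torG h₀).comap Matrix.SpecialLinearGroup.toGL

/-- The inclusion in the torus of `GL₂`. -/
noncomputable def toT (h₀ : rts t₀ d₀ = ∅) : torS h₀ →* torG h₀ :=
  (Matrix.SpecialLinearGroup.toGL.comp (torS h₀).subtype).codRestrict (torG h₀) fun c => c.2

theorem coe_toT (h₀ : rts t₀ d₀ = ∅) (c : torS h₀) :
    ((toT h₀ c : GL (Fin 2) F) : Mat) = ((c : SL(2, F)) : Mat) := rfl

theorem toT_injective (h₀ : rts t₀ d₀ = ∅) : Function.Injective (toT h₀) := fun a b h => by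
  refine Subtype.ext (Subtype.ext ?_)
  show ((a : SL(2, F)) : Mat) = ((b : SL(2, F)) : Mat)
  rw [← coe_toT, ← coe_toT, h]

noncomputable instance commGroupTorS (h₀ : rts t₀ d₀ = ∅) : CommGroup (torS h₀) :=
  { (inferInstance : Group (torS h₀)) with
    mul_comm := fun a b => toT_injective h₀ (by rw [map_mul, map_mul, mul_comm]) }

theorem isCyclic_torS (h₀ : rts t₀ d₀ = ∅) : IsCyclic (torS h₀) :=
  haveI := isCyclic_torG h₀
  isCyclic_of_injective (toT h₀) (toT_injective h₀)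

/-- The torus in coordinates. -/
noncomputable def torSEquiv (h₀ : rts t₀ d₀ = ∅) :
    {p : F × F // nf t₀ d₀ p.1 p.2 = 1} ≃ torS h₀ where
  toFun p := ⟨mkSL (p.1.1 • (1 : Mat) + p.1.2 • comp t₀ d₀) (by
      rw [det_lin, trace_comp, det_comp]; exact p.2), by
    have h : p.1 ≠ 0 := (nf_ne_zero_iff h₀).1 (by rw [p.2]; exact one_ne_zero)
    have e : Matrix.SpecialLinearGroup.toGL (mkSL (p.1.1 • (1 : Mat) + p.1.2 • comp t₀ d₀) (by
        rw [det_lin, trace_comp, det_comp]; exact p.2)) = (torEquiv h₀ ⟨p.1, h⟩ : GL (Fin 2) F) :=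
      Units.ext (coe_torEquiv h₀ ⟨p.1, h⟩).symm
    show Matrix.SpecialLinearGroup.toGL _ ∈ torG h₀
    rw [e]
    exact Subtype.prop _⟩
  invFun c := ⟨((torEquiv h₀).symm (toT h₀ c)).1, by
    rw [← det_torEquiv h₀ ((torEquiv h₀).symm (toT h₀ c)), Equiv.apply_symm_apply, coe_toT]
    exact sl_det _⟩
  left_inv p := by
    have h : p.1 ≠ 0 := (nf_ne_zero_iff h₀).1 (by rw [p.2]; exact one_ne_zero)
    refine Subtype.ext ?_
    show ((torEquiv h₀).symm (toT h₀ _)).1 = (⟨p.1, h⟩ : {x : F × F // x ≠ 0}).1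
    refine congrArg Subtype.val ((Equiv.symm_apply_eq (torEquiv h₀)).2 (Subtype.ext (Units.ext ?_)))
    rw [coe_torEquiv, coe_toT]
    rfl
  right_inv c := by
    refine Subtype.ext (Subtype.ext ?_)
    have e := coe_torEquiv h₀ ((torEquiv h₀).symm (toT h₀ c))
    rw [Equiv.apply_symm_apply, coe_toT] at e
    exact e.symm

theorem coe_torSEquiv (h₀ : rts t₀ d₀ = ∅) (p : {p : F × F // nf t₀ d₀ p.1 p.2 = 1}) :
    (((torSEquiv h₀ p : torS h₀) : SL(2, F)) : Mat) = p.1.1 • (1 : Mat) + p.1.2 • comp t₀ d₀ := rfl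

theorem card_torS (h₀ : rts t₀ d₀ = ∅) : Nat.card (torS h₀) = Fintype.card F + 1 := by
  rw [← Nat.card_congr (torSEquiv h₀), card_nf_one_ell h₀]

theorem scal_torSEquiv (h₀ : rts t₀ d₀ = ∅) (p : {p : F × F // nf t₀ d₀ p.1 p.2 = 1}) :
    Scal (((torSEquiv h₀ p : torS h₀) : SL(2, F)) : Mat) ↔ p.1.2 = 0 := by
  rw [coe_torSEquiv]
  constructor
  · intro h; simpa [comp] using h.2.1
  · intro h; simp [Scal, comp, h]

theorem trace_torSEquiv (h₀ : rts t₀ d₀ = ∅) (p : {p : F × F // nf t₀ d₀ p.1 p.2 = 1}) :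
    (((torSEquiv h₀ p : torS h₀) : SL(2, F)) : Mat).trace = 2 * p.1.1 + t₀ * p.1.2 := by
  rw [coe_torSEquiv, trace_lin, trace_comp]

theorem rts_torS (h₀ : rts t₀ d₀ = ∅) {c : torS h₀} (hc : ¬ Scal ((c : SL(2, F)) : Mat)) :
    rts ((c : SL(2, F)) : Mat).trace 1 = ∅ := by
  obtain ⟨p, rfl⟩ := (torSEquiv h₀).surjective c
  rw [scal_torSEquiv] at hc
  rw [trace_torSEquiv]
  have h := rts_ell h₀ (x := p.1.1) (y := p.1.2) hc
  rw [p.2] at h
  exact h

theorem dsc_torS (h₀ : rts t₀ d₀ = ∅) {c : torS h₀} (hc : ¬ Scal ((c : SL(2, F)) : Mat)) :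
    dsc ((c : SL(2, F)) : Mat).trace 1 ≠ 0 := fun h => by
  have := mem_trs.1 (dsc_eq_zero_iff.1 h)
  rw [rts_torS h₀ hc] at this
  simp at this

theorem torSEquiv_inv (h₀ : rts t₀ d₀ = ∅) (p : {p : F × F // nf t₀ d₀ p.1 p.2 = 1}) :
    (torSEquiv h₀ p)⁻¹ = torSEquiv h₀ ⟨barP t₀ p.1, by rw [(barP_params p.1).2]; exact p.2⟩ := by
  refine Subtype.ext (Subtype.ext ?_)
  show ((((torSEquiv h₀ p)⁻¹ : torS h₀) : SL(2, F)) : Mat) = _
  rw [Subgroup.coe_inv, Matrix.SpecialLinearGroup.coe_inv, coe_torSEquiv, adjugate_lin,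
    coe_torSEquiv]
  rfl

theorem trace_inv_sl (g : SL(2, F)) : ((g⁻¹ : SL(2, F)) : Mat).trace = (g : Mat).trace := by
  rw [Matrix.SpecialLinearGroup.coe_inv, Matrix.adjugate_fin_two, Matrix.trace_fin_two,
    Matrix.trace_fin_two]
  simp [add_comm]

theorem inv_ne_torS (h₀ : rts t₀ d₀ = ∅) {c : torS h₀} (hc : ¬ Scal ((c : SL(2, F)) : Mat)) :
    c⁻¹ ≠ c := fun h => by
  obtain ⟨p, rfl⟩ := (torSEquiv h₀).surjective c
  rw [torSEquiv_inv] at h
  exact barP_ne h₀ (fun hy => hc ((scal_torSEquiv h₀ p).2 hy))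
    (congrArg Subtype.val ((torSEquiv h₀).injective h))

theorem torS_trace_eq (h₀ : rts t₀ d₀ = ∅) (c e : torS h₀)
    (h : ((e : SL(2, F)) : Mat).trace = ((c : SL(2, F)) : Mat).trace) : e = c ∨ e = c⁻¹ := by
  obtain ⟨p, rfl⟩ := (torSEquiv h₀).surjective c
  obtain ⟨r, rfl⟩ := (torSEquiv h₀).surjective e
  rw [trace_torSEquiv, trace_torSEquiv] at h
  rcases ell_fibre h₀ h (r.2.trans p.2.symm) with ⟨a, b⟩ | ⟨a, b⟩
  · exact Or.inl (congrArg _ (Subtype.ext (Prod.ext a b)))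
  · right
    rw [torSEquiv_inv]
    exact congrArg _ (Subtype.ext (Prod.ext a b))

/-- The diagonal element. -/
def diagSL (a : Fˣ) : SL(2, F) := mkSL !![(a : F), 0; 0, (a : F)⁻¹] (by simp [Matrix.det_fin_two_of])

theorem coe_diagSL (a : Fˣ) : (diagSL a : Mat) = !![(a : F), 0; 0, (a : F)⁻¹] := rfl

theorem diag_ne {a : Fˣ} (ha : (a : F) ^ 2 ≠ 1) : (a : F) ≠ (a : F)⁻¹ := fun h => ha (by
  rw [sq]; nth_rewrite 2 [h]; exact mul_inv_cancel₀ a.ne_zero)

theorem trace_diagSL (a : Fˣ) : (diagSL a : Mat).trace = (a : F) + (a : F)⁻¹ := by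
  simp [coe_diagSL, Matrix.trace_fin_two]

theorem not_scal_diagSL {a : Fˣ} (ha : (a : F) ^ 2 ≠ 1) : ¬ Scal (diagSL a : Mat) := fun h =>
  diag_ne ha (by simpa [coe_diagSL] using h.2.2)

theorem rts_diagSL (a : Fˣ) :
    rts (diagSL a : Mat).trace 1 = {(a : F), (a : F)⁻¹} := by
  rw [trace_diagSL, ← mul_inv_cancel₀ a.ne_zero, rts_split]

theorem dsc_diagSL {a : Fˣ} (ha : (a : F) ^ 2 ≠ 1) : dsc (diagSL a : Mat).trace 1 ≠ 0 := fun h => by
  have := mem_trs.1 (dsc_eq_zero_iff.1 h)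
  rw [rts_diagSL, Finset.card_pair (diag_ne ha)] at this
  omega

/-- The index type of the two signs. -/
abbrev Sg (F : Type*) [Field F] [Fintype F] : Type _ := {r // r ∈ signs F}

theorem sg_sq (r : Sg F) : (r.1 : F) ^ 2 = 1 := mem_signs.1 r.2

theorem sg_ne (r : Sg F) : (r.1 : F) ≠ 0 := fun h => by
  have := sg_sq r
  simp [h] at this

/-- A sign as a unit. -/
def sgU (r : Sg F) : Fˣ := Units.mk0 r.1 (sg_ne r)

/-- A sign in the non-split torus. -/
noncomputable def sgT (h₀ : rts t₀ d₀ = ∅) (r : Sg F) : torS h₀ :=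
  ⟨scalSL r.1 (sg_sq r), by
    show Matrix.SpecialLinearGroup.toGL _ ∈ torG h₀
    rw [torG, Subgroup.mem_centralizer_singleton_iff]
    refine Units.ext ?_
    show (r.1 • (1 : Mat)) * _ = _ * (r.1 • (1 : Mat))
    simp⟩

theorem coe_sgT (h₀ : rts t₀ d₀ = ∅) (r : Sg F) :
    ((sgT h₀ r : torS h₀) : SL(2, F)) = scalSL r.1 (sg_sq r) := rfl

theorem mem_ellOne {v : F × F} : v ∈ ellOne t₀ d₀ ↔ v.2 ≠ 0 ∧ nf t₀ d₀ v.1 v.2 = 1 := by
  simp [ellOne]

/-- The four types of elements. -/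
theorem sl_cases (h₀ : rts t₀ d₀ = ∅) (g : SL(2, F)) :
    (∃ r : Sg F, g = scalSL r.1 (sg_sq r)) ∨
    (∃ (r : Sg F) (b : Fˣ), IsConj (parSL r.1 b (sg_sq r)) g) ∨
    (∃ a : Fˣ, (a : F) ^ 2 ≠ 1 ∧ IsConj (diagSL a) g) ∨
    (∃ c : torS h₀, ¬ Scal ((c : SL(2, F)) : Mat) ∧ IsConj (c : SL(2, F)) g) := by
  classical
  by_cases hg : Scal (g : Mat)
  · have h1 : (g : Mat) 0 0 ^ 2 = 1 := by
      have := sl_det g
      rw [scal_eq hg] at this
      simpa using this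
    exact Or.inl ⟨⟨_, mem_signs.2 h1⟩, Subtype.ext (scal_eq hg)⟩
  by_cases hd : dsc (g : Mat).trace 1 = 0
  · obtain ⟨r, hr, b, hc⟩ := exists_parSL hg hd
    exact Or.inr (Or.inl ⟨⟨r, mem_signs.2 hr⟩, b, hc⟩)
  have hle := card_rts_le (g : Mat).trace 1
  have hne1 : (rts (g : Mat).trace 1).card ≠ 1 := fun h => hd (card_rts_eq_one_iff.1 h).2
  rcases (show (rts (g : Mat).trace 1).card = 2 ∨ (rts (g : Mat).trace 1).card = 0 by omega) with
    hk | hk
  · obtain ⟨x, y, hxy, h1, h2⟩ := exists_split_of_card hk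
    have hx : x ≠ 0 := left_ne_zero_of_mul_eq_one h2
    have hy : y = x⁻¹ := eq_inv_of_mul_eq_one_right h2
    have ha : x ^ 2 ≠ 1 := fun h => hxy (mul_left_cancel₀ hx (by linear_combination h - h2))
    refine Or.inr (Or.inr (Or.inl ⟨Units.mk0 x hx, ha, ?_⟩))
    refine sl_isConj_of_trace (not_scal_diagSL (by simpa using ha)) hg ?_ (Or.inl ?_)
    · rw [trace_diagSL, Units.val_mk0, ← hy]; exact h1
    · exact dsc_diagSL (by simpa using ha)
  · right; right; right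
    have ht : (g : Mat).trace ∈ trs F 0 := mem_trs.2 hk
    obtain ⟨v, hv, hvt⟩ : ∃ v ∈ ellOne t₀ d₀, 2 * v.1 + t₀ * v.2 = (g : Mat).trace := by
      have h := sum_ell1 h₀ (fun s => if s = (g : Mat).trace then (1 : ℕ) else 0)
      rw [Finset.sum_ite_eq', if_pos ht] at h
      by_contra hcon
      push Not at hcon
      rw [Finset.sum_eq_zero (fun v hv => if_neg (hcon v hv))] at h
      simp at h
    obtain ⟨hy, hn⟩ := mem_ellOne.1 hv
    have hc : ¬ Scal (((torSEquiv h₀ ⟨v, hn⟩ : torS h₀) : SL(2, F)) : Mat) := fun h =>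
      hy ((scal_torSEquiv h₀ _).1 h)
    exact ⟨_, hc, sl_isConj_of_trace hc hg (by rw [trace_torSEquiv]; exact hvt)
      (Or.inl (dsc_torS h₀ hc))⟩

open _root_.Classical in
/-- The regular part of the split torus. -/
noncomputable def regU (F : Type*) [Field F] [Fintype F] : Finset Fˣ :=
  Finset.univ.filter fun a : Fˣ => (a : F) ^ 2 ≠ 1

open _root_.Classical in
/-- The regular part of the non-split torus. -/
noncomputable def regT (h₀ : rts t₀ d₀ = ∅) : Finset (torS h₀) :=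
  Finset.univ.filter fun c => ¬ Scal ((c : SL(2, F)) : Mat)

theorem mem_regU {a : Fˣ} : a ∈ regU F ↔ (a : F) ^ 2 ≠ 1 := by simp [regU]

theorem mem_regT {h₀ : rts t₀ d₀ = ∅} {c : torS h₀} :
    c ∈ regT h₀ ↔ ¬ Scal ((c : SL(2, F)) : Mat) := by simp [regT]

theorem sum_units_split {M : Type*} [AddCommMonoid M] (G : Fˣ → M) :
    ∑ a, G a = ∑ a ∈ regU F, G a + ∑ r : Sg F, G (sgU r) := by
  classical
  rw [← Finset.sum_filter_add_sum_filter_not Finset.univ (fun a : Fˣ => (a : F) ^ 2 ≠ 1)]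
  congr 1
  · refine Finset.sum_congr ?_ fun _ _ => rfl
    ext a; simp [mem_regU]
  refine Finset.sum_bij (fun a ha => (⟨(a : F), mem_signs.2 (not_not.1 (Finset.mem_filter.1 ha).2)⟩ : Sg F))
    (fun _ _ => Finset.mem_univ _) (fun a _ b _ h => Units.ext (congrArg Subtype.val h))
    (fun r _ => ⟨sgU r, Finset.mem_filter.2 ⟨Finset.mem_univ _, not_not.2 (sg_sq r)⟩, rfl⟩) (fun a _ => congrArg G (Units.ext rfl))

theorem sum_torS_split (h₀ : rts t₀ d₀ = ∅) [Fintype (torS h₀)] {M : Type*} [AddCommMonoid M]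
    (G : torS h₀ → M) :
    ∑ c, G c = ∑ c ∈ regT h₀, G c + ∑ r : Sg F, G (sgT h₀ r) := by
  classical
  rw [← Finset.sum_filter_add_sum_filter_not Finset.univ
    (fun c : torS h₀ => ¬ Scal ((c : SL(2, F)) : Mat))]
  congr 1
  · refine Finset.sum_congr ?_ fun _ _ => rfl
    ext c; simp [mem_regT]
  · refine Finset.sum_bij (fun c hc => (⟨((c : SL(2, F)) : Mat) 0 0, mem_signs.2 (by
        have h := sl_det (c : SL(2, F))
        have hs : Scal ((c : SL(2, F)) : Mat) := not_not.1 (Finset.mem_filter.1 hc).2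
        rw [scal_eq hs] at h
        simpa using h)⟩ : Sg F))
      (fun _ _ => Finset.mem_univ _) (fun a ha b hb h => ?_) (fun r _ => ⟨sgT h₀ r, ?_, ?_⟩)
      (fun c hc => congrArg G (Subtype.ext (Subtype.ext ?_)))
    · refine Subtype.ext (Subtype.ext ?_)
      show ((a : SL(2, F)) : Mat) = ((b : SL(2, F)) : Mat)
      rw [scal_eq (M := ((a : SL(2, F)) : Mat)) (by simpa using ha),
        scal_eq (M := ((b : SL(2, F)) : Mat)) (by simpa using hb)]
      exact congrArg (· • (1 : Mat)) (congrArg Subtype.val h)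
    · simp [coe_sgT, scal_scalSL]
    · exact Subtype.ext (by simp [coe_sgT, coe_scalSL])
    · exact (scal_eq (by simpa using hc)).trans rfl

open _root_.Classical in
/-- Class sums by types. -/
theorem sum_SL2 (h₀ : rts t₀ d₀ = ∅) (f : SL(2, F) → ℂ) (hf : ∀ a b, IsConj a b → f a = f b) :
    2 * ∑ g, f g = 2 * ∑ r : Sg F, f (scalSL r.1 (sg_sq r)) +
      2 * ((Fintype.card F : ℂ) + 1) * ∑ r : Sg F, ∑ b : Fˣ, f (parSL r.1 b (sg_sq r)) +
      (Fintype.card F : ℂ) * ((Fintype.card F : ℂ) + 1) * ∑ a ∈ regU F, f (diagSL a) +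
      (Fintype.card F : ℂ) * ((Fintype.card F : ℂ) - 1) * ∑ c ∈ regT h₀, f c := by
  have hrep : ∀ g : SL(2, F), ¬ Scal (g : Mat) → dsc (g : Mat).trace 1 ≠ 0 →
      f g = f (compSL (g : Mat).trace) := fun g hg hd => hf _ _
    (sl_isConj_of_trace hg (not_scal_comp _ _) (by rw [coe_compSL, trace_comp]) (Or.inl hd))
  have key := sum_SL f hf (fun t => f (compSL t)) hrep h₀
  have e1 : ∑ a ∈ regU F, f (diagSL a) = ∑ a ∈ splitVals F, f (compSL (a + a⁻¹)) := by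
    refine Finset.sum_bij (fun a _ => (a : F)) (fun a ha => mem_splitVals.2 ⟨a.ne_zero, mem_regU.1 ha⟩)
      (fun a _ b _ h => Units.ext h)
      (fun x hx => ⟨Units.mk0 x (mem_splitVals.1 hx).1, mem_regU.2 (by simpa using (mem_splitVals.1 hx).2), rfl⟩)
      (fun a ha => ?_)
    rw [hrep _ (not_scal_diagSL (mem_regU.1 ha)) (dsc_diagSL (mem_regU.1 ha)), trace_diagSL]
  have e2 : ∑ c ∈ regT h₀, f c = ∑ v ∈ ellOne t₀ d₀, f (compSL (2 * v.1 + t₀ * v.2)) := by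
    refine Finset.sum_bij (fun c _ => ((torSEquiv h₀).symm c).1) (fun c hc => ?_)
      (fun a _ b _ h => (torSEquiv h₀).symm.injective (Subtype.ext h))
      (fun v hv => ?_) (fun c hc => ?_)
    · refine mem_ellOne.2 ⟨fun hy => mem_regT.1 hc ?_, ((torSEquiv h₀).symm c).2⟩
      have := (scal_torSEquiv h₀ ((torSEquiv h₀).symm c)).2 hy
      rwa [Equiv.apply_symm_apply] at this
    · obtain ⟨hy, hn⟩ := mem_ellOne.1 hv
      exact ⟨torSEquiv h₀ ⟨v, hn⟩, mem_regT.2 fun h => hy ((scal_torSEquiv h₀ _).1 h), by simp⟩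
    · rw [hrep _ (mem_regT.1 hc) (dsc_torS h₀ (mem_regT.1 hc)), ← trace_torSEquiv h₀,
        Equiv.apply_symm_apply]
  rw [e1, e2]
  exact key

end CfsgLib.KnownB.GL2
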