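import Cfsg.Agent.Lib.KnownB.GL2.Basics
import Cfsg.Agent.Lib.Char.Induced
import Cfsg.Prelude.Def_ParabolicCharacters

/-!
Functions induced from the upper triangular subgroup of `GL₂` or `SL₂`.
-/

set_option autoImplicit false

namespace CfsgLib.KnownB.GL2

open scoped MatrixGroups ComplexConjugate

variable {F : Type*} [Field F]

local notation "Mat" => Matrix (Fin 2) (Fin 2) F

theorem mem_upperTriangularGL {b : GL (Fin 2) F} :
    b ∈ Cfsg.upperTriangularGL 2 F ↔ (b : Mat) 1 0 = 0 := by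
  refine ⟨fun h => h (by decide : (0 : Fin 2) < 1), fun h i j hij => ?_⟩
  fin_cases i <;> fin_cases j <;> simp at hij ⊢
  exact h

theorem mem_borelSL {b : SL(2, F)} :
    b ∈ (Cfsg.upperTriangularGL 2 F).comap Matrix.SpecialLinearGroup.toGL ↔ (b : Mat) 1 0 = 0 :=
  mem_upperTriangularGL

variable [Fintype F] [DecidableEq F]

/-- The number of nonzero vectors in the eigenspace of `M` for `c`. -/
noncomputable def eigenCount (M : Mat) (c : F) : ℕ :=
  Nat.card {v : Fin 2 → F // v ≠ 0 ∧ M.mulVec v = c • v}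

theorem eigenCount_scal {M : Mat} (hM : Scal M) (c : F) :
    eigenCount M c = if c = M 0 0 then Fintype.card F ^ 2 - 1 else 0 := by
  have hv : ∀ v, M.mulVec v = M 0 0 • v := fun v => by
    conv_lhs => rw [scal_eq hM, Matrix.smul_mulVec, Matrix.one_mulVec]
  split_ifs with h
  · rw [eigenCount, Nat.card_congr (Equiv.subtypeEquivRight (q := fun v : Fin 2 → F => v ≠ 0)
      fun v => ⟨And.left, fun hne => ⟨hne, by rw [h, hv]⟩⟩), Nat.card_eq_fintype_card,
      Fintype.card_subtype_compl, Fintype.card_subtype_eq, Fintype.card_fun, Fintype.card_fin]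
  · refine Nat.card_eq_zero.2 (Or.inl ⟨fun v => h ?_⟩)
    have := (hv v.1).symm.trans v.2.2
    exact (smul_left_injective F v.2.1 this).symm

theorem eigenCount_nonscal {M : Mat} (hM : ¬ Scal M) (c : F) :
    eigenCount M c = if c ∈ rts M.trace M.det then Fintype.card F - 1 else 0 := by
  split_ifs with h
  · obtain ⟨P, hP, hP'⟩ := exists_comp hM
    have hr := mem_rts.1 h
    have hu : IsUnit P.det := isUnit_iff_ne_zero.2 hP
    let f : {s : F // s ≠ 0} → {v : Fin 2 → F // v ≠ 0 ∧ M.mulVec v = c • v} := fun s =>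
      ⟨P.mulVec ![(c - M.trace) * s, s], fun h0 => s.2 (by
          have := congrArg P⁻¹.mulVec h0
          rw [Matrix.mulVec_mulVec, Matrix.nonsing_inv_mul _ hu, Matrix.one_mulVec,
            Matrix.mulVec_zero] at this
          simpa using congrFun this 1), by
        rw [Matrix.mulVec_mulVec, hP', ← Matrix.mulVec_mulVec, ← Matrix.mulVec_smul]
        congr 1
        ext i
        fin_cases i <;> simp [comp, Matrix.mulVec, dotProduct, Fin.sum_univ_two]
        · linear_combination -(s : F) * hr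
        · ring⟩
    have hf : Function.Bijective f := by
      refine ⟨fun s s' hss => ?_, fun v => ?_⟩
      · have := congrArg (fun v : {v : Fin 2 → F // v ≠ 0 ∧ M.mulVec v = c • v} =>
          P⁻¹.mulVec v.1) hss
        simp only [f, Matrix.mulVec_mulVec, Matrix.nonsing_inv_mul _ hu, Matrix.one_mulVec] at this
        exact Subtype.ext (by simpa using congrFun this 1)
      · obtain ⟨v, hv0, hv⟩ := v
        obtain ⟨w, hw⟩ : ∃ w, w = P⁻¹.mulVec v := ⟨_, rfl⟩
        have hvw : v = P.mulVec w := by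
          rw [hw, Matrix.mulVec_mulVec, Matrix.mul_nonsing_inv _ hu, Matrix.one_mulVec]
        have h1 : (comp M.trace M.det).mulVec w = c • w := by
          have := congrArg P⁻¹.mulVec hv
          rw [Matrix.mulVec_smul, ← hw] at this
          rw [← this, hvw, Matrix.mulVec_mulVec, Matrix.mulVec_mulVec, mul_assoc P⁻¹ M P, hP',
            Matrix.nonsing_inv_mul_cancel_left _ _ hu]
        have e1 := congrFun h1 1
        simp [comp, Matrix.mulVec, dotProduct, Fin.sum_univ_two] at e1
        have hw0 : w = ![(c - M.trace) * w 1, w 1] := by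
          ext i; fin_cases i
          · simp; linear_combination e1
          · simp
        refine ⟨⟨w 1, fun h0 => hv0 ?_⟩, Subtype.ext ?_⟩
        · rw [hvw, hw0, h0]; simp
        · show P.mulVec _ = v
          rw [← hw0, ← hvw]
    rw [eigenCount, ← Nat.card_congr (Equiv.ofBijective f hf), Nat.card_eq_fintype_card,
      Fintype.card_subtype_compl, Fintype.card_subtype_eq]
  · exact Nat.card_eq_zero.2 (Or.inl ⟨fun v => h (root_of_eigen v.2.1 v.2.2)⟩)

variable {G : Type*} [Group G] [Fintype G]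

/-- The first column. -/
def col0 (M : Mat) : Fin 2 → F := fun i => M i 0

theorem col0_eq (M : Mat) : col0 M = M.mulVec ![1, 0] := by
  ext i; simp [col0, Matrix.mulVec, dotProduct, Fin.sum_univ_two]

theorem col0_mul (M N : Mat) : col0 (M * N) = M.mulVec (col0 N) := by
  rw [col0_eq, col0_eq, ← Matrix.mulVec_mulVec]

theorem col0_ne_zero (m : G →* Mat) (x : G) : col0 (m x) ≠ 0 := fun h => by
  have := congrArg (m x⁻¹).mulVec h
  rw [← col0_mul, ← map_mul, inv_mul_cancel, map_one, Matrix.mulVec_zero] at this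
  simpa [col0] using congrFun this 0

/-- The first column is equidistributed. -/
theorem sum_col0 (m : G →* Mat) (htr : ∀ v, v ≠ 0 → ∃ y : G, col0 (m y) = v)
    (h : (Fin 2 → F) → ℂ) :
    ((Fintype.card F : ℂ) ^ 2 - 1) * ∑ x : G, h (col0 (m x)) =
      (Nat.card G : ℂ) * ∑ v ∈ Finset.univ.filter (fun v : Fin 2 → F => v ≠ 0), h v := by
  have hmaps : ∀ x ∈ (Finset.univ : Finset G),
      col0 (m x) ∈ Finset.univ.filter (fun v : Fin 2 → F => v ≠ 0) := fun x _ =>
    Finset.mem_filter.2 ⟨Finset.mem_univ _, col0_ne_zero m x⟩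
  set N := (Finset.univ.filter fun x : G => col0 (m x) = ![1, 0]).card with hN
  have hfib : ∀ v ∈ Finset.univ.filter (fun v : Fin 2 → F => v ≠ 0),
      (Finset.univ.filter fun x : G => col0 (m x) = v).card = N := by
    intro v hv
    obtain ⟨y, hy⟩ := htr v (Finset.mem_filter.1 hv).2
    have hy' : (m y).mulVec ![1, 0] = v := (col0_eq _).symm.trans hy
    rw [hN, ← Fintype.card_subtype, ← Fintype.card_subtype]
    refine Fintype.card_congr (Equiv.subtypeEquiv (Equiv.mulLeft y⁻¹) fun x => ?_)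
    simp only [Equiv.coe_mulLeft, map_mul, col0_mul]
    constructor
    · intro hx
      rw [hx, ← hy', Matrix.mulVec_mulVec, ← map_mul, inv_mul_cancel, map_one, Matrix.one_mulVec]
    · intro hx
      rw [← hy', ← hx, Matrix.mulVec_mulVec, ← map_mul, mul_inv_cancel, map_one, Matrix.one_mulVec]
  have hcardv : (Finset.univ.filter fun v : Fin 2 → F => v ≠ 0).card = Fintype.card F ^ 2 - 1 := by
    rw [← Fintype.card_subtype, Fintype.card_subtype_compl, Fintype.card_subtype_eq,
      Fintype.card_fun, Fintype.card_fin]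
  have hG : Nat.card G = (Fintype.card F ^ 2 - 1) * N := by
    rw [Nat.card_eq_fintype_card, ← Finset.card_univ, Finset.card_eq_sum_card_fiberwise hmaps,
      Finset.sum_congr rfl hfib, Finset.sum_const, smul_eq_mul, hcardv]
  rw [← Finset.sum_fiberwise_of_maps_to hmaps]
  have : ∀ v ∈ Finset.univ.filter (fun v : Fin 2 → F => v ≠ 0),
      ∑ x ∈ Finset.univ.filter (fun x : G => col0 (m x) = v), h (col0 (m x)) = (N : ℂ) * h v := by
    intro v hv
    rw [Finset.sum_congr rfl fun x hx => by rw [(Finset.mem_filter.1 hx).2], Finset.sum_const,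
      hfib v hv, nsmul_eq_mul]
  rw [Finset.sum_congr rfl this, ← Finset.mul_sum, hG, Nat.cast_mul,
    Nat.cast_sub (Nat.one_le_pow _ _ Fintype.card_pos)]
  push_cast
  ring

/-- The order of the stabiliser of the first line. -/
theorem card_borel (m : G →* Mat) (htr : ∀ v, v ≠ 0 → ∃ y : G, col0 (m y) = v)
    (B : Subgroup G) (hB : ∀ x, x ∈ B ↔ m x 1 0 = 0) :
    ((Fintype.card F : ℂ) + 1) * (Nat.card B : ℂ) = (Nat.card G : ℂ) := by
  have h := sum_col0 m htr (fun v => if v 1 = 0 then 1 else 0)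
  have h1 : (∑ x : G, if col0 (m x) 1 = 0 then (1 : ℂ) else 0) = (Nat.card B : ℂ) := by
    rw [Finset.sum_boole, ← Fintype.card_subtype, ← Nat.card_eq_fintype_card]
    exact congrArg _ (Nat.card_congr (Equiv.subtypeEquivRight fun x => (hB x).symm))
  have h2 : (∑ v ∈ Finset.univ.filter (fun v : Fin 2 → F => v ≠ 0),
      if v 1 = 0 then (1 : ℂ) else 0) = (Fintype.card F : ℂ) - 1 := by
    rw [Finset.sum_boole, Finset.filter_filter, show ((Finset.univ.filter
      fun v : Fin 2 → F => v ≠ 0 ∧ v 1 = 0).card) = Fintype.card F - 1 from ?_,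
      Nat.cast_sub Fintype.card_pos, Nat.cast_one]
    rw [← Finset.card_univ, ← Finset.card_erase_of_mem (Finset.mem_univ (0 : F))]
    refine (Finset.card_nbij (fun a => ![a, 0]) (fun a ha => ?_) (fun a _ b _ hab => ?_)
      (fun v hv => ?_)).symm
    · refine Finset.mem_filter.2 ⟨Finset.mem_univ _, fun h0 => ?_, by simp⟩
      exact (Finset.mem_erase.1 ha).1 (by simpa using congrFun h0 0)
    · simpa using congrFun hab 0
    · obtain ⟨-, hv0, hv1⟩ := Finset.mem_filter.1 hv
      refine ⟨v 0, Finset.mem_erase.2 ⟨fun h0 => hv0 ?_, Finset.mem_univ _⟩, ?_⟩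
      · ext i; fin_cases i <;> simp [h0, hv1]
      · ext i; fin_cases i <;> simp [hv1]
  rw [h1, h2] at h
  have hq : (Fintype.card F : ℂ) - 1 ≠ 0 := by
    rw [sub_ne_zero]; exact_mod_cast (Fintype.one_lt_card : 1 < Fintype.card F).ne'
  apply mul_left_cancel₀ hq
  linear_combination h

/-- Value of a function induced from the stabiliser of the first line. -/
theorem indFun_borel (m : G →* Mat) (htr : ∀ v, v ≠ 0 → ∃ y : G, col0 (m y) = v)
    (B : Subgroup G) (hB : ∀ x, x ∈ B ↔ m x 1 0 = 0) (θ : B → ℂ) (Θ : F → F → ℂ)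
    (hθ : ∀ b : B, θ b = Θ (m (b : G) 0 0) (m (b : G)).det) (g : G) :
    ((Fintype.card F : ℂ) - 1) * Cfsg.indFun B θ g =
      ∑ c : F, Θ c (m g).det * (eigenCount (m g) c : ℂ) := by
  set φ : (Fin 2 → F) → ℂ := fun v =>
    ∑ c : F, if (m g).mulVec v = c • v then Θ c (m g).det else 0 with hφ
  have hext : ∀ x : G, Cfsg.extendByZero B θ (x⁻¹ * g * x) = φ (col0 (m x)) := by
    intro x
    have hgx : (m g).mulVec (col0 (m x)) = (m x).mulVec (col0 (m (x⁻¹ * g * x))) := by
      rw [← col0_mul, ← col0_mul, ← map_mul, ← map_mul,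
        show x * (x⁻¹ * g * x) = g * x by group]
    have key : ∀ c : F, (m g).mulVec (col0 (m x)) = c • col0 (m x) ↔
        m (x⁻¹ * g * x) 0 0 = c ∧ m (x⁻¹ * g * x) 1 0 = 0 := by
      intro c
      rw [hgx, col0_eq (m x), ← Matrix.mulVec_smul]
      constructor
      · intro h
        have := congrArg (m x⁻¹).mulVec h
        rw [Matrix.mulVec_mulVec, Matrix.mulVec_mulVec, ← map_mul, inv_mul_cancel, map_one,
          Matrix.one_mulVec, Matrix.one_mulVec] at this
        exact ⟨by simpa [col0] using congrFun this 0, by simpa [col0] using congrFun this 1⟩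
      · rintro ⟨h0, h1⟩
        congr 1
        ext i; fin_cases i <;> simp [col0, h0, h1]
    by_cases hmem : x⁻¹ * g * x ∈ B
    · rw [CfsgLib.Char.extendByZero_apply_mem B θ hmem, hθ, hφ]
      have hdet : (m (x⁻¹ * g * x)).det = (m g).det := by
        rw [map_mul, map_mul, Matrix.det_mul, Matrix.det_mul, mul_comm, ← mul_assoc,
          ← Matrix.det_mul, ← map_mul, mul_inv_cancel, map_one, Matrix.det_one, one_mul]
      simp only [key, (hB _).1 hmem, and_true, hdet]
      rw [Finset.sum_ite_eq, if_pos (Finset.mem_univ _)]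
    · rw [CfsgLib.Char.extendByZero_apply_notMem B θ hmem, hφ]
      simp only [key, (not_congr (hB _)).1 hmem, and_false, if_false, Finset.sum_const_zero]
  have hnum : ∑ v ∈ Finset.univ.filter (fun v : Fin 2 → F => v ≠ 0), φ v =
      ∑ c : F, Θ c (m g).det * (eigenCount (m g) c : ℂ) := by
    rw [hφ, Finset.sum_comm]
    refine Finset.sum_congr rfl fun c _ => ?_
    rw [← Finset.sum_filter, Finset.sum_const, nsmul_eq_mul, mul_comm, Finset.filter_filter,
      eigenCount, Nat.card_eq_fintype_card, Fintype.card_subtype]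
  have h := sum_col0 m htr φ
  have hcb := card_borel m htr B hB
  have hB0 : (Nat.card B : ℂ) ≠ 0 := Nat.cast_ne_zero.2 Nat.card_pos.ne'
  have hq : (Fintype.card F : ℂ) + 1 ≠ 0 := by
    exact_mod_cast Nat.succ_ne_zero (Fintype.card F)
  rw [CfsgLib.Char.indFun_def, Finset.sum_congr rfl fun x _ => hext x, ← hnum]
  apply mul_left_cancel₀ (mul_ne_zero hq hB0)
  calc ((Fintype.card F : ℂ) + 1) * (Nat.card B : ℂ) *
        (((Fintype.card F : ℂ) - 1) * ((Nat.card B : ℂ)⁻¹ * ∑ x : G, φ (col0 (m x))))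
      = ((Fintype.card F : ℂ) ^ 2 - 1) * ∑ x : G, φ (col0 (m x)) := by
        field_simp; ring
    _ = _ := by rw [h, hcb]

theorem indFun_borel_scal (m : G →* Mat) (htr : ∀ v, v ≠ 0 → ∃ y : G, col0 (m y) = v)
    (B : Subgroup G) (hB : ∀ x, x ∈ B ↔ m x 1 0 = 0) (θ : B → ℂ) (Θ : F → F → ℂ)
    (hθ : ∀ b : B, θ b = Θ (m (b : G) 0 0) (m (b : G)).det) {g : G} (hg : Scal (m g)) :
    Cfsg.indFun B θ g = ((Fintype.card F : ℂ) + 1) * Θ (m g 0 0) (m g).det := by
  have h := indFun_borel m htr B hB θ Θ hθ g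
  simp only [eigenCount_scal hg, Nat.cast_ite, Nat.cast_zero, mul_ite, mul_zero] at h
  rw [Finset.sum_ite_eq', if_pos (Finset.mem_univ _),
    Nat.cast_sub (Nat.one_le_pow _ _ Fintype.card_pos)] at h
  push_cast at h
  have hq : (Fintype.card F : ℂ) - 1 ≠ 0 := by
    rw [sub_ne_zero]; exact_mod_cast (Fintype.one_lt_card : 1 < Fintype.card F).ne'
  apply mul_left_cancel₀ hq
  linear_combination h

theorem indFun_borel_nonscal (m : G →* Mat) (htr : ∀ v, v ≠ 0 → ∃ y : G, col0 (m y) = v)
    (B : Subgroup G) (hB : ∀ x, x ∈ B ↔ m x 1 0 = 0) (θ : B → ℂ) (Θ : F → F → ℂ)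
    (hθ : ∀ b : B, θ b = Θ (m (b : G) 0 0) (m (b : G)).det) {g : G} (hg : ¬ Scal (m g)) :
    Cfsg.indFun B θ g = ∑ c ∈ rts (m g).trace (m g).det, Θ c (m g).det := by
  have h := indFun_borel m htr B hB θ Θ hθ g
  simp only [eigenCount_nonscal hg, Nat.cast_ite, Nat.cast_zero, mul_ite, mul_zero,
    Nat.cast_sub (Fintype.card_pos : 1 ≤ Fintype.card F), Nat.cast_one] at h
  rw [← Finset.sum_filter, Finset.filter_mem_eq_inter, Finset.univ_inter, ← Finset.sum_mul] at h
  have hq : (Fintype.card F : ℂ) - 1 ≠ 0 := by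
    rw [sub_ne_zero]; exact_mod_cast (Fintype.one_lt_card : 1 < Fintype.card F).ne'
  apply mul_left_cancel₀ hq
  linear_combination h

end CfsgLib.KnownB.GL2
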