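import Cfsg.Agent.Lib.KnownB.GL2.Torus
import Cfsg.Agent.Lib.KnownB.GL2.Basics
import Cfsg.Agent.Lib.Char.Induced
import Cfsg.Agent.Lib.Char.Linear
import Cfsg.Agent.Lib.Char.Virtual

/-!
The cuspidal virtual characters of `GL₂`.
-/

set_option autoImplicit false

namespace CfsgLib.KnownB.GL2

open scoped MatrixGroups ComplexConjugate

section General

open _root_.Classical

/-- A function induced from the image of an injective homomorphism. -/
theorem indFun_range {G H : Type*} [Group G] [Fintype G] [Group H] [Fintype H] (j : H →* G)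
    (hj : Function.Injective j) (f : H → ℂ) (g : G) [DecidablePred fun h : H => IsConj (j h) g] :
    Cfsg.indFun j.range (fun x => f ((MonoidHom.ofInjective hj).symm x)) g =
      (Nat.card (Subgroup.centralizer ({g} : Set G)) : ℂ) / (Nat.card H : ℂ) *
        ∑ h ∈ Finset.univ.filter (fun h : H => IsConj (j h) g), f h := by
  have hH : Nat.card j.range = Nat.card H := Nat.card_congr (MonoidHom.ofInjective hj).symm.toEquiv
  rw [CfsgLib.Char.indFun_def, hH, div_eq_inv_mul, mul_assoc]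
  congr 1
  have hext : ∀ x : G, Cfsg.extendByZero j.range (fun x => f ((MonoidHom.ofInjective hj).symm x))
      (x⁻¹ * g * x) = ∑ h : H, if j h = x⁻¹ * g * x then f h else 0 := by
    intro x
    by_cases hm : x⁻¹ * g * x ∈ j.range
    · obtain ⟨h₁, hh⟩ := hm
      rw [Finset.sum_eq_single h₁ (fun h _ hne => if_neg fun he => hne (hj (he.trans hh.symm)))
        (fun h => absurd (Finset.mem_univ _) h), if_pos hh, ← hh,
        CfsgLib.Char.extendByZero_apply_mem _ _ (⟨h₁, rfl⟩ : j h₁ ∈ j.range)]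
      exact congrArg f ((MonoidHom.ofInjective hj).symm_apply_eq.2 (Subtype.ext rfl))
    · rw [CfsgLib.Char.extendByZero_apply_notMem _ _ hm, Finset.sum_eq_zero]
      intro h _
      exact if_neg fun he => hm ⟨h, he⟩
  rw [Finset.sum_congr rfl fun x _ => hext x, Finset.sum_comm, Finset.mul_sum, Finset.sum_filter]
  refine Finset.sum_congr rfl fun h _ => ?_
  split_ifs with hc
  · obtain ⟨y, hy⟩ := isConj_iff.1 hc
    rw [← Finset.sum_filter, Finset.sum_const, nsmul_eq_mul]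
    congr 2
    rw [← Fintype.card_subtype, ← Nat.card_eq_fintype_card]
    refine Nat.card_congr (Equiv.subtypeEquiv (Equiv.mulRight y⁻¹) fun x => ?_)
    rw [Equiv.coe_mulRight, Subgroup.mem_centralizer_singleton_iff]
    constructor
    · intro hx
      have : g = y * (x⁻¹ * g * x) * y⁻¹ := by rw [← hx, hy]
      calc x * y⁻¹ * g = x * y⁻¹ * (y * (x⁻¹ * g * x) * y⁻¹) := by rw [← this]
        _ = g * (x * y⁻¹) := by group
    · intro hx
      calc j h = y⁻¹ * g * y := by rw [← hy]; group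
        _ = x⁻¹ * (x * y⁻¹ * g) * y := by group
        _ = x⁻¹ * g * x := by rw [hx]; group
  · exact Finset.sum_eq_zero fun x _ => if_neg fun he => hc (isConj_iff.2 ⟨x, by rw [he]; group⟩)

theorem isGeneralized_indFun_range {G H : Type*} [Group G] [Fintype G] [Group H] [Fintype H]
    (j : H →* G) (hj : Function.Injective j) (φ : H →* ℂˣ) :
    Cfsg.IsGeneralizedCharacter G
      (Cfsg.indFun j.range fun x => (φ ((MonoidHom.ofInjective hj).symm x) : ℂ)) :=
  CfsgLib.Char.IsGeneralizedCharacter.indFun _ (CfsgLib.Char.IsCharacter.isGeneralizedCharacter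
    (CfsgLib.Char.isCharacter_hom (φ.comp (MonoidHom.ofInjective hj).symm.toMonoidHom)))

theorem sum_addChar_erase {F : Type*} [Field F] [Fintype F] [DecidableEq F] :
    ∃ ψ : AddChar F ℂ, ψ 0 = 1 ∧ ∑ b ∈ (Finset.univ : Finset F).erase 0, ψ b = -1 := by
  obtain ⟨ψ, hψ⟩ := AddChar.exists_apply_ne_zero.2 (one_ne_zero : (1 : F) ≠ 0)
  refine ⟨ψ, ψ.map_zero_eq_one, ?_⟩
  have h := AddChar.sum_eq_zero_of_ne_one (ψ := ψ) fun h => hψ (by rw [h]; rfl)
  rw [← Finset.sum_erase_add _ _ (Finset.mem_univ (0 : F)), ψ.map_zero_eq_one] at h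
  linear_combination h

end General

variable {F : Type*} [Field F] [Fintype F] [DecidableEq F] {t₀ d₀ : F}

local notation "Mat" => Matrix (Fin 2) (Fin 2) F

open _root_.Classical in
/-- The cuspidal virtual character attached to a character of the torus. -/
noncomputable def piG (h₀ : rts t₀ d₀ = ∅) (θ : torG h₀ →* ℂˣ) (g : GL (Fin 2) F) : ℂ :=
  if Scal (g : Mat) then ((Fintype.card F : ℂ) - 1) * thP h₀ θ ((g : Mat) 0 0, 0)
  else -Phi h₀ θ (g : Mat).trace (g : Mat).det

theorem piG_scal (h₀ : rts t₀ d₀ = ∅) (θ : torG h₀ →* ℂˣ) {g : GL (Fin 2) F}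
    (hg : Scal (g : Mat)) :
    piG h₀ θ g = ((Fintype.card F : ℂ) - 1) * thP h₀ θ ((g : Mat) 0 0, 0) := if_pos hg

theorem piG_nonscal (h₀ : rts t₀ d₀ = ∅) (θ : torG h₀ →* ℂˣ) {g : GL (Fin 2) F}
    (hg : ¬ Scal (g : Mat)) :
    piG h₀ θ g = -Phi h₀ θ (g : Mat).trace (g : Mat).det := if_neg hg

theorem piG_conj (h₀ : rts t₀ d₀ = ∅) (θ : torG h₀ →* ℂˣ) {a b : GL (Fin 2) F} (h : IsConj a b) :
    piG h₀ θ a = piG h₀ θ b := by
  rcases gl_isConj_iff.1 h with rfl | ⟨ha, hb, ht, hd⟩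
  · rfl
  · rw [piG_nonscal h₀ θ ha, piG_nonscal h₀ θ hb, ht, hd]

/-- The inner product of two cuspidal virtual characters. -/
theorem classInner_piG (h₀ : rts t₀ d₀ = ∅) (θ φ : torG h₀ →* ℂˣ)
    [Decidable (θ = φ)] [Decidable (θ = φ.comp (barT h₀))] :
    Cfsg.classInner (piG h₀ θ) (piG h₀ φ) =
      (if θ = φ then 1 else 0) + (if θ = φ.comp (barT h₀) then 1 else 0) := by
  classical
  set q : ℂ := (Fintype.card F : ℂ) with hq
  set S : ℂ := ∑ z : Fˣ, thP h₀ θ ((z : F), 0) * conj (thP h₀ φ ((z : F), 0)) with hS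
  have hsum := sum_GL (fun g => piG h₀ θ g * conj (piG h₀ φ g))
    (fun a b hab => by rw [piG_conj h₀ θ hab, piG_conj h₀ φ hab])
    (fun T D => Phi h₀ θ T D * conj (Phi h₀ φ T D))
    (fun g hg => by rw [piG_nonscal h₀ θ hg, piG_nonscal h₀ φ hg, map_neg, neg_mul_neg]) h₀
  have e1 : ∑ z : Fˣ, piG h₀ θ (scalGL z) * conj (piG h₀ φ (scalGL z)) = (q - 1) ^ 2 * S := by
    rw [hS, Finset.mul_sum]
    refine Finset.sum_congr rfl fun z _ => ?_
    have hs : Scal ((scalGL z : GL (Fin 2) F) : Mat) := (scal_iff_exists _).2 ⟨_, coe_scalGL z⟩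
    have h00 : ((scalGL z : GL (Fin 2) F) : Mat) 0 0 = (z : F) := by simp [coe_scalGL]
    rw [piG_scal h₀ θ hs, piG_scal h₀ φ hs, h00, map_mul, map_sub, Complex.conj_natCast, map_one, hq]
    ring
  have e2 : ∑ r : Fˣ, Phi h₀ θ (2 * (r : F)) ((r : F) ^ 2) *
      conj (Phi h₀ φ (2 * (r : F)) ((r : F) ^ 2)) = S := by
    simp only [Phi_double, hS]
  have e3 : ∑ p ∈ distinct F, Phi h₀ θ (p.1 + p.2) (p.1 * p.2) *
      conj (Phi h₀ φ (p.1 + p.2) (p.1 * p.2)) = 0 := by
    refine Finset.sum_eq_zero fun p hp => ?_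
    simp only [distinct, Finset.mem_filter] at hp
    rw [Phi_split h₀ θ (card_rts_split hp.2.2.2), zero_mul]
  set X : F × F → ℂ := fun v => (thP h₀ θ v + thP h₀ θ (barP t₀ v)) *
    conj (thP h₀ φ v + thP h₀ φ (barP t₀ v)) with hX
  have hall : ∑ v, X v = 2 * (q ^ 2 - 1) *
      ((if θ = φ then 1 else 0) + (if θ = φ.comp (barT h₀) then 1 else 0)) := by
    simp only [hX, map_add, add_mul, mul_add, Finset.sum_add_distrib, thP_bar, sum_thP]
    have i1 : (θ.comp (barT h₀) = φ.comp (barT h₀)) ↔ θ = φ :=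
      ⟨fun h => MonoidHom.ext fun c => by
        have := DFunLike.congr_fun h (barT h₀ c)
        simpa [MonoidHom.comp_apply, barT_barT] using this, fun h => by rw [h]⟩
    have i2 : (θ.comp (barT h₀) = φ) ↔ θ = φ.comp (barT h₀) :=
      ⟨fun h => MonoidHom.ext fun c => by rw [← h]; simp [barT_barT],
        fun h => MonoidHom.ext fun c => by rw [h]; simp [barT_barT]⟩
    simp only [i1, i2, hq]
    split_ifs <;> ring
  have hz : ∑ v ∈ Finset.univ.filter (fun v : F × F => v.2 = 0), X v = 4 * S := by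
    rw [hS, Finset.mul_sum]
    have : Finset.univ.filter (fun v : F × F => v.2 = 0) =
        (Finset.univ : Finset F).image fun x => (x, (0 : F)) := by
      ext ⟨x, y⟩; simp [eq_comm]
    rw [this, Finset.sum_image (fun a _ b _ h => congrArg Prod.fst h),
      ← Finset.sum_erase_add _ _ (Finset.mem_univ (0 : F))]
    have hx : ∀ x : F, X (x, 0) = 4 * (thP h₀ θ (x, 0) * conj (thP h₀ φ (x, 0))) := fun x => by
      have : barP t₀ ((x, 0) : F × F) = (x, 0) := by simp [barP]
      simp only [hX, this, map_add]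
      ring
    rw [hx 0, show ((0 : F), (0 : F)) = 0 from rfl, thP_zero, zero_mul, mul_zero, add_zero]
    refine Finset.sum_bij' (fun x hx' => Units.mk0 x (Finset.mem_erase.1 hx').1) (fun a _ => (a : F))
      (fun _ _ => Finset.mem_univ _)
      (fun a _ => Finset.mem_erase.2 ⟨a.ne_zero, Finset.mem_univ _⟩) (fun _ _ => rfl)
      (fun a _ => Units.ext rfl) (fun x _ => hx x)
  have e4 : ∑ v ∈ Finset.univ.filter (fun v : F × F => v.2 ≠ 0),
      Phi h₀ θ (2 * v.1 + t₀ * v.2) (nf t₀ d₀ v.1 v.2) *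
        conj (Phi h₀ φ (2 * v.1 + t₀ * v.2) (nf t₀ d₀ v.1 v.2)) =
      2 * (q ^ 2 - 1) * ((if θ = φ then 1 else 0) + (if θ = φ.comp (barT h₀) then 1 else 0)) - 4 * S := by
    rw [← hall, ← hz, ← Finset.sum_filter_not_add_sum_filter Finset.univ (fun v : F × F => v.2 = 0) X,
      add_sub_cancel_right]
    refine Finset.sum_congr (by simp) fun v hv => ?_
    rw [Phi_ell h₀ θ (by simpa using hv), Phi_ell h₀ φ (by simpa using hv)]
  rw [e1, e2, e3, e4] at hsum
  have hG : (Nat.card (GL (Fin 2) F) : ℂ) ≠ 0 := Nat.cast_ne_zero.2 Nat.card_pos.ne'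
  rw [Cfsg.classInner]
  apply mul_left_cancel₀ hG
  rw [← mul_assoc, mul_inv_cancel₀ hG, one_mul, cast_card_GL]
  apply mul_left_cancel₀ (two_ne_zero (α := ℂ))
  rw [hsum]
  ring

theorem scalGL_pair_ne (z : Fˣ) : ((z : F), (0 : F)) ≠ 0 := fun h =>
  z.ne_zero (congrArg Prod.fst h)

/-- The centre times the unipotent subgroup. -/
noncomputable def zuHom : Fˣ × Multiplicative F →* GL (Fin 2) F :=
  MonoidHom.mk' (fun p => Matrix.GeneralLinearGroup.mkOfDetNeZero
    !![(p.1 : F), (p.1 : F) * p.2.toAdd; 0, (p.1 : F)] (by simp [Matrix.det_fin_two_of]))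
    fun p r => by
      refine Units.ext ?_
      ext i j
      fin_cases i <;> fin_cases j <;>
        simp [Matrix.GeneralLinearGroup.mkOfDetNeZero, Matrix.mul_apply, Fin.sum_univ_two] <;> ring

theorem coe_zuHom (p : Fˣ × Multiplicative F) :
    ((zuHom p : GL (Fin 2) F) : Mat) = !![(p.1 : F), (p.1 : F) * p.2.toAdd; 0, (p.1 : F)] := rfl

theorem zuHom_injective : Function.Injective (zuHom (F := F)) := by
  intro p r h
  have h' := congrArg (fun g : GL (Fin 2) F => (g : Mat)) h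
  simp only [coe_zuHom] at h'
  have e0 := congrFun (congrFun h' 0) 0
  have e1 := congrFun (congrFun h' 0) 1
  simp at e0 e1
  rw [← e0] at e1
  exact Prod.ext (Units.ext e0) (by simpa using e1)

/-- The scalars in the torus. -/
noncomputable def zTor (h₀ : rts t₀ d₀ = ∅) (z : Fˣ) : torG h₀ :=
  torEquiv h₀ ⟨((z : F), 0), scalGL_pair_ne z⟩

theorem coe_zTor (h₀ : rts t₀ d₀ = ∅) (z : Fˣ) :
    ((zTor h₀ z : GL (Fin 2) F) : Mat) = (z : F) • 1 := by
  rw [zTor, coe_torEquiv]
  simp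

/-- The scalars in the torus, as a homomorphism. -/
noncomputable def zTorHom (h₀ : rts t₀ d₀ = ∅) : Fˣ →* torG h₀ :=
  MonoidHom.mk' (zTor h₀) fun a b => Subtype.ext (Units.ext (by
    rw [Subgroup.coe_mul, Units.val_mul, coe_zTor, coe_zTor, coe_zTor]
    simp [smul_smul, mul_comm]))

theorem hom_zTor (h₀ : rts t₀ d₀ = ∅) (θ : torG h₀ →* ℂˣ) (z : Fˣ) :
    (θ (zTor h₀ z) : ℂ) = thP h₀ θ ((z : F), 0) :=
  (thP_of_ne h₀ θ (scalGL_pair_ne z)).symm

theorem scal_zuHom {p : Fˣ × Multiplicative F} :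
    Scal ((zuHom p : GL (Fin 2) F) : Mat) ↔ p.2 = 1 := by
  rw [coe_zuHom]
  constructor
  · intro h
    have := h.1
    simp at this
    exact this
  · intro h
    exact ⟨by simp [h], by simp, by simp⟩

theorem trace_zuHom (p : Fˣ × Multiplicative F) :
    ((zuHom p : GL (Fin 2) F) : Mat).trace = 2 * (p.1 : F) := by
  rw [coe_zuHom, Matrix.trace_fin_two_of, two_mul]

theorem det_zuHom (p : Fˣ × Multiplicative F) :
    ((zuHom p : GL (Fin 2) F) : Mat).det = (p.1 : F) ^ 2 := by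
  rw [coe_zuHom, Matrix.det_fin_two_of, mul_zero, sub_zero, sq]

theorem scal_torEquiv (h₀ : rts t₀ d₀ = ∅) (p : {p : F × F // p ≠ 0}) :
    Scal ((torEquiv h₀ p : GL (Fin 2) F) : Mat) ↔ p.1.2 = 0 := by
  rw [coe_torEquiv]
  constructor
  · intro h
    simpa [comp] using h.2.1
  · intro h
    exact (scal_iff_exists _).2 ⟨p.1.1, by simp [h]⟩

open _root_.Classical in
theorem sum_zu_scal (h₀ : rts t₀ d₀ = ∅) (θ : torG h₀ →* ℂˣ) (ψ : AddChar F ℂ) (hψ0 : ψ 0 = 1)
    {g : GL (Fin 2) F} (hs : Scal (g : Mat)) :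
    ∑ h ∈ Finset.univ.filter (fun h => IsConj (zuHom h) g),
      (θ (zTor h₀ h.1) : ℂ) * ψ h.2.toAdd = thP h₀ θ ((g : Mat) 0 0, 0) := by
  have hg0 : (g : Mat) 0 0 ≠ 0 := fun h0 => g.det_ne_zero (by
    rw [Matrix.det_fin_two, hs.1, hs.2.1, h0]; ring)
  have hgz : zuHom (Units.mk0 _ hg0, 1) = g := Units.ext (by
    rw [coe_zuHom]
    conv_rhs => rw [scal_eq hs]
    ext i j; fin_cases i <;> fin_cases j <;> simp)
  rw [Finset.sum_eq_single_of_mem (Units.mk0 _ hg0, 1)]
  · rw [hom_zTor, toAdd_one, hψ0, mul_one, Units.val_mk0]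
  · exact Finset.mem_filter.2 ⟨Finset.mem_univ _, by rw [hgz]⟩
  · intro h hh hne
    exfalso
    rcases gl_isConj_iff.1 (Finset.mem_filter.1 hh).2 with he | ⟨-, hns, -⟩
    · exact hne (zuHom_injective (he.trans hgz.symm))
    · exact hns hs

open _root_.Classical in
theorem sum_zu_nonscal (h₀ : rts t₀ d₀ = ∅) (θ : torG h₀ →* ℂˣ) (ψ : AddChar F ℂ)
    (hψ : ∑ b ∈ (Finset.univ : Finset F).erase 0, ψ b = -1) {g : GL (Fin 2) F}
    (hs : ¬ Scal (g : Mat)) :
    ∑ h ∈ Finset.univ.filter (fun h => IsConj (zuHom h) g),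
      (θ (zTor h₀ h.1) : ℂ) * ψ h.2.toAdd =
        if (rts (g : Mat).trace (g : Mat).det).card = 1 then
          -Phi h₀ θ (g : Mat).trace (g : Mat).det else 0 := by
  have hiff : ∀ h : Fˣ × Multiplicative F, IsConj (zuHom h) g ↔
      h.2 ≠ 1 ∧ 2 * (h.1 : F) = (g : Mat).trace ∧ (h.1 : F) ^ 2 = (g : Mat).det := by
    intro h
    rw [gl_isConj_iff]
    constructor
    · rintro (he | ⟨hns, -, ht, hd⟩)
      · rw [← he]
        exact ⟨fun h1 => hs (he ▸ scal_zuHom.2 h1), (trace_zuHom h).symm, (det_zuHom h).symm⟩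
      · exact ⟨fun h1 => hns (scal_zuHom.2 h1), (trace_zuHom h).symm.trans ht,
          (det_zuHom h).symm.trans hd⟩
    · rintro ⟨h1, ht, hd⟩
      exact Or.inr ⟨fun h2 => h1 (scal_zuHom.1 h2), hs, (trace_zuHom h).trans ht,
        (det_zuHom h).trans hd⟩
  simp only [hiff]
  split_ifs with hc
  · obtain ⟨r, h1, h2⟩ := exists_double_of_card hc
    have hr : r ≠ 0 := fun h0 => g.det_ne_zero (by rw [← h2, h0]; ring)
    rw [Finset.sum_bij' (t := (Finset.univ : Finset F).erase 0)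
      (g := fun b => (θ (zTor h₀ (Units.mk0 r hr)) : ℂ) * ψ b)
      (fun h _ => h.2.toAdd) (fun b _ => (Units.mk0 r hr, Multiplicative.ofAdd b))
      (fun h hh => ?_) (fun b hb => ?_) (fun h hh => ?_) (fun b _ => rfl) (fun h hh => ?_)]
    · rw [← Finset.mul_sum, hψ, hom_zTor, ← h1, ← h2, Phi_double, Units.val_mk0]
      ring
    · refine Finset.mem_erase.2 ⟨fun hb => (Finset.mem_filter.1 hh).2.1 ?_, Finset.mem_univ _⟩
      rw [← toAdd_one] at hb
      exact Multiplicative.toAdd.injective hb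
    · refine Finset.mem_filter.2 ⟨Finset.mem_univ _, fun h => (Finset.mem_erase.1 hb).1 ?_, h1, h2⟩
      simpa using h
    · obtain ⟨-, -, ht, hd⟩ := Finset.mem_filter.1 hh
      exact Prod.ext (Units.ext (double_injective (h1.trans ht.symm) (h2.trans hd.symm))) rfl
    · obtain ⟨-, -, ht, hd⟩ := Finset.mem_filter.1 hh
      rw [show h.1 = Units.mk0 r hr from
        Units.ext (double_injective (ht.trans h1.symm) (hd.trans h2.symm))]
  · refine Finset.sum_eq_zero fun h hh => ?_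
    obtain ⟨-, -, ht, hd⟩ := Finset.mem_filter.1 hh
    exact absurd (by rw [← ht, ← hd]; exact card_rts_double _) hc

open _root_.Classical in
theorem sum_tor_scal (h₀ : rts t₀ d₀ = ∅) (θ : torG h₀ →* ℂˣ)
    {g : GL (Fin 2) F} (hs : Scal (g : Mat)) :
    ∑ h ∈ Finset.univ.filter (fun h : torG h₀ => IsConj ((torG h₀).subtype h) g), (θ h : ℂ) =
      thP h₀ θ ((g : Mat) 0 0, 0) := by
  have hg0 : (g : Mat) 0 0 ≠ 0 := fun h0 => g.det_ne_zero (by
    rw [Matrix.det_fin_two, hs.1, hs.2.1, h0]; ring)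
  have hgz : (torG h₀).subtype (zTor h₀ (Units.mk0 _ hg0)) = g :=
    Units.ext ((coe_zTor h₀ _).trans (scal_eq hs).symm)
  rw [Finset.sum_eq_single_of_mem (zTor h₀ (Units.mk0 _ hg0))]
  · rw [hom_zTor, Units.val_mk0]
  · exact Finset.mem_filter.2 ⟨Finset.mem_univ _, by rw [hgz]⟩
  · intro h hh hne
    exfalso
    rcases gl_isConj_iff.1 (Finset.mem_filter.1 hh).2 with he | ⟨-, hns, -⟩
    · exact hne (Subtype.coe_injective (he.trans hgz.symm))
    · exact hns hs

open _root_.Classical in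
theorem sum_tor_nonscal (h₀ : rts t₀ d₀ = ∅) (θ : torG h₀ →* ℂˣ) {g : GL (Fin 2) F}
    (hs : ¬ Scal (g : Mat)) :
    ∑ h ∈ Finset.univ.filter (fun h : torG h₀ => IsConj ((torG h₀).subtype h) g), (θ h : ℂ) =
      if rts (g : Mat).trace (g : Mat).det = ∅ then Phi h₀ θ (g : Mat).trace (g : Mat).det
      else 0 := by
  have hiff : ∀ p : {p : F × F // p ≠ 0}, IsConj ((torG h₀).subtype (torEquiv h₀ p)) g ↔
      p.1.2 ≠ 0 ∧ 2 * p.1.1 + t₀ * p.1.2 = (g : Mat).trace ∧
        nf t₀ d₀ p.1.1 p.1.2 = (g : Mat).det := by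
    intro p
    rw [gl_isConj_iff, Subgroup.subtype_apply]
    constructor
    · rintro (he | ⟨hns, -, ht, hd⟩)
      · rw [← he]
        exact ⟨fun hy => hs (he ▸ (scal_torEquiv h₀ p).2 hy), (trace_torEquiv h₀ p).symm,
          (det_torEquiv h₀ p).symm⟩
      · exact ⟨fun hy => hns ((scal_torEquiv h₀ p).2 hy), (trace_torEquiv h₀ p).symm.trans ht,
          (det_torEquiv h₀ p).symm.trans hd⟩
    · rintro ⟨hy, ht, hd⟩
      exact Or.inr ⟨fun hsc => hy ((scal_torEquiv h₀ p).1 hsc), hs,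
        (trace_torEquiv h₀ p).trans ht, (det_torEquiv h₀ p).trans hd⟩
  rw [Finset.sum_filter, ← (torEquiv h₀).sum_comp]
  simp only [hiff]
  rw [← Finset.sum_filter]
  split_ifs with hr
  · rw [Phi]
    refine Finset.sum_bij' (fun p _ => p.1) (fun v hv => ⟨v, fun h0 => g.det_ne_zero ?_⟩)
      (fun p hp => ?_) (fun v hv => ?_) (fun _ _ => rfl) (fun _ _ => rfl)
      (fun p _ => (thP_of_ne h₀ θ p.2).symm)
    · rw [← (Finset.mem_filter.1 hv).2.2, h0]; simp [nf]
    · exact Finset.mem_filter.2 ⟨Finset.mem_univ _, (Finset.mem_filter.1 hp).2.2⟩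
    · obtain ⟨-, h1, h2⟩ := Finset.mem_filter.1 hv
      refine Finset.mem_filter.2 ⟨Finset.mem_univ _, fun hy => ?_, h1, h2⟩
      have : v.1 ∈ rts (g : Mat).trace (g : Mat).det := by
        rw [mem_rts, ← h1, ← h2]; simp only [nf]; rw [show v.2 = 0 from hy]; ring
      simp [hr] at this
  · refine Finset.sum_eq_zero fun p hp => (hr ?_).elim
    obtain ⟨-, hy, h1, h2⟩ := Finset.mem_filter.1 hp
    rw [← h1, ← h2]; exact rts_ell h₀ hy

/-- The cuspidal class function is a generalised character. -/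
theorem isGeneralized_piG (h₀ : rts t₀ d₀ = ∅) (θ : torG h₀ →* ℂˣ) :
    Cfsg.IsGeneralizedCharacter (GL (Fin 2) F) (piG h₀ θ) := by
  classical
  obtain ⟨ψ, hψ0, hψ⟩ := sum_addChar_erase (F := F)
  let lam : Fˣ × Multiplicative F →* ℂˣ :=
    ((θ.comp (zTorHom h₀)).comp (MonoidHom.fst _ _)) *
      (ψ.toMonoidHom.toHomUnits.comp (MonoidHom.snd _ _))
  have hjC : Function.Injective (torG h₀).subtype := Subtype.coe_injective
  let A := Cfsg.indFun (zuHom (F := F)).range
    (fun x => (lam ((MonoidHom.ofInjective zuHom_injective).symm x) : ℂ))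
  let B := Cfsg.indFun (torG h₀).subtype.range
    (fun x => (θ ((MonoidHom.ofInjective hjC).symm x) : ℂ))
  have hlam : ∀ h : Fˣ × Multiplicative F,
      (lam h : ℂ) = (θ (zTor h₀ h.1) : ℂ) * ψ h.2.toAdd := fun h => rfl
  have hA := fun g => indFun_range (zuHom (F := F)) zuHom_injective (fun h => (lam h : ℂ)) g
  have hB := fun g => indFun_range (torG h₀).subtype hjC (fun h => (θ h : ℂ)) g
  have hAB : piG h₀ θ = A - B := by
    funext g
    have hq0 : (Fintype.card F : ℂ) ≠ 0 := by exact_mod_cast Fintype.card_ne_zero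
    have hq1 : (Fintype.card F : ℂ) - 1 ≠ 0 := by
      rw [sub_ne_zero]
      exact_mod_cast (Fintype.one_lt_card : 1 < Fintype.card F).ne'
    have hqC : (Fintype.card F : ℂ) ^ 2 - 1 ≠ 0 := by
      rw [sub_ne_zero]
      exact_mod_cast (Nat.one_lt_pow two_ne_zero (Fintype.one_lt_card : 1 < Fintype.card F)).ne'
    have hcH : (Nat.card (Fˣ × Multiplicative F) : ℂ) =
        ((Fintype.card F : ℂ) - 1) * Fintype.card F := by
      rw [Nat.card_prod, Nat.card_units, Nat.card_congr Multiplicative.toAdd,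
        Nat.card_eq_fintype_card, Nat.cast_mul, Nat.cast_sub Fintype.card_pos, Nat.cast_one]
    have hcC : (Nat.card (torG h₀) : ℂ) = (Fintype.card F : ℂ) ^ 2 - 1 := by
      rw [card_torG, Nat.cast_sub (Nat.one_le_pow _ _ Fintype.card_pos)]
      push_cast; rfl
    show _ = A g - B g
    rw [show A g = _ from hA g, show B g = _ from hB g, hcH, hcC]
    simp only [hlam]
    by_cases hs : Scal (g : Mat)
    · rw [sum_zu_scal h₀ θ ψ hψ0 hs, sum_tor_scal h₀ θ hs, piG_scal h₀ θ hs,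
        card_cent_scal g hs, cast_card_GL]
      field_simp
      ring
    · rw [sum_zu_nonscal h₀ θ ψ hψ hs, sum_tor_nonscal h₀ θ hs, piG_nonscal h₀ θ hs,
        cast_centGL g hs]
      have := card_rts_le (g : Mat).trace (g : Mat).det
      rcases (show (rts (g : Mat).trace (g : Mat).det).card = 0 ∨
          (rts (g : Mat).trace (g : Mat).det).card = 1 ∨
          (rts (g : Mat).trace (g : Mat).det).card = 2 by omega) with hk | hk | hk
      · rw [if_neg (by omega), if_pos (Finset.card_eq_zero.1 hk), hk]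
        push_cast
        field_simp
        ring
      · rw [if_pos hk, if_neg (fun he => by simp [he] at hk), hk]
        push_cast
        field_simp
        ring
      · rw [if_neg (by omega), if_neg (fun he => by simp [he] at hk), Phi_split h₀ θ hk]
        ring
  rw [hAB]
  have eA : Cfsg.IsGeneralizedCharacter (GL (Fin 2) F) A :=
    isGeneralized_indFun_range (zuHom (F := F)) zuHom_injective lam
  have eB : Cfsg.IsGeneralizedCharacter (GL (Fin 2) F) B :=
    isGeneralized_indFun_range (torG h₀).subtype hjC θ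
  exact CfsgLib.Char.IsGeneralizedCharacter.sub eA eB

theorem piG_one (h₀ : rts t₀ d₀ = ∅) (θ : torG h₀ →* ℂˣ) :
    piG h₀ θ 1 = (Fintype.card F : ℂ) - 1 := by
  have hs : Scal ((1 : GL (Fin 2) F) : Mat) := by simp [Scal]
  rw [piG_scal h₀ θ hs, Units.val_one, Matrix.one_apply_eq,
    thP_of_ne h₀ θ (by simp : ((1 : F), (0 : F)) ≠ 0)]
  have : torEquiv h₀ ⟨((1 : F), (0 : F)), by simp⟩ = 1 := by
    refine Subtype.ext (Units.ext ?_)
    simp [coe_torEquiv]
  rw [this, map_one, Units.val_one, mul_one]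

end CfsgLib.KnownB.GL2
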