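import Cfsg.Agent.Lib.KnownB.GL2.PiSL
import Cfsg.Agent.Lib.Char.AbelianDegreeBound

/-!
The two halves of a character of norm two in the series of `SL₂`.
-/

set_option autoImplicit false

namespace CfsgLib.KnownB.GL2

open scoped MatrixGroups ComplexConjugate

variable {F : Type*} [Field F] [Fintype F] [DecidableEq F] {t₀ d₀ : F}

local notation "Mat" => Matrix (Fin 2) (Fin 2) F
local notation "qC" => (Fintype.card F : ℂ)

/-- The diagonal element `diag(1, e)` of `GL₂`. -/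
noncomputable def diag1 (e : Fˣ) : GL (Fin 2) F :=
  Matrix.GeneralLinearGroup.mkOfDetNeZero !![1, 0; 0, (e : F)] (by simp [Matrix.det_fin_two_of])

/-- Conjugation by `diag(1, e)`. -/
def conjX (e : Fˣ) : SL(2, F) →* SL(2, F) :=
  MonoidHom.mk' (fun g => mkSL !![(g : Mat) 0 0, (g : Mat) 0 1 * (e : F)⁻¹; (g : Mat) 1 0 * e, (g : Mat) 1 1] (by
      have h := sl_det g
      rw [Matrix.det_fin_two] at h
      rw [Matrix.det_fin_two_of]
      field_simp
      linear_combination h))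
    fun a b => Subtype.ext (by
      show _ = (!![_, _; _, _] : Mat) * !![_, _; _, _]
      ext i j
      fin_cases i <;> fin_cases j <;>
        simp [Matrix.SpecialLinearGroup.coe_mul, Matrix.mul_apply, Fin.sum_univ_two] <;> field_simp)

theorem coe_conjX (e : Fˣ) (g : SL(2, F)) : (conjX e g : Mat) =
    !![(g : Mat) 0 0, (g : Mat) 0 1 * (e : F)⁻¹; (g : Mat) 1 0 * e, (g : Mat) 1 1] := rfl

theorem toGL_conjX (e : Fˣ) (g : SL(2, F)) :
    Matrix.SpecialLinearGroup.toGL (conjX e g) =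
      diag1 e * Matrix.SpecialLinearGroup.toGL g * (diag1 e)⁻¹ := by
  rw [eq_mul_inv_iff_mul_eq]
  refine Units.ext ?_
  show (conjX e g : Mat) * (!![1, 0; 0, (e : F)] : Mat) = (!![1, 0; 0, (e : F)] : Mat) * (g : Mat)
  ext i j
  fin_cases i <;> fin_cases j <;> simp [coe_conjX, Matrix.mul_apply, Fin.sum_univ_two] <;> ring

theorem conjX_par (e : Fˣ) (r : Sg F) (b : Fˣ) :
    conjX e (parSL r.1 b (sg_sq r)) = parSL r.1 ((b * e⁻¹ : Fˣ) : F) (sg_sq r) := by
  refine Subtype.ext ?_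
  show (conjX e _ : Mat) = (parSL r.1 ((b * e⁻¹ : Fˣ) : F) (sg_sq r) : Mat)
  rw [coe_conjX, coe_parSL, coe_parSL]
  simp

theorem conjX_scal (e : Fˣ) {g : SL(2, F)} (hg : Scal (g : Mat)) : conjX e g = g := by
  refine Subtype.ext ?_
  show (conjX e g : Mat) = (g : Mat)
  rw [coe_conjX]
  ext i j
  fin_cases i <;> fin_cases j <;> simp [hg.1, hg.2.1]

theorem conjX_trace (e : Fˣ) (g : SL(2, F)) : (conjX e g : Mat).trace = (g : Mat).trace := by
  rw [coe_conjX, Matrix.trace_fin_two_of, Matrix.trace_fin_two]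

theorem sg_one : (1 : F) ∈ signs F := mem_signs.2 (one_pow 2)

theorem scal_center {g : SL(2, F)} (hg : Scal (g : Mat)) : g ∈ Subgroup.center SL(2, F) := by
  refine Subgroup.mem_center_iff.2 fun x => Subtype.ext ?_
  show (x : Mat) * (g : Mat) = (g : Mat) * (x : Mat)
  rw [scal_eq hg]
  simp

theorem mul_nonsquare (h2 : (2 : F) ≠ 0) {a b : Fˣ} (ha : a ∉ sqUnits F) (hb : b ∉ sqUnits F) :
    a * b ∈ sqUnits F :=
  (Subgroup.mul_mem_iff_of_index_two
    ((card_sqUnits_index (F := F)).trans (card_signs_odd h2))).2 (iff_of_false ha hb)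

/-- Off the classes `±` non-trivial unipotent. -/
def Semi (g : SL(2, F)) : Prop := Scal (g : Mat) ∨ dsc (g : Mat).trace 1 ≠ 0

theorem not_semi_par (r : Sg F) (b : Fˣ) {g : SL(2, F)}
    (h : IsConj (parSL r.1 b (sg_sq r)) g) : ¬ Semi g := by
  rintro (hs | hd)
  · exact not_scal_parSL (sg_sq r) b.ne_zero
      ((sl_isConj_trace h.symm).2 hs ▸ hs)
  · rw [← (sl_isConj_trace h).1, trace_parSL] at hd
    exact hd (dsc_double (sg_sq r))

/-- Hypotheses on a character of norm two and its two constituents. -/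
structure Halves (h₀ : rts t₀ d₀ = ∅) (θ a b : SL(2, F) → ℂ) : Prop where
  ha : Cfsg.IsIrrCharacter SL(2, F) a
  hb : Cfsg.IsIrrCharacter SL(2, F) b
  ne : a ≠ b
  add : θ = a + b
  inv : ∀ (x : GL (Fin 2) F) (g k : SL(2, F)),
    Matrix.SpecialLinearGroup.toGL k = x * Matrix.SpecialLinearGroup.toGL g * x⁻¹ → θ k = θ g
  orthI : ∀ α, Cfsg.classInner θ (indS α) = 0 ∨ indS α = θ
  orthP : ∀ ψ : torS h₀ →* ℂˣ, ψ ≠ 1 → Cfsg.classInner θ (piS h₀ ψ) = 0 ∨ piS h₀ ψ = θ
  ne_one : indS (1 : MulChar F ℂ) ≠ θ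
  degree : a 1 ≠ 0

namespace Halves

variable {h₀ : rts t₀ d₀ = ∅} {θ a b : SL(2, F) → ℂ} (H : Halves h₀ θ a b)
include H

theorem symm : Halves h₀ θ b a where
  ha := H.hb
  hb := H.ha
  ne := H.ne.symm
  add := by rw [H.add, add_comm]
  inv := H.inv
  orthI := H.orthI
  orthP := H.orthP
  ne_one := H.ne_one
  degree := CfsgLib.Char.IsIrrCharacter.apply_one_ne_zero H.hb

theorem split_zero {η : SL(2, F) → ℂ} (hη : Cfsg.IsCharacter SL(2, F) η)
    (h : Cfsg.classInner θ η = 0) : Cfsg.classInner a η = 0 ∧ Cfsg.classInner b η = 0 := by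
  obtain ⟨m, hm⟩ := CfsgLib.Char.IsCharacter.classInner_nat (CfsgLib.Char.IsIrrCharacter.isCharacter H.ha) hη
  obtain ⟨n, hn⟩ := CfsgLib.Char.IsCharacter.classInner_nat (CfsgLib.Char.IsIrrCharacter.isCharacter H.hb) hη
  rw [H.add, CfsgLib.Char.classInner_add_left, hm, hn, ← Nat.cast_add, Nat.cast_eq_zero] at h
  rw [hm, hn]
  constructor <;> exact_mod_cast (by omega)

theorem diff_orth {η : SL(2, F) → ℂ} (hη : Cfsg.IsCharacter SL(2, F) η)
    (h : Cfsg.classInner θ η = 0 ∨ η = θ) : Cfsg.classInner (a - b) η = 0 := by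
  rcases h with h | rfl
  · obtain ⟨e1, e2⟩ := H.split_zero hη h
    rw [CfsgLib.Char.classInner_sub_left, e1, e2, sub_zero]
  · rw [H.add, CfsgLib.Char.classInner_sub_left, CfsgLib.Char.classInner_add_right,
      CfsgLib.Char.classInner_add_right, CfsgLib.Char.classInner_irr_self H.ha,
      CfsgLib.Char.classInner_irr_self H.hb, CfsgLib.Char.classInner_irr_ne H.ha H.hb H.ne,
      CfsgLib.Char.classInner_irr_ne H.hb H.ha H.ne.symm]
    ring

theorem orth_one : Cfsg.classInner a (fun _ => (1 : ℂ)) = 0 ∧ Cfsg.classInner a (stS F) = 0 := by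
  have h0 := (H.split_zero (isCharacter_indS 1) ((H.orthI 1).resolve_right H.ne_one)).1
  have hS := CfsgLib.Char.IsIrrCharacter.isCharacter (isIrr_stS (F := F))
  have hA := CfsgLib.Char.IsIrrCharacter.isCharacter H.ha
  obtain ⟨m, hm⟩ := CfsgLib.Char.IsCharacter.classInner_nat hA (CfsgLib.Char.isCharacter_one (G := SL(2, F)))
  obtain ⟨n, hn⟩ := CfsgLib.Char.IsCharacter.classInner_nat hA hS
  rw [show indS (1 : MulChar F ℂ) = (fun _ => (1 : ℂ)) + stS F by rw [stS]; abel,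
    CfsgLib.Char.classInner_add_right, hm, hn, ← Nat.cast_add, Nat.cast_eq_zero] at h0
  rw [hm, hn]
  constructor <;> exact_mod_cast (by omega)

theorem diff_class : ∀ g k : SL(2, F), IsConj g k → (a - b) g = (a - b) k := fun g k h => by
  rw [Pi.sub_apply, Pi.sub_apply,
    isClassFun_iff.1 (CfsgLib.Char.IsIrrCharacter.isClassFunction H.ha) g k h,
    isClassFun_iff.1 (CfsgLib.Char.IsIrrCharacter.isClassFunction H.hb) g k h]

theorem vanish : (∀ u : Fˣ, (u : F) ^ 2 ≠ 1 → (a - b) (diagSL u) = 0) ∧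
    (∀ c : torS h₀, ¬ Scal ((c : SL(2, F)) : Mat) → (a - b) c = 0) ∧
    ∀ r : Sg F, (a - b) (scalSL r.1 (sg_sq r)) = 0 ∧
      ∑ u : Fˣ, (a - b) (parSL r.1 u (sg_sq r)) = 0 := by
  refine vanish_of_orth h₀ (a - b) H.diff_class
    (fun α => H.diff_orth (isCharacter_indS α) (H.orthI α)) fun ψ => ?_
  by_cases hψ : ψ = 1
  · subst hψ
    rw [show piS h₀ 1 = stS F - fun _ => 1 from funext fun g => by rw [Pi.sub_apply, piS_one_eq],
      CfsgLib.Char.classInner_sub_left, CfsgLib.Char.classInner_sub_right,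
      CfsgLib.Char.classInner_sub_right, H.orth_one.1, H.orth_one.2, H.symm.orth_one.1,
      H.symm.orth_one.2]
    ring
  · exact H.diff_orth (isCharacter_piS h₀ hψ) (H.orthP ψ hψ)

theorem semi_eq {g : SL(2, F)} (hg : Semi g) : a g = θ g / 2 ∧ b g = θ g / 2 := by
  have h : (a - b) g = 0 := by
    obtain ⟨h1, h2, h3⟩ := H.vanish
    rcases sl_cases h₀ g with ⟨r, rfl⟩ | ⟨r, u, hc⟩ | ⟨u, hu, hc⟩ | ⟨c, hc0, hc⟩
    · exact (h3 r).1
    · exact absurd hg (not_semi_par r u hc)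
    · rw [← H.diff_class _ _ hc]; exact h1 u hu
    · rw [← H.diff_class _ _ hc]; exact h2 c hc0
  rw [Pi.sub_apply, sub_eq_zero] at h
  rw [H.add, Pi.add_apply, ← h]
  exact ⟨by ring, by ring⟩

theorem apply_one : a 1 = θ 1 / 2 := (H.semi_eq (Or.inl (by simp [Scal]))).1

/-- The difference changes sign between the two classes of unipotents. -/
theorem diff_par (h2 : (2 : F) ≠ 0) {e : Fˣ} (he : e ∉ sqUnits F) (r : Sg F) (u : Fˣ) :
    (a - b) (parSL r.1 ((u * e⁻¹ : Fˣ) : F) (sg_sq r)) = -(a - b) (parSL r.1 u (sg_sq r)) := by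
  classical
  have hei : e⁻¹ ∉ sqUnits F := fun h => he (inv_mem_iff.1 h)
  set G : Fˣ → ℂ := fun v => (a - b) (parSL r.1 v (sg_sq r)) with hG
  have hconst : ∀ v w : Fˣ, v⁻¹ * w ∈ sqUnits F → G v = G w := fun v w h => by
    obtain ⟨t, ht⟩ := mem_sqUnits.1 h
    refine H.diff_class _ _ ((parSL_isConj (sg_sq r) (sg_sq r) v.ne_zero).2 ⟨rfl, (t : F), t.ne_zero, ?_⟩)
    rw [← Units.val_pow_eq_pow_val, ← Units.val_mul, ht, mul_inv_cancel_left]
  have hpair : ∀ v : Fˣ, G v + G (v * e⁻¹) = G u + G (u * e⁻¹) := fun v => by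
    by_cases h : u⁻¹ * v ∈ sqUnits F
    · rw [hconst u v h, hconst (u * e⁻¹) (v * e⁻¹) (by
        rwa [_root_.mul_inv, inv_inv, mul_mul_mul_comm, mul_inv_cancel, mul_one])]
    · rw [hconst u (v * e⁻¹) (by rw [← mul_assoc]; exact mul_nonsquare h2 h hei),
        hconst (u * e⁻¹) v (by
          rw [_root_.mul_inv, inv_inv, mul_right_comm]
          exact mul_nonsquare h2 h he), add_comm]
  have hsum : ∑ v : Fˣ, (G v + G (v * e⁻¹)) = 0 := by
    rw [Finset.sum_add_distrib]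
    have e1 : ∑ v : Fˣ, G (v * e⁻¹) = ∑ v : Fˣ, G v :=
      Fintype.sum_equiv (Equiv.mulRight e⁻¹) _ _ fun v => rfl
    rw [e1, hG, (H.vanish.2.2 r).2, add_zero]
  rw [Finset.sum_congr rfl fun v _ => hpair v, Finset.sum_const, Finset.card_univ, nsmul_eq_mul,
    mul_eq_zero, Nat.cast_eq_zero] at hsum
  exact eq_neg_of_add_eq_zero_right (hsum.resolve_left Fintype.card_ne_zero)

/-- Conjugation by a non-square diagonal element exchanges the halves. -/
theorem swap (h2 : (2 : F) ≠ 0) {e : Fˣ} (he : e ∉ sqUnits F) (g : SL(2, F)) :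
    b (conjX e g) = a g := by
  have hθ : θ (conjX e g) = θ g := H.inv _ _ _ (toGL_conjX e g)
  have hf : (a - b) (conjX e g) = -(a - b) g := by
    by_cases hs : Semi g
    · have hs' : Semi (conjX e g) := by
        rcases hs with hs | hs
        · rw [conjX_scal e hs]; exact Or.inl hs
        · exact Or.inr (by rw [conjX_trace]; exact hs)
      rw [Pi.sub_apply, Pi.sub_apply, (H.semi_eq hs).1, (H.semi_eq hs).2, (H.semi_eq hs').1,
        (H.semi_eq hs').2]
      ring
    · rcases sl_cases h₀ g with ⟨r, rfl⟩ | ⟨r, u, hc⟩ | ⟨u, hu, hc⟩ | ⟨c, hc0, hc⟩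
      · exact absurd (Or.inl (scal_scalSL _ _)) hs
      · rw [← H.diff_class _ _ ((conjX e).map_isConj hc), ← H.diff_class _ _ hc, conjX_par,
          H.diff_par h2 he r u]
      · exact absurd (Or.inr (by rw [← (sl_isConj_trace hc).1]; exact dsc_diagSL hu)) hs
      · exact absurd (Or.inr (by rw [← (sl_isConj_trace hc).1]; exact dsc_torS h₀ hc0)) hs
  rw [H.add, Pi.add_apply, Pi.add_apply] at hθ
  rw [Pi.sub_apply, Pi.sub_apply] at hf
  linear_combination (hθ - hf) / 2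

theorem central_mul (r : Sg F) (g : SL(2, F)) :
    ∃ ω : ℂ, ‖ω‖ = 1 ∧ (a - b) (scalSL r.1 (sg_sq r) * g) = ω * (a - b) g := by
  have hz := scal_center (scal_scalSL r.1 (sg_sq r))
  obtain ⟨ω, hn, hω⟩ := CfsgLib.Char.DegreeBound.apply_central_mul H.ha hz
  obtain ⟨ω', -, hω'⟩ := CfsgLib.Char.DegreeBound.apply_central_mul H.hb hz
  have e1 := hω 1
  have e2 := hω' 1
  rw [mul_one] at e1 e2
  have hS : Semi (scalSL r.1 (sg_sq r)) := Or.inl (scal_scalSL _ _)
  rw [(H.semi_eq hS).1, H.apply_one] at e1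
  rw [(H.semi_eq hS).2, H.symm.apply_one, e1] at e2
  have hne : θ 1 / 2 ≠ 0 := H.apply_one ▸ H.degree
  have hωω : ω = ω' := mul_right_cancel₀ hne e2
  exact ⟨ω, hn, by rw [Pi.sub_apply, Pi.sub_apply, hω, hω', ← hωω]; ring⟩

/-- The square of the difference at a transvection. -/
theorem diff_sq (h2 : (2 : F) ≠ 0) :
    (a - b) (parSL 1 1 (one_pow 2)) ^ 2 = (-1 : ℂ) ^ ((Fintype.card F - 1) / 2) * qC := by
  classical
  set u : SL(2, F) := parSL 1 1 (one_pow 2) with hu
  set N : ℂ := (a - b) u * conj ((a - b) u) with hN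
  obtain ⟨e, he⟩ : ∃ e : Fˣ, e ∉ sqUnits F := by
    by_contra hc
    push Not at hc
    have := (card_sqUnits_index (F := F)).trans (card_signs_odd h2)
    rw [show sqUnits F = ⊤ from eq_top_iff.2 fun x _ => hc x, Subgroup.index_top] at this
    exact absurd this (by norm_num)
  have hone : ∀ v : Fˣ, (a - b) (parSL 1 (v : F) (one_pow 2)) = (a - b) u ∨
      (a - b) (parSL 1 (v : F) (one_pow 2)) = -(a - b) u := fun v => by
    by_cases hv : v ∈ sqUnits F
    · left
      obtain ⟨t, ht⟩ := mem_sqUnits.1 hv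
      refine (H.diff_class _ _ ((parSL_isConj (one_pow 2) (one_pow 2) one_ne_zero).2 ⟨rfl, (t : F), t.ne_zero, ?_⟩)).symm
      rw [one_mul, ← Units.val_pow_eq_pow_val, ht]
    · right
      obtain ⟨t, ht⟩ := mem_sqUnits.1 (mul_nonsquare h2 hv he)
      have h := H.diff_par h2 (e := e⁻¹) (fun h => he (inv_mem_iff.1 h)) ⟨1, sg_one⟩ v
      rw [inv_inv] at h
      rw [← neg_neg ((a - b) (parSL 1 (v : F) (one_pow 2))), ← h]
      congr 1
      refine (H.diff_class _ _ ((parSL_isConj (one_pow 2) (one_pow 2) one_ne_zero).2 ⟨rfl, (t : F), t.ne_zero, ?_⟩)).symm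
      rw [one_mul, ← Units.val_pow_eq_pow_val, ht]
  have habs : ∀ (r : Sg F) (v : Fˣ), (a - b) (parSL r.1 v (sg_sq r)) *
      conj ((a - b) (parSL r.1 v (sg_sq r))) = N := fun r v => by
    have hm : scalSL r.1 (sg_sq r) * parSL 1 ((sgU r * v : Fˣ) : F) (one_pow 2) =
        parSL r.1 v (sg_sq r) := by
      refine Subtype.ext ?_
      show (scalSL r.1 (sg_sq r) : Mat) * (parSL 1 ((sgU r * v : Fˣ) : F) (one_pow 2) : Mat) = _
      rw [coe_scalSL, coe_parSL]
      show _ = !![r.1, (v : F); 0, r.1]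
      ext i j
      fin_cases i <;> fin_cases j <;> simp [sgU, ← mul_assoc, ← sq, sg_sq r]
    obtain ⟨ω, hω, hv⟩ := H.central_mul r (parSL 1 ((sgU r * v : Fˣ) : F) (one_pow 2))
    rw [hm] at hv
    have hω2 : ω * conj ω = 1 := by rw [Complex.mul_conj', hω]; norm_num
    rw [hv, map_mul, hN]
    rcases hone (sgU r * v) with h | h <;> rw [h] <;>
      first
        | linear_combination ((a - b) u * conj ((a - b) u)) * hω2
        | (rw [map_neg]; linear_combination ((a - b) u * conj ((a - b) u)) * hω2)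
  have hnorm : Cfsg.classInner (a - b) (a - b) = 2 := by
    rw [CfsgLib.Char.classInner_sub_left, CfsgLib.Char.classInner_sub_right,
      CfsgLib.Char.classInner_sub_right, CfsgLib.Char.classInner_irr_self H.ha,
      CfsgLib.Char.classInner_irr_self H.hb, CfsgLib.Char.classInner_irr_ne H.ha H.hb H.ne,
      CfsgLib.Char.classInner_irr_ne H.hb H.ha H.ne.symm]
    norm_num
  obtain ⟨h1, h2', h3⟩ := H.vanish
  have hsum := sum_SL2 h₀ (fun g => (a - b) g * conj ((a - b) g))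
    (fun g k h => by rw [H.diff_class g k h])
  rw [Finset.sum_eq_zero (s := (Finset.univ : Finset (Sg F))) (fun r _ => by rw [(h3 r).1, zero_mul]),
    Finset.sum_eq_zero (s := regU F) (fun v hv => by rw [h1 v (mem_regU.1 hv), zero_mul]),
    Finset.sum_eq_zero (s := regT h₀) (fun c hc => by rw [h2' c (mem_regT.1 hc), zero_mul]),
    Finset.sum_congr rfl fun r (_ : r ∈ (Finset.univ : Finset (Sg F))) =>
      Finset.sum_congr rfl fun v _ => habs r v] at hsum
  rw [Cfsg.classInner, inv_mul_eq_iff_eq_mul₀ cast_card_SL_ne, cast_card_SL] at hnorm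
  rw [hnorm] at hsum
  simp only [Finset.sum_const, Finset.card_univ, Fintype.card_units, Fintype.card_coe,
    card_signs_odd h2, nsmul_eq_mul, Nat.cast_sub Fintype.card_pos, Nat.cast_one, Nat.cast_ofNat,
    mul_zero, add_zero, zero_add] at hsum
  have hq1 : qC - 1 ≠ 0 := by
    rw [sub_ne_zero]; exact_mod_cast (Fintype.one_lt_card : 1 < Fintype.card F).ne'
  have hq2 : qC + 1 ≠ 0 := by exact_mod_cast Nat.succ_ne_zero (Fintype.card F)
  have hNq : N = qC := by
    refine mul_left_cancel₀ (mul_ne_zero (mul_ne_zero (by norm_num : (4 : ℂ) ≠ 0) hq1) hq2) ?_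
    linear_combination -hsum
  -- the conjugate
  have hF2 : ringChar F ≠ 2 := fun h => h2 (by
    haveI := ringChar.of_eq h
    exact CharTwo.two_eq_zero)
  have hconj : conj ((a - b) u) = (a - b) (parSL 1 ((-1 : Fˣ) : F) (one_pow 2)) := by
    have hi : u⁻¹ = parSL 1 ((-1 : Fˣ) : F) (one_pow 2) := by
      refine inv_eq_of_mul_eq_one_right (Subtype.ext ?_)
      show (parSL (1 : F) 1 (one_pow 2) : Mat) * (parSL (1 : F) ((-1 : Fˣ) : F) (one_pow 2) : Mat) = 1
      rw [coe_parSL, coe_parSL]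
      ext i j
      fin_cases i <;> fin_cases j <;> simp [Matrix.mul_apply, Fin.sum_univ_two]
    rw [← hi, Pi.sub_apply, Pi.sub_apply, CfsgLib.Char.IsIrrCharacter.apply_inv H.ha,
      CfsgLib.Char.IsIrrCharacter.apply_inv H.hb, map_sub]
  have hq : Fintype.card F % 2 = 1 := FiniteField.odd_card_of_char_ne_two hF2
  rw [hN] at hNq
  by_cases hm : (-1 : Fˣ) ∈ sqUnits F
  · have hsame : (a - b) (parSL 1 ((-1 : Fˣ) : F) (one_pow 2)) = (a - b) u := by
      obtain ⟨t, ht⟩ := mem_sqUnits.1 hm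
      refine (H.diff_class _ _ ((parSL_isConj (one_pow 2) (one_pow 2) one_ne_zero).2 ⟨rfl, (t : F), t.ne_zero, ?_⟩)).symm
      rw [one_mul, ← Units.val_pow_eq_pow_val, ht]
    have h4 : Fintype.card F % 4 ≠ 3 := FiniteField.isSquare_neg_one_iff.1 (by
      obtain ⟨t, ht⟩ := mem_sqUnits.1 hm
      exact ⟨(t : F), by rw [← sq, ← Units.val_pow_eq_pow_val, ht]; simp⟩)
    rw [Even.neg_one_pow ⟨(Fintype.card F - 1) / 4, by omega⟩, one_mul, sq]
    rw [hconj, hsame] at hNq
    exact hNq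
  · have hopp : (a - b) (parSL 1 ((-1 : Fˣ) : F) (one_pow 2)) = -(a - b) u := by
      have h := H.diff_par h2 (e := -1) hm ⟨1, sg_one⟩ 1
      rw [inv_neg, inv_one, one_mul] at h
      exact h
    have h4 : Fintype.card F % 4 = 3 := by
      by_contra h
      obtain ⟨t, ht⟩ := FiniteField.isSquare_neg_one_iff.2 h
      refine hm (mem_sqUnits.2 ⟨Units.mk0 t (fun h0 => by simp [h0] at ht), Units.ext ?_⟩)
      simp [sq, ← ht]
    rw [Odd.neg_one_pow ⟨(Fintype.card F - 3) / 4, by omega⟩, sq]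
    rw [hconj, hopp] at hNq
    linear_combination -hNq

end Halves

end CfsgLib.KnownB.GL2
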