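import Cfsg.Agent.Lib.Char.Virtual
import Cfsg.Agent.Lib.Char.Constituent

/-!
Tools for recognising irreducible characters from their norms.
-/

set_option autoImplicit false

namespace CfsgLib.KnownB.GL2

open CfsgLib.Char

variable {G : Type*} [Group G] [Fintype G]

/-- A generalised character of norm one and positive degree is irreducible. -/
theorem isIrr_of_norm_one {θ : G → ℂ} (hθ : Cfsg.IsGeneralizedCharacter G θ)
    (h : Cfsg.classInner θ θ = 1) {n : ℕ} (hn : θ 1 = n) : Cfsg.IsIrrCharacter G θ := by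
  classical
  obtain ⟨z, -, hexp, hnorm⟩ := IsGeneralizedCharacter.exists_coeff hθ
  rw [h] at hnorm
  have hz : ∑ φ : Cfsg.IrrCharacter G, z φ * z φ = 1 := by exact_mod_cast hnorm.symm
  obtain ⟨φ, hφ⟩ : ∃ φ, z φ ≠ 0 := by
    by_contra hc
    push Not at hc
    simp [hc] at hz
  rw [← Finset.add_sum_erase _ _ (Finset.mem_univ φ)] at hz
  have hpos : 0 < z φ * z φ := mul_self_pos.2 hφ
  have hrest : 0 ≤ ∑ ψ ∈ Finset.univ.erase φ, z ψ * z ψ :=
    Finset.sum_nonneg fun _ _ => mul_self_nonneg _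
  have h0 : ∑ ψ ∈ Finset.univ.erase φ, z ψ * z ψ = 0 := by omega
  have h1 : z φ * z φ = 1 := by omega
  have hψ : ∀ ψ ≠ φ, z ψ = 0 := fun ψ hne => mul_self_eq_zero.1
    ((Finset.sum_eq_zero_iff_of_nonneg fun _ _ => mul_self_nonneg _).1 h0 ψ
      (Finset.mem_erase.2 ⟨hne, Finset.mem_univ ψ⟩))
  rw [Finset.sum_eq_single φ (fun ψ _ hne => by simp [hψ ψ hne])
    (fun hh => absurd (Finset.mem_univ φ) hh)] at hexp
  rcases Int.eq_one_or_neg_one_of_mul_eq_one h1 with h2 | h2
  · rw [h2, Int.cast_one, one_smul] at hexp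
    exact hexp ▸ φ.2
  · exfalso
    obtain ⟨d, hd, hd'⟩ := IsIrrCharacter.apply_one_eq φ.2
    have h3 := congrFun hexp 1
    rw [hn, Pi.smul_apply, smul_eq_mul, hd', h2] at h3
    have h4 : (n : ℂ) + d = 0 := by rw [h3]; push_cast; ring
    have : n + d = 0 := by exact_mod_cast h4
    omega

/-- A character of norm two is the sum of two distinct irreducible characters. -/
theorem exists_add_of_norm_two {θ : G → ℂ} (hθ : Cfsg.IsCharacter G θ)
    (h : Cfsg.classInner θ θ = 2) :
    ∃ a b : G → ℂ, Cfsg.IsIrrCharacter G a ∧ Cfsg.IsIrrCharacter G b ∧ a ≠ b ∧ θ = a + b := by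
  classical
  obtain ⟨m, hm⟩ := IsCharacter.exists_multiplicity hθ
  choose n hn using fun φ : Cfsg.IrrCharacter G =>
    IsCharacter.classInner_nat hθ (isCharacter_irr φ)
  have he := IsClassFunction.eq_sum_irr (IsCharacter.isClassFunction hθ)
  simp only [hn] at he
  have hsum : ((∑ φ : Cfsg.IrrCharacter G, n φ * n φ : ℕ) : ℂ) = ((2 : ℕ) : ℂ) := by
    rw [Nat.cast_ofNat, ← h, classInner_eq_sum_irr (IsCharacter.isClassFunction hθ)]
    push_cast
    refine Finset.sum_congr rfl fun φ _ => ?_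
    rw [hn, IsCharacter.classInner_comm (isCharacter_irr φ) hθ, hn]
  have hsum' := Nat.cast_injective hsum
  set S := Finset.univ.filter fun φ : Cfsg.IrrCharacter G => n φ ≠ 0 with hS
  have hone : ∀ φ ∈ S, n φ = 1 := fun φ hφ => by
    have hle : n φ * n φ ≤ 2 := hsum' ▸
      Finset.single_le_sum (f := fun ψ => n ψ * n ψ) (fun ψ _ => Nat.zero_le _) (Finset.mem_univ φ)
    have := Nat.pos_of_ne_zero (Finset.mem_filter.1 hφ).2
    nlinarith
  have hcard : S.card = 2 := by
    rw [← hsum', ← Finset.sum_filter_of_ne (p := fun φ => n φ ≠ 0)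
      (fun φ _ h h0 => h (by rw [h0, mul_zero]))]
    rw [Finset.sum_congr rfl fun φ hφ => by rw [hone φ hφ], Finset.sum_const, smul_eq_mul]
    simp
    rfl
  obtain ⟨φ, ψ, hne, hpair⟩ := Finset.card_eq_two.1 hcard
  refine ⟨φ, ψ, φ.2, ψ.2, fun h' => hne (Subtype.ext h'), ?_⟩
  rw [he, ← Finset.sum_filter_of_ne (p := fun φ => n φ ≠ 0)
    (fun φ _ h h0 => h (by rw [h0, Nat.cast_zero, zero_smul])), ← hS, hpair, Finset.sum_pair hne,
    hone φ (by rw [hpair]; simp), hone ψ (by rw [hpair]; simp), Nat.cast_one, one_smul, one_smul]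

/-- A list of irreducible characters as long as the number of classes is complete. -/
theorem mem_of_card_classes {S : Finset (G → ℂ)} (hS : ∀ χ ∈ S, Cfsg.IsIrrCharacter G χ)
    (hcard : Nat.card (ConjClasses G) ≤ S.card) {χ : G → ℂ} (hχ : Cfsg.IsIrrCharacter G χ) :
    χ ∈ S := by
  classical
  let T : Finset (Cfsg.IrrCharacter G) := S.attach.map
    ⟨fun x => ⟨x.1, hS x.1 x.2⟩, fun x y h => Subtype.ext (by simpa using congrArg Subtype.val h)⟩
  have hT : T = Finset.univ := Finset.eq_univ_of_card _ (le_antisymm (Finset.card_le_univ _) (by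
    rw [← Nat.card_eq_fintype_card, card_irrCharacter, Finset.card_map, Finset.card_attach]
    exact hcard))
  have hmem : (⟨χ, hχ⟩ : Cfsg.IrrCharacter G) ∈ T := hT ▸ Finset.mem_univ _
  obtain ⟨x, -, hx⟩ := Finset.mem_map.1 hmem
  have e : x.1 = χ := congrArg Subtype.val hx
  rw [← e]
  exact x.2

end CfsgLib.KnownB.GL2
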