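import Cfsg.Agent.Lib.KnownB.GL2.TwoMat

/-!
Sums over the characteristic polynomials of split, repeated and irreducible type.
-/

set_option autoImplicit false

namespace CfsgLib.KnownB.GL2

variable {F : Type*} [Field F] [Fintype F]

/-- A map with fibres of size at most two onto a set of half the size. -/
theorem sum_two_to_one {α β : Type*} [DecidableEq β] {s : Finset α} {t : Finset β} (f : α → β)
    (hf : ∀ a ∈ s, f a ∈ t) (hfib : ∀ b ∈ t, (s.filter fun a => f a = b).card ≤ 2)
    (hcard : s.card = 2 * t.card) {M : Type*} [AddCommMonoid M] (Φ : β → M) :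
    ∑ a ∈ s, Φ (f a) = 2 • ∑ b ∈ t, Φ b := by
  have htot := Finset.card_eq_sum_card_fiberwise hf
  have heq : ∀ b ∈ t, (s.filter fun a => f a = b).card = 2 := by
    intro b hb
    have h2 : ∑ b ∈ t, (s.filter fun a => f a = b).card = ∑ b ∈ t, 2 := by
      rw [← htot, hcard, Finset.sum_const, smul_eq_mul, mul_comm]
    exact (Finset.sum_eq_sum_iff_of_le hfib).1 h2 b hb
  rw [← Finset.sum_fiberwise_of_maps_to hf, Finset.smul_sum]
  refine Finset.sum_congr rfl fun b hb => ?_
  rw [Finset.sum_congr rfl fun a ha => by rw [(Finset.mem_filter.1 ha).2], Finset.sum_const,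
    heq b hb]

theorem root_iff_of_split (a b r : F) : r ∈ rts (a + b) (a * b) ↔ r = a ∨ r = b := by
  rw [mem_rts, show r ^ 2 - (a + b) * r + a * b = (r - a) * (r - b) by ring, mul_eq_zero,
    sub_eq_zero, sub_eq_zero]

theorem rts_split [DecidableEq F] (a b : F) : rts (a + b) (a * b) = {a, b} := by
  ext r
  rw [root_iff_of_split, Finset.mem_insert, Finset.mem_singleton]

theorem card_rts_split {a b : F} (h : a ≠ b) : (rts (a + b) (a * b)).card = 2 := by
  classical
  rw [rts_split, Finset.card_pair h]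

theorem card_rts_double (r : F) : (rts (2 * r) (r ^ 2)).card = 1 := by
  classical
  rw [two_mul, sq, rts_split, Finset.pair_eq_singleton, Finset.card_singleton]

theorem exists_split_of_card {t d : F} (h : (rts t d).card = 2) :
    ∃ a b : F, a ≠ b ∧ a + b = t ∧ a * b = d := by
  classical
  obtain ⟨a, ha⟩ := Finset.card_pos.1 (by omega : 0 < (rts t d).card)
  rw [rts_eq_pair ha] at h
  rw [mem_rts] at ha
  refine ⟨a, t - a, fun he => ?_, by ring, by linear_combination -ha⟩
  rw [← he] at h
  simp at h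

theorem exists_double_of_card {t d : F} (h : (rts t d).card = 1) :
    ∃ r : F, 2 * r = t ∧ r ^ 2 = d := by
  classical
  obtain ⟨a, ha⟩ := Finset.card_pos.1 (by omega : 0 < (rts t d).card)
  rw [rts_eq_pair ha] at h
  rw [mem_rts] at ha
  have he : a = t - a := by
    by_contra he
    rw [Finset.card_pair he] at h
    omega
  exact ⟨a, by linear_combination he, by linear_combination -ha + a * he⟩

theorem double_injective {r s : F} (h1 : 2 * r = 2 * s) (h2 : r ^ 2 = s ^ 2) : r = s := by
  rcases sq_eq_sq_iff_eq_or_eq_neg.1 h2 with h | h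
  · exact h
  · by_cases h0 : (2 : F) = 0
    · linear_combination h + (-s) * h0
    · exact mul_left_cancel₀ h0 h1

open Classical in
/-- The pairs `(trace, determinant)` with determinant nonzero and `k` roots. -/
noncomputable def pairs (F : Type*) [Field F] [Fintype F] (k : ℕ) : Finset (F × F) :=
  Finset.univ.filter fun p => p.2 ≠ 0 ∧ (rts p.1 p.2).card = k

theorem mem_pairs {k : ℕ} {p : F × F} :
    p ∈ pairs F k ↔ p.2 ≠ 0 ∧ (rts p.1 p.2).card = k := by simp [pairs]

open Classical in
/-- Ordered pairs of distinct nonzero elements. -/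
noncomputable def distinct (F : Type*) [Field F] [Fintype F] : Finset (F × F) :=
  Finset.univ.filter fun p => p.1 ≠ 0 ∧ p.2 ≠ 0 ∧ p.1 ≠ p.2

open Classical in
theorem card_distinct :
    (distinct F).card = (Fintype.card F - 1) * (Fintype.card F - 2) := by
  have h : distinct F = ((Finset.univ : Finset F).erase 0).offDiag := by
    ext p
    simp [distinct, Finset.mem_offDiag]
  rw [h, Finset.offDiag_card, Finset.card_erase_of_mem (Finset.mem_univ _), Finset.card_univ,
    ← Nat.mul_sub_one]
  rfl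

theorem card_distinct_eq : (distinct F).card = 2 * (pairs F 2).card := by
  classical
  have h : ∀ b ∈ pairs F 2, ((distinct F).filter fun p => (p.1 + p.2, p.1 * p.2) = b).card = 2 := by
    intro b hb
    obtain ⟨hb0, hb2⟩ := mem_pairs.1 hb
    obtain ⟨x, y, hxy, h1, h2⟩ := exists_split_of_card hb2
    have hx0 : x ≠ 0 := fun h' => hb0 (by rw [← h2, h', zero_mul])
    have hy0 : y ≠ 0 := fun h' => hb0 (by rw [← h2, h', mul_zero])
    have : ((distinct F).filter fun p => (p.1 + p.2, p.1 * p.2) = b) = {(x, y), (y, x)} := by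
      ext ⟨u, v⟩
      simp only [distinct, Finset.mem_filter, Finset.mem_univ, true_and, Finset.mem_insert,
        Finset.mem_singleton, Prod.ext_iff]
      constructor
      · rintro ⟨⟨-, -, huv⟩, e1, e2⟩
        rcases (root_iff_of_split x y u).1 (by
          rw [h1, h2, ← e1, ← e2]; exact (root_iff_of_split u v u).2 (Or.inl rfl)) with h' | h'
        · exact Or.inl ⟨h', by linear_combination e1 - h1 - h'⟩
        · exact Or.inr ⟨h', by linear_combination e1 - h1 - h'⟩
      · rintro (⟨rfl, rfl⟩ | ⟨rfl, rfl⟩)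
        · exact ⟨⟨hx0, hy0, hxy⟩, h1, h2⟩
        · exact ⟨⟨hy0, hx0, hxy.symm⟩, by rw [add_comm]; exact h1, by rw [mul_comm]; exact h2⟩
    rw [this, Finset.card_pair]
    exact fun h' => hxy (congrArg Prod.fst h')
  rw [Finset.card_eq_sum_card_fiberwise (f := fun p : F × F => (p.1 + p.2, p.1 * p.2))
    (t := pairs F 2), Finset.sum_congr rfl h, Finset.sum_const, smul_eq_mul, mul_comm]
  intro p hp
  simp only [distinct, Finset.mem_coe, Finset.mem_filter, Finset.mem_univ, true_and] at hp
  exact mem_pairs.2 ⟨mul_ne_zero hp.1 hp.2.1, card_rts_split hp.2.2⟩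

theorem sum_split {M : Type*} [AddCommMonoid M] (Φ : F × F → M) :
    ∑ p ∈ distinct F, Φ (p.1 + p.2, p.1 * p.2) = 2 • ∑ b ∈ pairs F 2, Φ b := by
  classical
  refine sum_two_to_one (fun p : F × F => (p.1 + p.2, p.1 * p.2)) (fun p hp => ?_)
    (fun b hb => ?_) card_distinct_eq Φ
  · simp only [distinct, Finset.mem_filter, Finset.mem_univ, true_and] at hp
    exact mem_pairs.2 ⟨mul_ne_zero hp.1 hp.2.1, card_rts_split hp.2.2⟩
  · obtain ⟨x, y, hxy, h1, h2⟩ := exists_split_of_card (mem_pairs.1 hb).2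
    refine (Finset.card_le_card (t := {(x, y), (y, x)}) ?_).trans Finset.card_le_two
    rintro ⟨u, v⟩ hu
    simp only [Finset.mem_filter, Prod.ext_iff] at hu
    rcases (root_iff_of_split x y u).1 (by
      rw [h1, h2, ← hu.2.1, ← hu.2.2]; exact (root_iff_of_split u v u).2 (Or.inl rfl)) with h' | h'
    · simp [h', show v = y by linear_combination hu.2.1 - h1 - h']
    · simp [h', show v = x by linear_combination hu.2.1 - h1 - h']

open Classical in
theorem sum_double [DecidableEq F] {M : Type*} [AddCommMonoid M] (Φ : F × F → M) :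
    ∑ b ∈ pairs F 1, Φ b = ∑ r : Fˣ, Φ (2 * (r : F), (r : F) ^ 2) := by
  refine (Finset.sum_bij (fun (r : Fˣ) _ => (2 * (r : F), (r : F) ^ 2)) (fun r _ => ?_)
    (fun r _ s _ h => ?_) (fun b hb => ?_) (fun r _ => rfl)).symm
  · exact mem_pairs.2 ⟨pow_ne_zero _ r.ne_zero, card_rts_double _⟩
  · exact Units.ext (double_injective (congrArg Prod.fst h) (congrArg Prod.snd h))
  · obtain ⟨hb0, hb1⟩ := mem_pairs.1 hb
    obtain ⟨r, h1, h2⟩ := exists_double_of_card hb1
    have hr : r ≠ 0 := fun h' => hb0 (by rw [← h2, h']; ring)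
    exact ⟨Units.mk0 r hr, Finset.mem_univ _, Prod.ext h1 h2⟩

theorem card_pairs_one : (pairs F 1).card = Fintype.card F - 1 := by
  classical
  rw [Finset.card_eq_sum_ones, sum_double, Finset.sum_const, smul_eq_mul, mul_one,
    Finset.card_univ, Fintype.card_units]

open Classical in
theorem sum_pairs [DecidableEq F] {M : Type*} [AddCommMonoid M] (Φ : F × F → M) :
    ∑ p ∈ Finset.univ.filter (fun p : F × F => p.2 ≠ 0), Φ p =
      ∑ b ∈ pairs F 0, Φ b + ∑ b ∈ pairs F 1, Φ b + ∑ b ∈ pairs F 2, Φ b := by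
  rw [← Finset.sum_fiberwise_of_maps_to (t := Finset.range 3)
    (g := fun p : F × F => (rts p.1 p.2).card)
    (fun p _ => Finset.mem_range.2 (by have := card_rts_le p.1 p.2; omega))]
  simp only [Finset.sum_range_succ, Finset.sum_range_zero, zero_add, Finset.filter_filter, pairs]
  congr 1
  congr 1
  all_goals (refine Finset.sum_congr ?_ fun _ _ => rfl; ext; simp)

theorem card_pairs_zero :
    2 * (pairs F 0).card = Fintype.card F * (Fintype.card F - 1) := by
  classical
  have h := sum_pairs (F := F) (fun _ => (1 : ℕ))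
  simp only [Finset.sum_const, smul_eq_mul, mul_one] at h
  have htot : (Finset.univ.filter fun p : F × F => p.2 ≠ 0).card =
      Fintype.card F * (Fintype.card F - 1) := by
    have : (Finset.univ.filter fun p : F × F => p.2 ≠ 0) =
        (Finset.univ : Finset F) ×ˢ ((Finset.univ : Finset F).erase 0) := by
      ext p; simp
    rw [this, Finset.card_product, Finset.card_erase_of_mem (Finset.mem_univ _), Finset.card_univ]
  rw [htot, card_pairs_one] at h
  have h2 := card_distinct_eq (F := F)
  rw [card_distinct] at h2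
  obtain ⟨k, hk⟩ := Nat.exists_eq_add_of_le (Fintype.one_lt_card : 1 < Fintype.card F)
  rw [hk] at h h2 ⊢
  simp only [show 2 + k - 1 = k + 1 by omega, show 2 + k - 2 = k by omega] at h h2 ⊢
  nlinarith

theorem exists_irreducible : ∃ t d : F, d ≠ 0 ∧ rts t d = ∅ := by
  have h := card_pairs_zero (F := F)
  have h1 : 0 < (pairs F 0).card := by
    by_contra h0
    have := Fintype.one_lt_card (α := F)
    rw [show (pairs F 0).card = 0 by omega, mul_zero] at h
    rcases Nat.mul_eq_zero.1 h.symm with h' | h' <;> omega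
  obtain ⟨p, hp⟩ := Finset.card_pos.1 h1
  exact ⟨p.1, p.2, (mem_pairs.1 hp).1, Finset.card_eq_zero.1 (mem_pairs.1 hp).2⟩

section Elliptic

variable {t₀ d₀ : F}

theorem nf_eq_zero (h₀ : rts t₀ d₀ = ∅) {x y : F} (h : nf t₀ d₀ x y = 0) : x = 0 ∧ y = 0 := by
  by_cases hy : y = 0
  · subst hy
    exact ⟨by simpa [nf] using h, rfl⟩
  · exfalso
    have : -x / y ∈ rts t₀ d₀ := by
      rw [mem_rts]
      simp only [nf] at h
      field_simp
      linear_combination h
    simp [h₀] at this

theorem dsc_ne_zero (h₀ : rts t₀ d₀ = ∅) : dsc t₀ d₀ ≠ 0 := by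
  intro h
  by_cases h2 : (2 : F) = 0
  · have ht : t₀ = 0 := by
      simp only [dsc] at h
      exact pow_eq_zero_iff two_ne_zero |>.1 (by linear_combination h + 2 * d₀ * h2)
    have : CharP F 2 := CharTwo.of_one_ne_zero_of_two_eq_zero one_ne_zero h2
    obtain ⟨r, hr⟩ := (bijective_frobenius F 2).2 (-d₀)
    have : r ∈ rts t₀ d₀ := by
      rw [mem_rts, ht]
      simp only [frobenius_def] at hr
      linear_combination hr
    simp [h₀] at this
  · have : t₀ / 2 ∈ rts t₀ d₀ := by
      rw [mem_rts]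
      simp only [dsc] at h
      field_simp
      linear_combination -h
    simp [h₀] at this

theorem rts_ell (h₀ : rts t₀ d₀ = ∅) {x y : F} (hy : y ≠ 0) :
    rts (2 * x + t₀ * y) (nf t₀ d₀ x y) = ∅ := by
  refine Finset.eq_empty_of_forall_notMem fun r hr => hy ?_
  rw [mem_rts] at hr
  refine (nf_eq_zero h₀ (x := x - r) ?_).2
  simp only [nf] at hr ⊢
  linear_combination hr

theorem ell_fibre (h₀ : rts t₀ d₀ = ∅) {x y x' y' : F}
    (h1 : 2 * x' + t₀ * y' = 2 * x + t₀ * y) (h2 : nf t₀ d₀ x' y' = nf t₀ d₀ x y) :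
    (x' = x ∧ y' = y) ∨ (x' = x + t₀ * y ∧ y' = -y) := by
  have hd := dsc_ne_zero h₀
  have hy : y' ^ 2 = y ^ 2 := mul_left_cancel₀ hd (by
    simp only [dsc, nf] at *
    linear_combination (2 * x' + t₀ * y' + 2 * x + t₀ * y) * h1 - 4 * h2)
  rcases sq_eq_sq_iff_eq_or_eq_neg.1 hy with rfl | rfl
  · have h3 : (x' - x) * (x' + x + t₀ * y') = 0 := by
      simp only [nf] at h2
      linear_combination h2
    rcases mul_eq_zero.1 h3 with h | h
    · exact Or.inl ⟨sub_eq_zero.1 h, rfl⟩
    · by_cases h0 : (2 : F) = 0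
      · exact Or.inr ⟨by linear_combination h - (x + t₀ * y') * h0, by linear_combination y' * h0⟩
      · exact Or.inl ⟨mul_left_cancel₀ h0 (by linear_combination h1), rfl⟩
  · by_cases h0 : (2 : F) = 0
    · have h3 : (x' - x) * (x' + x + t₀ * y) = 0 := by
        simp only [nf] at h2
        linear_combination h2 + (x' * t₀ * y) * h0
      rcases mul_eq_zero.1 h3 with h | h
      · exact Or.inl ⟨sub_eq_zero.1 h, by linear_combination -y * h0⟩
      · exact Or.inr ⟨by linear_combination h - (x + t₀ * y) * h0, rfl⟩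
    · exact Or.inr ⟨mul_left_cancel₀ h0 (by linear_combination h1), rfl⟩

open Classical in
/-- Sum over the non-central part of the non-split torus. -/
theorem sum_ell [DecidableEq F] (h₀ : rts t₀ d₀ = ∅) {M : Type*} [AddCommMonoid M] (Φ : F × F → M) :
    ∑ v ∈ Finset.univ.filter (fun v : F × F => v.2 ≠ 0),
        Φ (2 * v.1 + t₀ * v.2, nf t₀ d₀ v.1 v.2) = 2 • ∑ b ∈ pairs F 0, Φ b := by
  refine sum_two_to_one (fun v : F × F => (2 * v.1 + t₀ * v.2, nf t₀ d₀ v.1 v.2))
    (fun v hv => ?_) (fun b _ => ?_) ?_ Φ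
  · have hv' := (Finset.mem_filter.1 hv).2
    refine mem_pairs.2 ⟨fun h => hv' (nf_eq_zero h₀ h).2, ?_⟩
    simp [rts_ell h₀ hv']
  · rcases ((Finset.univ.filter fun v : F × F => v.2 ≠ 0).filter fun v =>
        (2 * v.1 + t₀ * v.2, nf t₀ d₀ v.1 v.2) = b).eq_empty_or_nonempty with h | ⟨w, hw⟩
    · rw [h]; simp
    · refine (Finset.card_le_card (t := {w, (w.1 + t₀ * w.2, -w.2)}) ?_).trans Finset.card_le_two
      intro v hv
      simp only [Finset.mem_filter, Prod.ext_iff] at hv hw
      rcases ell_fibre h₀ (hv.2.1.trans hw.2.1.symm) (hv.2.2.trans hw.2.2.symm) with ⟨a, b⟩ | ⟨a, b⟩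
      · exact Finset.mem_insert.2 (Or.inl (Prod.ext a b))
      · exact Finset.mem_insert.2 (Or.inr (Finset.mem_singleton.2 (Prod.ext a b)))
  · rw [card_pairs_zero]
    have : (Finset.univ.filter fun p : F × F => p.2 ≠ 0) =
        (Finset.univ : Finset F) ×ˢ ((Finset.univ : Finset F).erase 0) := by
      ext p; simp
    rw [this, Finset.card_product, Finset.card_erase_of_mem (Finset.mem_univ _), Finset.card_univ]

end Elliptic

end CfsgLib.KnownB.GL2
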