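import Cfsg.Agent.Lib.KnownB.GL2.Principal
import Cfsg.Agent.Lib.CharDeep.PermChar

/-!
Consequences for the principal series.
-/

set_option autoImplicit false

namespace CfsgLib.KnownB.GL2

open scoped MatrixGroups ComplexConjugate

variable {F : Type*} [Field F] [Fintype F] [DecidableEq F]

local notation "Mat" => Matrix (Fin 2) (Fin 2) F

theorem isIrr_indG {α β : MulChar F ℂ} (h : α ≠ β) :
    Cfsg.IsIrrCharacter (GL (Fin 2) F) (indG α β) := by
  refine CfsgLib.Char.IsCharacter.isIrrCharacter_of_norm_one (isCharacter_indG α β) ?_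
  rw [classInner_indG, if_pos ⟨rfl, rfl⟩, if_neg (fun h' => h h'.1), add_zero]

theorem indG_swap (α β : MulChar F ℂ) : indG α β = indG β α := by
  refine sub_eq_zero.1 (CfsgLib.Char.classInner_self_eq_zero.1 ?_)
  rw [CfsgLib.Char.classInner_sub_left, CfsgLib.Char.classInner_sub_right,
    CfsgLib.Char.classInner_sub_right, classInner_indG, classInner_indG, classInner_indG,
    classInner_indG]
  by_cases h : α = β
  · simp [h]
  · simp [h, Ne.symm h]

theorem indG_eq_iff (α β α' β' : MulChar F ℂ) :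
    indG α β = indG α' β' ↔ (α = α' ∧ β = β') ∨ (α = β' ∧ β = α') := by
  constructor
  · intro h
    have h1 := classInner_indG α β α' β'
    rw [← h, classInner_indG α β α β, if_pos ⟨rfl, rfl⟩] at h1
    by_contra hn
    rw [not_or] at hn
    rw [if_neg hn.1, if_neg hn.2, add_zero] at h1
    by_cases hab : α = β <;> simp [hab] at h1
  · rintro (⟨rfl, rfl⟩ | ⟨rfl, rfl⟩)
    · rfl
    · exact indG_swap α β

theorem isIrr_indS_iff (α : MulChar F ℂ) :
    Cfsg.IsIrrCharacter SL(2, F) (indS α) ↔ α ^ 2 ≠ 1 := by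
  have hiff : α ^ 2 ≠ 1 ↔ α ≠ α⁻¹ := by rw [ne_eq, ne_eq, sq, mul_eq_one_iff_eq_inv]
  rw [hiff]
  constructor
  · intro h he
    have h1 := CfsgLib.Char.classInner_irr_self h
    rw [classInner_indS, if_pos rfl, if_pos he] at h1
    norm_num at h1
  · intro he
    refine CfsgLib.Char.IsCharacter.isIrrCharacter_of_norm_one (isCharacter_indS α) ?_
    rw [classInner_indS, if_pos rfl, if_neg he, add_zero]

theorem indS_values (α : MulChar F ℂ) (g : SL(2, F)) :
    ((g : Mat) 0 1 = 0 → (g : Mat) 1 0 = 0 → (g : Mat) 0 0 ^ 2 ≠ 1 →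
      indS α g = α ((g : Mat) 0 0) + α ((g : Mat) 1 1)) ∧
    ((∀ (c : F) (v : Fin 2 → F), v ≠ 0 → (g : Mat).mulVec v ≠ c • v) → indS α g = 0) ∧
    ((g : Mat) 1 0 = 0 → (g : Mat) 0 0 = (g : Mat) 1 1 → (g : Mat) 0 1 ≠ 0 →
      indS α g = α ((g : Mat) 0 0)) ∧
    ((g : Mat) 0 1 = 0 → (g : Mat) 1 0 = 0 → (g : Mat) 0 0 = (g : Mat) 1 1 →
      indS α g = ((Fintype.card F : ℂ) + 1) * α ((g : Mat) 0 0)) := by
  refine ⟨fun h01 h10 hne => ?_, fun h => ?_, fun h10 he hne => ?_, fun h01 h10 he =>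
    indS_scal α ⟨h01, h10, he⟩⟩
  · have hd := sl_det g
    rw [Matrix.det_fin_two, h01, zero_mul, sub_zero] at hd
    have hne' : (g : Mat) 0 0 ≠ (g : Mat) 1 1 := fun h => hne (by rw [sq]; rw [← h] at hd; exact hd)
    have hr := rts_split ((g : Mat) 0 0) ((g : Mat) 1 1)
    rw [hd] at hr
    rw [indS_nonscal α fun hs => hne' hs.2.2, Matrix.trace_fin_two, hr,
      Finset.sum_pair hne']
  · obtain ⟨hs, hr⟩ := elliptic_of_noEigen _ h
    rw [sl_det] at hr
    rw [indS_nonscal α hs, hr, Finset.sum_empty]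
  · have hd := sl_det g
    rw [Matrix.det_fin_two, h10, mul_zero, sub_zero] at hd
    have hr := rts_split ((g : Mat) 0 0) ((g : Mat) 1 1)
    rw [hd] at hr
    rw [indS_nonscal α fun hs => hne hs.1, Matrix.trace_fin_two, hr, ← he,
      Finset.pair_eq_singleton, Finset.sum_singleton]

theorem fixedPointCharacter_eq (g : GL (Fin 2) F) :
    Cfsg.fixedPointCharacter (Cfsg.upperTriangularGL 2 F) g = indG (1 : MulChar F ℂ) 1 g := by
  have h1 : thetaG (1 : MulChar F ℂ) 1 = fun _ => (1 : ℂ) := funext fun b => by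
    have h := (b : GL (Fin 2) F).det_ne_zero
    rw [Matrix.det_fin_two, mem_upperTriangularGL.1 b.2, mul_zero, sub_zero] at h
    rw [thetaG, MulChar.one_apply (isUnit_iff_ne_zero.2 (left_ne_zero_of_mul h)),
      MulChar.one_apply (isUnit_iff_ne_zero.2 (right_ne_zero_of_mul h)), one_mul]
  rw [indG, h1, CfsgLib.CharDeep.PermChar.indFun_one_eq]
  rfl

theorem one_mul_one_apply {a b : F} (ha : a ≠ 0) (hb : b ≠ 0) :
    (1 : MulChar F ℂ) a * (1 : MulChar F ℂ) b = 1 := by
  rw [MulChar.one_apply (isUnit_iff_ne_zero.2 ha), MulChar.one_apply (isUnit_iff_ne_zero.2 hb),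
    one_mul]

theorem indG_one_nonscal {g : GL (Fin 2) F} (hg : ¬ Scal (g : Mat)) :
    indG (1 : MulChar F ℂ) 1 g = ((rts (g : Mat).trace (g : Mat).det).card : ℂ) := by
  rw [indG_nonscal 1 1 hg, Finset.sum_congr rfl (g := fun _ => (1 : ℂ)) fun c hc => ?_,
    Finset.sum_const, nsmul_eq_mul, mul_one]
  have hc0 : c ≠ 0 := fun h0 => g.det_ne_zero (by
    rw [mem_rts, h0] at hc; linear_combination hc)
  exact one_mul_one_apply hc0 (div_ne_zero g.det_ne_zero hc0)

theorem fixedPointCharacter_values (g : GL (Fin 2) F) :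
    ((∃ a : F, (g : Mat) = a • (1 : Mat)) →
      Cfsg.fixedPointCharacter (Cfsg.upperTriangularGL 2 F) g = Fintype.card F + 1) ∧
    ((g : Mat) 0 1 = 0 → (g : Mat) 1 0 = 0 → (g : Mat) 0 0 ≠ (g : Mat) 1 1 →
      Cfsg.fixedPointCharacter (Cfsg.upperTriangularGL 2 F) g = 2) ∧
    ((∀ (c : F) (v : Fin 2 → F), v ≠ 0 → (g : Mat).mulVec v ≠ c • v) →
      Cfsg.fixedPointCharacter (Cfsg.upperTriangularGL 2 F) g = 0) ∧
    ((g : Mat) 1 0 = 0 → (g : Mat) 0 0 = (g : Mat) 1 1 → (g : Mat) 0 1 ≠ 0 →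
      Cfsg.fixedPointCharacter (Cfsg.upperTriangularGL 2 F) g = 1) := by
  simp only [fixedPointCharacter_eq]
  refine ⟨fun h => ?_, fun h01 h10 hne => ?_, fun h => ?_, fun h10 he hne => ?_⟩
  · have hs := (scal_iff_exists (g : Mat)).2 h
    have h0 : (g : Mat) 0 0 ≠ 0 := fun h0 => g.det_ne_zero (by
      rw [Matrix.det_fin_two, hs.1, hs.2.1, h0]; ring)
    rw [indG_scal 1 1 hs, one_mul_one_apply h0 h0, mul_one]
  · rw [indG_one_nonscal fun hs => hne hs.2.2, Matrix.trace_fin_two, Matrix.det_fin_two, h01,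
      zero_mul, sub_zero, card_rts_split hne, Nat.cast_two]
  · obtain ⟨hs, hr⟩ := elliptic_of_noEigen _ h
    rw [indG_one_nonscal hs, hr, Finset.card_empty, Nat.cast_zero]
  · rw [indG_one_nonscal fun hs => hne hs.1, Matrix.trace_fin_two, Matrix.det_fin_two, h10,
      mul_zero, sub_zero, ← he, rts_split, Finset.pair_eq_singleton, Finset.card_singleton,
      Nat.cast_one]

end CfsgLib.KnownB.GL2
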