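import Cfsg.Agent.Lib.KnownB.GL2.Cuspidal
import Cfsg.Agent.Lib.KnownB.GL2.PrincipalApps
import Cfsg.Agent.Lib.KnownB.GL2.IrrTools

/-!
The irreducible characters of `GL₂` over a finite field.
-/

set_option autoImplicit false

namespace CfsgLib.KnownB.GL2

open scoped MatrixGroups ComplexConjugate

variable {F : Type*} [Field F] [Fintype F] [DecidableEq F] {t₀ d₀ : F}

local notation "Mat" => Matrix (Fin 2) (Fin 2) F
local notation "qC" => (Fintype.card F : ℂ)

/-- `α ∘ det`. -/
noncomputable def linG (α : MulChar F ℂ) : GL (Fin 2) F → ℂ := fun g => α (g : Mat).det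

/-- The twisted Steinberg character. -/
noncomputable def stG (α : MulChar F ℂ) : GL (Fin 2) F → ℂ := indG α α - linG α

theorem isIrr_linG (α : MulChar F ℂ) : Cfsg.IsIrrCharacter (GL (Fin 2) F) (linG α) := by
  let φ : GL (Fin 2) F →* ℂˣ :=
    MonoidHom.toHomUnits
      { toFun := linG α
        map_one' := by simp [linG]
        map_mul' := fun x y => by simp [linG, Matrix.det_mul, map_mul] }
  exact CfsgLib.Char.isIrrCharacter_hom φ

theorem linG_injective : Function.Injective (linG (F := F)) := by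
  intro α β h
  refine MulChar.ext fun u => ?_
  have := congrFun h (Matrix.GeneralLinearGroup.mkOfDetNeZero !![(u : F), 0; 0, 1]
    (by simp [Matrix.det_fin_two_of]))
  simpa [linG, Matrix.GeneralLinearGroup.mkOfDetNeZero, Matrix.det_fin_two_of] using this

open _root_.Classical in
theorem classInner_indG_linG (α β γ : MulChar F ℂ) :
    Cfsg.classInner (indG α β) (linG γ) = if α = γ ∧ β = γ then 1 else 0 := by
  have hcl : Cfsg.IsClassFunction _ (linG γ) :=
    CfsgLib.Char.IsIrrCharacter.isClassFunction (isIrr_linG γ)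
  rw [indG, CfsgLib.Char.classInner_indFun _ _ hcl,
    Cfsg.classInner, ← Nat.card_congr borelEquiv, ← borelEquiv.sum_comp, Fintype.sum_prod_type]
  have h : ∀ p : Fˣ × Fˣ, ∑ z : F, thetaG α β (borelEquiv (p, z)) *
      conj (linG γ (borelEquiv (p, z) : GL (Fin 2) F)) =
        qC * ((α p.1 * conj (γ p.1)) * (β p.2 * conj (γ p.2))) := by
    intro p
    simp only [thetaG, linG, coe_borelEquiv, Matrix.det_fin_two_of, mul_zero, sub_zero, map_mul,
      Matrix.of_apply, Matrix.cons_val', Matrix.cons_val_zero, Matrix.cons_val_one,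
      Matrix.cons_val_fin_one, Finset.sum_const, Finset.card_univ, nsmul_eq_mul]
    ring
  change (Nat.card ((Fˣ × Fˣ) × F) : ℂ)⁻¹ * ∑ p : Fˣ × Fˣ, ∑ z : F, thetaG α β (borelEquiv (p, z)) *
    conj (linG γ (borelEquiv (p, z) : GL (Fin 2) F)) = _
  rw [Finset.sum_congr rfl fun p _ => h p, ← Finset.mul_sum, Fintype.sum_prod_type]
  simp only [← Finset.mul_sum, ← Finset.sum_mul, sum_units_char]
  have hq0 : qC ≠ 0 := by exact_mod_cast Fintype.card_ne_zero
  have hq1 : qC - 1 ≠ 0 := by
    rw [sub_ne_zero]; exact_mod_cast (Fintype.one_lt_card : 1 < Fintype.card F).ne'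
  simp only [Nat.card_prod, Nat.card_units, Nat.card_eq_fintype_card (α := F), Nat.cast_mul,
    Nat.cast_sub (Fintype.card_pos : 1 ≤ Fintype.card F), Nat.cast_one]
  by_cases h1 : α = γ <;> by_cases h2 : β = γ <;> simp [h1, h2]
  field_simp

open _root_.Classical in
theorem classInner_stG (α β : MulChar F ℂ) :
    Cfsg.classInner (stG α) (stG β) = if α = β then 1 else 0 := by
  have hl : Cfsg.classInner (linG α) (indG β β) = conj (Cfsg.classInner (indG β β) (linG α)) :=
    (CfsgLib.Char.classInner_conj_symm _ _).symm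
  rw [stG, stG, CfsgLib.Char.classInner_sub_left, CfsgLib.Char.classInner_sub_right,
    CfsgLib.Char.classInner_sub_right, hl, classInner_indG, classInner_indG_linG,
    classInner_indG_linG, CfsgLib.Char.classInner_irr (isIrr_linG α) (isIrr_linG β)]
  by_cases h : α = β
  · subst h
    norm_num
  · have h' : linG α ≠ linG β := fun e => h (linG_injective e)
    simp [h, h', Ne.symm h]

theorem stG_one (α : MulChar F ℂ) : stG α 1 = qC := by
  have hs : Scal ((1 : GL (Fin 2) F) : Mat) := by simp [Scal]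
  rw [stG, Pi.sub_apply, indG_scal α α hs, linG]
  simp

theorem isIrr_stG (α : MulChar F ℂ) : Cfsg.IsIrrCharacter (GL (Fin 2) F) (stG α) := by
  classical
  refine isIrr_of_norm_one (CfsgLib.Char.IsGeneralizedCharacter.sub
    (CfsgLib.Char.IsCharacter.isGeneralizedCharacter (isCharacter_indG α α))
    (CfsgLib.Char.IsCharacter.isGeneralizedCharacter
      (CfsgLib.Char.IsIrrCharacter.isCharacter (isIrr_linG α))))
    ?_ (n := Fintype.card F) (stG_one α)
  exact (classInner_stG α α).trans (if_pos rfl)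

theorem indG_at_one (α β : MulChar F ℂ) : indG α β 1 = qC + 1 := by
  have hs : Scal ((1 : GL (Fin 2) F) : Mat) := by simp [Scal]
  rw [indG_scal α β hs]
  simp

theorem linG_at_one (α : MulChar F ℂ) : linG α 1 = 1 := by simp [linG]

theorem isIrr_piG (h₀ : rts t₀ d₀ = ∅) {θ : torG h₀ →* ℂˣ} (hθ : θ ≠ θ.comp (barT h₀)) :
    Cfsg.IsIrrCharacter (GL (Fin 2) F) (piG h₀ θ) := by
  classical
  refine isIrr_of_norm_one (isGeneralized_piG h₀ θ) ?_ (n := Fintype.card F - 1) ?_
  · rw [classInner_piG, if_pos rfl, if_neg hθ, add_zero]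
  · rw [piG_one, Nat.cast_sub Fintype.card_pos, Nat.cast_one]

/-- Non-scalar unipotent values. -/
theorem values_unip {u : GL (Fin 2) F} (hu : ¬ Scal (u : Mat)) (ht : (u : Mat).trace = 2 * 1)
    (hd : (u : Mat).det = 1 ^ 2) :
    (∀ α : MulChar F ℂ, linG α u = 1) ∧ (∀ α : MulChar F ℂ, stG α u = 0) ∧
    (∀ α β : MulChar F ℂ, indG α β u = 1) ∧
    (∀ {t₀ d₀ : F} (h₀ : rts t₀ d₀ = ∅) (θ : torG h₀ →* ℂˣ), piG h₀ θ u = -1) := by
  have hl : ∀ α : MulChar F ℂ, linG α u = 1 := fun α => by rw [linG, hd]; simp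
  have hi : ∀ α β : MulChar F ℂ, indG α β u = 1 := fun α β => by
    have hr : rts ((2 : F) * 1) ((1 : F) ^ 2) = {1} := by
      rw [two_mul, sq, rts_split, Finset.pair_eq_singleton]
    rw [indG_nonscal α β hu, ht, hd, hr, Finset.sum_singleton]
    simp
  refine ⟨hl, fun α => ?_, hi, fun h₀ θ => ?_⟩
  · rw [stG, Pi.sub_apply, hi, hl, sub_self]
  · rw [piG_nonscal h₀ θ hu, ht, hd, Phi_double, thP_of_ne h₀ θ (by simp)]
    have : torEquiv h₀ ⟨((1 : F), (0 : F)), by simp⟩ = 1 := by
      refine Subtype.ext (Units.ext ?_)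
      simp [coe_torEquiv]
    rw [this, map_one, Units.val_one]

theorem finite_mulChar : Finite (MulChar F ℂ) := inferInstance

theorem card_mulChar : Nat.card (MulChar F ℂ) = Fintype.card F - 1 := by
  rw [MulChar.card_eq_card_units_of_hasEnoughRootsOfUnity, Nat.card_units,
    Nat.card_eq_fintype_card]

theorem finite_hom_torG (h₀ : rts t₀ d₀ = ∅) : Finite (torG h₀ →* ℂˣ) := by
  obtain ⟨e⟩ := CommGroup.monoidHom_mulEquiv_of_hasEnoughRootsOfUnity (torG h₀) ℂ
  exact Finite.of_equiv _ e.toEquiv.symm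

theorem card_hom_torG (h₀ : rts t₀ d₀ = ∅) :
    Nat.card (torG h₀ →* ℂˣ) = Fintype.card F ^ 2 - 1 := by
  rw [CommGroup.card_monoidHom_of_hasEnoughRootsOfUnity, card_torG]

/-- The determinant on the torus. -/
noncomputable def detT (h₀ : rts t₀ d₀ = ∅) : torG h₀ →* Fˣ :=
  Matrix.GeneralLinearGroup.det.comp (torG h₀).subtype

theorem coe_detT (h₀ : rts t₀ d₀ = ∅) (c : torG h₀) :
    (detT h₀ c : F) = ((c : GL (Fin 2) F) : Mat).det := rfl

theorem detT_surjective (h₀ : rts t₀ d₀ = ∅) : Function.Surjective (detT h₀) := fun u => by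
  obtain ⟨c, hc⟩ := det_surj h₀ u
  exact ⟨c, Units.ext hc⟩

theorem detT_barT (h₀ : rts t₀ d₀ = ∅) (c : torG h₀) : detT h₀ (barT h₀ c) = detT h₀ c := by
  obtain ⟨p, rfl⟩ := (torEquiv h₀).surjective c
  refine Units.ext ?_
  rw [coe_detT, coe_detT, barT_apply, det_torEquiv, det_torEquiv]
  exact (barP_params p.1).2

theorem barT_div_ker (h₀ : rts t₀ d₀ = ∅) {c : torG h₀} (hc : detT h₀ c = 1) :
    ∃ e : torG h₀, barT h₀ e * e⁻¹ = c := by
  classical
  let ν : torG h₀ →* (detT h₀).ker :=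
    MonoidHom.mk' (fun e => ⟨barT h₀ e * e⁻¹, by
      rw [MonoidHom.mem_ker, map_mul, map_inv, detT_barT, mul_inv_cancel]⟩)
      (fun a b => Subtype.ext (by
        show barT h₀ (a * b) * (a * b)⁻¹ = barT h₀ a * a⁻¹ * (barT h₀ b * b⁻¹)
        rw [map_mul, mul_inv]
        exact mul_mul_mul_comm _ _ _ _))
  have hker : Nat.card ν.ker ≤ Fintype.card F - 1 := by
    rw [← Nat.card_eq_fintype_card (α := F), ← Nat.card_units]
    have hy : ∀ e : ν.ker, ((torEquiv h₀).symm (e : torG h₀)).1.2 = 0 := fun e => by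
      by_contra hy
      obtain ⟨p, hp⟩ := (torEquiv h₀).surjective (e : torG h₀)
      have he := congrArg Subtype.val (MonoidHom.mem_ker.1 e.2)
      have he' : barT h₀ (e : torG h₀) = e := mul_inv_eq_one.1 he
      rw [← hp, Equiv.symm_apply_apply] at hy
      rw [← hp, barT_apply] at he'
      exact barP_ne h₀ hy (congrArg Subtype.val ((torEquiv h₀).injective he'))
    refine Nat.card_le_card_of_injective (fun e => Units.mk0 ((torEquiv h₀).symm (e : torG h₀)).1.1
      (fun h0 => ((torEquiv h₀).symm (e : torG h₀)).2 (Prod.ext h0 (hy e)))) fun e e' h => ?_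
    refine Subtype.ext ((torEquiv h₀).symm.injective (Subtype.ext (Prod.ext ?_ ?_)))
    · exact congrArg Units.val h
    · rw [hy, hy]
  have h1 := (detT h₀).ker.index_mul_card
  rw [Subgroup.index_ker, MonoidHom.range_eq_top.2 (detT_surjective h₀),
    Nat.card_congr Subgroup.topEquiv.toEquiv, card_torG, Nat.card_units,
    Nat.card_eq_fintype_card] at h1
  have h2 := ν.ker.index_mul_card
  rw [Subgroup.index_ker, card_torG, ← h1] at h2
  have h3 : Nat.card (detT h₀).ker ≤ Nat.card ν.range := by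
    have hpos : 0 < Fintype.card F - 1 := by
      have := Fintype.one_lt_card (α := F); omega
    refine Nat.le_of_mul_le_mul_left ?_ hpos
    rw [← h2, mul_comm (Nat.card ν.range)]
    exact Nat.mul_le_mul_right _ hker
  have htop : ν.range = ⊤ := Subgroup.eq_top_of_le_card _ h3
  obtain ⟨e, he⟩ := (htop ▸ Subgroup.mem_top (⟨c, hc⟩ : (detT h₀).ker) : _ ∈ ν.range)
  exact ⟨e, congrArg Subtype.val he⟩

theorem fixed_hom_iff (h₀ : rts t₀ d₀ = ∅) (θ : torG h₀ →* ℂˣ) :
    θ = θ.comp (barT h₀) ↔ ∃ α : Fˣ →* ℂˣ, θ = α.comp (detT h₀) := by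
  constructor
  · intro h
    have hker : (detT h₀).ker ≤ θ.ker := fun c hc => by
      obtain ⟨e, he⟩ := barT_div_ker h₀ (MonoidHom.mem_ker.1 hc)
      rw [MonoidHom.mem_ker, ← he, map_mul, map_inv, mul_inv_eq_one]
      exact (DFunLike.congr_fun h e).symm
    refine ⟨(detT h₀).liftOfSurjective (detT_surjective h₀) ⟨θ, hker⟩, ?_⟩
    ext c
    simp [MonoidHom.liftOfRightInverse_comp_apply]
  · rintro ⟨α, rfl⟩
    ext c
    simp [detT_barT]

theorem card_fixed_hom (h₀ : rts t₀ d₀ = ∅) :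
    Nat.card {θ : torG h₀ →* ℂˣ // θ = θ.comp (barT h₀)} = Fintype.card F - 1 := by
  rw [← Nat.card_eq_fintype_card (α := F), ← Nat.card_units,
    ← CommGroup.card_monoidHom_of_hasEnoughRootsOfUnity Fˣ ℂ]
  refine (Nat.card_congr (Equiv.ofBijective
    (fun α : Fˣ →* ℂˣ => (⟨α.comp (detT h₀), (fixed_hom_iff h₀ _).2 ⟨α, rfl⟩⟩ :
      {θ : torG h₀ →* ℂˣ // θ = θ.comp (barT h₀)})) ⟨fun a b h => ?_, fun θ => ?_⟩)).symm
  · exact (MonoidHom.cancel_right (detT_surjective h₀)).1 (congrArg Subtype.val h)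
  · obtain ⟨α, hα⟩ := (fixed_hom_iff h₀ θ.1).1 θ.2
    exact ⟨α, Subtype.ext hα.symm⟩

theorem card_image_two {α β : Type*} [DecidableEq β] (s : Finset α) (f : α → β) (σ : α → α)
    (hσ : ∀ a ∈ s, σ a ∈ s ∧ σ a ≠ a ∧ f (σ a) = f a)
    (hf : ∀ a ∈ s, ∀ b ∈ s, f a = f b → b = a ∨ b = σ a) :
    2 * (s.image f).card = s.card := by
  classical
  rw [Finset.card_eq_sum_card_fiberwise (s := s) (t := s.image f) (f := f)
    (fun a ha => Finset.mem_image_of_mem f ha), Finset.sum_const_nat (m := 2), mul_comm]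
  intro b hb
  obtain ⟨a, ha, rfl⟩ := Finset.mem_image.1 hb
  obtain ⟨h1, h2, h3⟩ := hσ a ha
  have : (s.filter fun x => f x = f a) = {a, σ a} := by
    ext x
    simp only [Finset.mem_filter, Finset.mem_insert, Finset.mem_singleton]
    constructor
    · rintro ⟨hx, hxa⟩
      exact hf a ha x hx hxa.symm
    · rintro (rfl | rfl)
      · exact ⟨ha, rfl⟩
      · exact ⟨h1, h3⟩
  rw [this, Finset.card_pair h2.symm]

section Lists

open _root_.Classical

variable (F) in
/-- The linear characters. -/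
noncomputable def linSet : Finset (GL (Fin 2) F → ℂ) :=
  letI := Fintype.ofFinite (MulChar F ℂ)
  (Finset.univ : Finset (MulChar F ℂ)).image linG

variable (F) in
/-- The twisted Steinberg characters. -/
noncomputable def stSet : Finset (GL (Fin 2) F → ℂ) :=
  letI := Fintype.ofFinite (MulChar F ℂ)
  (Finset.univ : Finset (MulChar F ℂ)).image stG

variable (F) in
/-- The irreducible principal series characters. -/
noncomputable def prSet : Finset (GL (Fin 2) F → ℂ) :=
  letI := Fintype.ofFinite (MulChar F ℂ)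
  ((Finset.univ : Finset (MulChar F ℂ × MulChar F ℂ)).filter fun p => p.1 ≠ p.2).image
    fun p => indG p.1 p.2

/-- The cuspidal characters. -/
noncomputable def cuSet (h₀ : rts t₀ d₀ = ∅) : Finset (GL (Fin 2) F → ℂ) :=
  letI : Finite (torG h₀ →* ℂˣ) := finite_hom_torG h₀
  letI := Fintype.ofFinite (torG h₀ →* ℂˣ)
  ((Finset.univ : Finset (torG h₀ →* ℂˣ)).filter fun θ => θ ≠ θ.comp (barT h₀)).image (piG h₀)

theorem mem_linSet {χ : GL (Fin 2) F → ℂ} : χ ∈ linSet F ↔ ∃ α, χ = linG α := by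
  simp [linSet, eq_comm]

theorem mem_stSet {χ : GL (Fin 2) F → ℂ} : χ ∈ stSet F ↔ ∃ α, χ = stG α := by
  simp [stSet, eq_comm]

theorem mem_prSet {χ : GL (Fin 2) F → ℂ} :
    χ ∈ prSet F ↔ ∃ α β, α ≠ β ∧ χ = indG α β := by
  simp [prSet, eq_comm]

theorem mem_cuSet (h₀ : rts t₀ d₀ = ∅) {χ : GL (Fin 2) F → ℂ} :
    χ ∈ cuSet h₀ ↔ ∃ θ : torG h₀ →* ℂˣ, θ ≠ θ.comp (barT h₀) ∧ χ = piG h₀ θ := by
  simp [cuSet, eq_comm]

theorem card_linSet : (linSet F).card = Fintype.card F - 1 := by
  letI := Fintype.ofFinite (MulChar F ℂ)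
  rw [linSet, Finset.card_image_of_injective _ linG_injective, Finset.card_univ,
    ← Nat.card_eq_fintype_card, card_mulChar]

theorem card_stSet : (stSet F).card = Fintype.card F - 1 := by
  letI := Fintype.ofFinite (MulChar F ℂ)
  have hinj : Function.Injective (stG (F := F)) := fun α β h => by
    by_contra hne
    have h1 := classInner_stG α β
    rw [← h, classInner_stG α α, if_pos rfl, if_neg hne] at h1
    exact one_ne_zero h1
  rw [stSet, Finset.card_image_of_injective _ hinj, Finset.card_univ,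
    ← Nat.card_eq_fintype_card, card_mulChar]

theorem card_prSet :
    2 * (prSet F).card = (Fintype.card F - 1) * (Fintype.card F - 2) := by
  letI := Fintype.ofFinite (MulChar F ℂ)
  have hset : ((Finset.univ : Finset (MulChar F ℂ × MulChar F ℂ)).filter fun p => p.1 ≠ p.2) =
      (Finset.univ : Finset (MulChar F ℂ)).offDiag := by
    ext p; simp [Finset.mem_offDiag]
  rw [prSet, card_image_two _ _ Prod.swap (fun p hp => ?_) (fun p hp r hr h => ?_), hset,
    Finset.offDiag_card, Finset.card_univ, ← Nat.card_eq_fintype_card, card_mulChar,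
    ← Nat.mul_sub_one]
  · rfl
  · have hne : p.1 ≠ p.2 := (Finset.mem_filter.1 hp).2
    exact ⟨Finset.mem_filter.2 ⟨Finset.mem_univ _, hne.symm⟩,
      fun h => hne (congrArg Prod.snd h), indG_swap _ _⟩
  · rcases (indG_eq_iff _ _ _ _).1 h with ⟨a, b⟩ | ⟨a, b⟩
    · exact Or.inl (Prod.ext a.symm b.symm)
    · exact Or.inr (Prod.ext b.symm a.symm)

theorem card_cuSet (h₀ : rts t₀ d₀ = ∅) :
    2 * (cuSet h₀).card = Fintype.card F * (Fintype.card F - 1) := by
  letI : Finite (torG h₀ →* ℂˣ) := finite_hom_torG h₀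
  letI := Fintype.ofFinite (torG h₀ →* ℂˣ)
  have hbb : ∀ θ : torG h₀ →* ℂˣ, (θ.comp (barT h₀)).comp (barT h₀) = θ := fun θ =>
    MonoidHom.ext fun c => by simp [barT_barT]
  rw [cuSet, card_image_two _ _ (fun θ => θ.comp (barT h₀)) (fun θ hθ => ?_)
    (fun θ hθ φ hφ h => ?_)]
  · have h := Finset.card_filter_add_card_filter_not (s := (Finset.univ : Finset (torG h₀ →* ℂˣ)))
      (fun θ => θ = θ.comp (barT h₀))
    rw [← Fintype.card_subtype, ← Nat.card_eq_fintype_card, card_fixed_hom h₀, Finset.card_univ,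
      ← Nat.card_eq_fintype_card (α := torG h₀ →* ℂˣ), card_hom_torG] at h
    obtain ⟨k, hk⟩ := Nat.exists_eq_add_of_le (Fintype.one_lt_card : 1 < Fintype.card F)
    rw [hk] at h ⊢
    rw [show Nat.succ 1 + k - 1 = k + 1 by omega] at h ⊢
    have e : (Nat.succ 1 + k) ^ 2 - 1 = (k + 1) + (Nat.succ 1 + k) * (k + 1) := by
      apply Nat.sub_eq_of_eq_add; ring
    rw [e] at h
    exact Nat.add_left_cancel h
  · have hne := (Finset.mem_filter.1 hθ).2
    refine ⟨Finset.mem_filter.2 ⟨Finset.mem_univ _, fun h => hne ?_⟩, fun h => hne h.symm, ?_⟩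
    · rw [hbb] at h; exact h.symm
    · have hgen : ∀ φ : torG h₀ →* ℂˣ, φ ≠ φ.comp (barT h₀) →
          Cfsg.classInner (piG h₀ φ) (piG h₀ φ) = 1 := fun φ hφ => by
        rw [classInner_piG, if_pos rfl, if_neg hφ, add_zero]
      have hne' : θ.comp (barT h₀) ≠ (θ.comp (barT h₀)).comp (barT h₀) := fun h => hne (by
        rw [hbb] at h; exact h.symm)
      refine sub_eq_zero.1 (CfsgLib.Char.classInner_self_eq_zero.1 ?_)
      rw [CfsgLib.Char.classInner_sub_left, CfsgLib.Char.classInner_sub_right,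
        CfsgLib.Char.classInner_sub_right, hgen _ hne', hgen _ hne, classInner_piG, classInner_piG]
      simp [hbb, hne, hne.symm]
  · by_contra hc
    rw [not_or] at hc
    have h1 := classInner_piG h₀ θ φ
    rw [← h, classInner_piG, if_pos rfl, if_neg (Finset.mem_filter.1 hθ).2, add_zero,
      if_neg (fun e => hc.1 e.symm),
      if_neg (fun e => hc.2 (by rw [e, hbb])), add_zero] at h1
    exact one_ne_zero h1

/-- The irreducible characters of `GL₂`. -/
theorem irr_GL_cases (h₀ : rts t₀ d₀ = ∅) {χ : GL (Fin 2) F → ℂ}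
    (hχ : Cfsg.IsIrrCharacter (GL (Fin 2) F) χ) :
    (∃ α, χ = linG α) ∨ (∃ α, χ = stG α) ∨ (∃ α β, α ≠ β ∧ χ = indG α β) ∨
      (∃ θ : torG h₀ →* ℂˣ, θ ≠ θ.comp (barT h₀) ∧ χ = piG h₀ θ) := by
  set u : GL (Fin 2) F := compGL (2 * 1) (1 ^ 2) (by simp)
  obtain ⟨ul, us, ui, up⟩ := values_unip (u := u) (not_scal_comp _ _) (trace_comp _ _) (det_comp _ _)
  have hqN : 1 < Fintype.card F := Fintype.one_lt_card
  have hq0 : qC ≠ 0 := by exact_mod_cast Fintype.card_ne_zero
  have d1 : Disjoint (linSet F) (stSet F) := Finset.disjoint_left.2 fun χ h1 h2 => by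
    obtain ⟨α, rfl⟩ := mem_linSet.1 h1
    obtain ⟨β, h⟩ := mem_stSet.1 h2
    have := congrFun h u
    rw [ul, us] at this
    exact one_ne_zero this
  have d2 : Disjoint (linSet F ∪ stSet F) (prSet F) := Finset.disjoint_left.2 fun χ h1 h2 => by
    obtain ⟨α, β, -, rfl⟩ := mem_prSet.1 h2
    rcases Finset.mem_union.1 h1 with h | h
    · obtain ⟨γ, h⟩ := mem_linSet.1 h
      have := congrFun h 1
      rw [indG_at_one, linG_at_one] at this
      exact hq0 (by linear_combination this)
    · obtain ⟨γ, h⟩ := mem_stSet.1 h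
      have := congrFun h u
      rw [ui, us] at this
      exact one_ne_zero this
  have d3 : Disjoint (linSet F ∪ stSet F ∪ prSet F) (cuSet h₀) :=
    Finset.disjoint_left.2 fun χ h1 h2 => by
      obtain ⟨θ, -, rfl⟩ := (mem_cuSet h₀).1 h2
      simp only [Finset.mem_union] at h1
      rcases h1 with (h | h) | h
      · obtain ⟨γ, h⟩ := mem_linSet.1 h
        have := congrFun h u
        rw [up, ul] at this
        norm_num at this
      · obtain ⟨γ, h⟩ := mem_stSet.1 h
        have := congrFun h u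
        rw [up, us] at this
        norm_num at this
      · obtain ⟨α, β, -, h⟩ := mem_prSet.1 h
        have := congrFun h u
        rw [up, ui] at this
        norm_num at this
  have hall : ∀ χ ∈ linSet F ∪ stSet F ∪ prSet F ∪ cuSet h₀,
      Cfsg.IsIrrCharacter (GL (Fin 2) F) χ := by
    intro χ h
    simp only [Finset.mem_union, mem_linSet, mem_stSet, mem_prSet, mem_cuSet h₀] at h
    rcases h with ((⟨α, rfl⟩ | ⟨α, rfl⟩) | ⟨α, β, hab, rfl⟩) | ⟨θ, hθ, rfl⟩
    · exact isIrr_linG α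
    · exact isIrr_stG α
    · exact isIrr_indG hab
    · exact isIrr_piG h₀ hθ
  have hcard : Nat.card (ConjClasses (GL (Fin 2) F)) ≤
      (linSet F ∪ stSet F ∪ prSet F ∪ cuSet h₀).card := by
    rw [Finset.card_union_of_disjoint d3, Finset.card_union_of_disjoint d2,
      Finset.card_union_of_disjoint d1, card_linSet, card_stSet, card_classes_GL]
    have h1 := card_prSet (F := F)
    have h2 := card_cuSet h₀
    obtain ⟨k, hk⟩ := Nat.exists_eq_add_of_le hqN
    rw [hk] at h1 h2 ⊢
    rw [show Nat.succ 1 + k - 1 = k + 1 by omega, show Nat.succ 1 + k - 2 = k by omega] at h1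
    rw [show Nat.succ 1 + k - 1 = k + 1 by omega] at h2 ⊢
    apply Nat.sub_le_of_le_add
    nlinarith
  have := mem_of_card_classes hall hcard hχ
  simp only [Finset.mem_union, mem_linSet, mem_stSet, mem_prSet, mem_cuSet h₀] at this
  rcases this with ((h | h) | h) | h
  · exact Or.inl h
  · exact Or.inr (Or.inl h)
  · exact Or.inr (Or.inr (Or.inl h))
  · exact Or.inr (Or.inr (Or.inr h))

end Lists

end CfsgLib.KnownB.GL2
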