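import Cfsg.Agent.Lib.KnownB.GL2.TorusSL
import Cfsg.Agent.Lib.KnownB.GL2.TableGL
import Cfsg.Agent.Lib.KnownB.GL2.PrincipalApps

/-!
The cuspidal characters of `SL₂`, and orthogonality to them and to the principal series.
-/

set_option autoImplicit false

namespace CfsgLib.KnownB.GL2

open scoped MatrixGroups ComplexConjugate

/-- A function on a finite abelian group orthogonal to all linear characters vanishes. -/
theorem eq_zero_of_forall_hom {G : Type*} [CommGroup G] [Fintype G] (f : G → ℂ)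
    (h : ∀ φ : G →* ℂˣ, ∑ g, f g * conj (φ g : ℂ) = 0) : f = 0 := by
  classical
  haveI : Finite (G →* ℂˣ) := by
    obtain ⟨e⟩ := CommGroup.monoidHom_mulEquiv_of_hasEnoughRootsOfUnity G ℂ
    exact Finite.of_equiv _ e.toEquiv.symm
  letI := Fintype.ofFinite (G →* ℂˣ)
  funext x
  have hsum : ∀ y : G, y ≠ 1 → ∑ φ : G →* ℂˣ, (φ y : ℂ) = 0 := fun y hy => by
    obtain ⟨φ₀, h₀⟩ := CommGroup.exists_apply_ne_one_of_hasEnoughRootsOfUnity G ℂ hy
    have e : (φ₀ y : ℂ) * ∑ φ : G →* ℂˣ, (φ y : ℂ) = ∑ φ : G →* ℂˣ, (φ y : ℂ) := by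
      rw [Finset.mul_sum]
      exact Fintype.sum_equiv (Equiv.mulLeft φ₀) _ _ fun φ => by simp
    have e' : ((φ₀ y : ℂ) - 1) * ∑ φ : G →* ℂˣ, (φ y : ℂ) = 0 := by rw [sub_mul, e, one_mul, sub_self]
    exact (mul_eq_zero.1 e').resolve_left (sub_ne_zero.2 fun h1 => h₀ (Units.ext h1))
  have h2 : ∑ φ : G →* ℂˣ, (φ x : ℂ) * ∑ g, f g * conj (φ g : ℂ) = 0 :=
    Finset.sum_eq_zero fun φ _ => by rw [h φ, mul_zero]
  simp only [Finset.mul_sum] at h2
  rw [Finset.sum_comm, Finset.sum_eq_single x] at h2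
  · have h3 : ∀ φ : G →* ℂˣ, (φ x : ℂ) * (f x * conj (φ x : ℂ)) = f x := fun φ => by
      rw [conj_hom, mul_left_comm, Units.mul_inv, mul_one]
    rw [Finset.sum_congr rfl fun φ _ => h3 φ, Finset.sum_const, nsmul_eq_mul] at h2
    refine (mul_eq_zero.1 h2).resolve_left ?_
    rw [Nat.cast_eq_zero, Finset.card_univ]
    exact Fintype.card_ne_zero
  · intro g _ hg
    have h3 : ∀ φ : G →* ℂˣ, (φ x : ℂ) * (f g * conj (φ g : ℂ)) = f g * (φ (x * g⁻¹) : ℂ) := fun φ => by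
      rw [conj_hom, map_mul, map_inv, Units.val_mul]; ring
    rw [Finset.sum_congr rfl fun φ _ => h3 φ, ← Finset.mul_sum,
      hsum _ (fun e => hg (mul_inv_eq_one.1 e).symm), mul_zero]
  · exact fun hx => absurd (Finset.mem_univ x) hx

variable {F : Type*} [Field F] [Fintype F] [DecidableEq F] {t₀ d₀ : F}

local notation "Mat" => Matrix (Fin 2) (Fin 2) F
local notation "qC" => (Fintype.card F : ℂ)

theorem exists_ext (h₀ : rts t₀ d₀ = ∅) (ψ : torS h₀ →* ℂˣ) :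
    ∃ θ : torG h₀ →* ℂˣ, ∀ c, θ (toT h₀ c) = ψ c := by
  obtain ⟨θ, hθ⟩ := MonoidHom.domRestrict_surjective ℂ (toT h₀).range
    (ψ.comp (MonoidHom.ofInjective (toT_injective h₀)).symm.toMonoidHom)
  refine ⟨θ, fun c => ?_⟩
  have e := DFunLike.congr_fun hθ (MonoidHom.ofInjective (toT_injective h₀) c)
  simp only [MonoidHom.comp_apply, MulEquiv.coe_toMonoidHom, MulEquiv.symm_apply_apply] at e
  exact e

/-- An extension to the torus of `GL₂`. -/
noncomputable def extT (h₀ : rts t₀ d₀ = ∅) (ψ : torS h₀ →* ℂˣ) : torG h₀ →* ℂˣ :=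
  (exists_ext h₀ ψ).choose

theorem extT_spec (h₀ : rts t₀ d₀ = ∅) (ψ : torS h₀ →* ℂˣ) (c : torS h₀) :
    extT h₀ ψ (toT h₀ c) = ψ c := (exists_ext h₀ ψ).choose_spec c

/-- The cuspidal class function of `SL₂`. -/
noncomputable def piS (h₀ : rts t₀ d₀ = ∅) (ψ : torS h₀ →* ℂˣ) (g : SL(2, F)) : ℂ :=
  piG h₀ (extT h₀ ψ) (Matrix.SpecialLinearGroup.toGL g)

theorem thP_torS (h₀ : rts t₀ d₀ = ∅) (ψ : torS h₀ →* ℂˣ) (c : torS h₀) (p : F × F)
    (h : ((c : SL(2, F)) : Mat) = p.1 • (1 : Mat) + p.2 • comp t₀ d₀) :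
    thP h₀ (extT h₀ ψ) p = (ψ c : ℂ) := by
  have hp : p ≠ 0 := fun h0 => by
    have hd := sl_det (c : SL(2, F))
    rw [h, h0] at hd
    simp at hd
  rw [thP_of_ne h₀ _ hp, ← extT_spec h₀ ψ c]
  congr 2
  refine Subtype.ext (Units.ext ?_)
  rw [coe_torEquiv, coe_toT, h]

theorem piS_scal (h₀ : rts t₀ d₀ = ∅) (ψ : torS h₀ →* ℂˣ) (r : Sg F) :
    piS h₀ ψ (scalSL r.1 (sg_sq r)) = (qC - 1) * (ψ (sgT h₀ r) : ℂ) := by
  rw [piS, piG_scal h₀ _ (g := Matrix.SpecialLinearGroup.toGL (scalSL r.1 (sg_sq r)))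
    (scal_scalSL r.1 (sg_sq r))]
  congr 1
  refine thP_torS h₀ ψ _ _ ?_
  show r.1 • (1 : Mat) = _
  simp [coe_scalSL]

theorem piS_par (h₀ : rts t₀ d₀ = ∅) (ψ : torS h₀ →* ℂˣ) (r : Sg F) {b : F} (hb : b ≠ 0) :
    piS h₀ ψ (parSL r.1 b (sg_sq r)) = -(ψ (sgT h₀ r) : ℂ) := by
  rw [piS, piG_nonscal h₀ _ (g := Matrix.SpecialLinearGroup.toGL (parSL r.1 b (sg_sq r)))
    (not_scal_parSL (sg_sq r) hb)]
  show -Phi h₀ _ (parSL r.1 b (sg_sq r) : Mat).trace (parSL r.1 b (sg_sq r) : Mat).det = _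
  rw [trace_parSL, sl_det, ← sg_sq r, Phi_double, thP_torS h₀ ψ (sgT h₀ r)]
  show r.1 • (1 : Mat) = _
  simp

theorem piS_diag (h₀ : rts t₀ d₀ = ∅) (ψ : torS h₀ →* ℂˣ) {a : Fˣ} (ha : (a : F) ^ 2 ≠ 1) :
    piS h₀ ψ (diagSL a) = 0 := by
  rw [piS, piG_nonscal h₀ _ (g := Matrix.SpecialLinearGroup.toGL (diagSL a)) (not_scal_diagSL ha)]
  show -Phi h₀ _ (diagSL a : Mat).trace (diagSL a : Mat).det = _
  rw [sl_det, Phi_split h₀ _ (by rw [rts_diagSL, Finset.card_pair (diag_ne ha)]), neg_zero]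

theorem piS_tor (h₀ : rts t₀ d₀ = ∅) (ψ : torS h₀ →* ℂˣ) {c : torS h₀}
    (hc : ¬ Scal ((c : SL(2, F)) : Mat)) :
    piS h₀ ψ c = -((ψ c : ℂ) + ((ψ c)⁻¹ : ℂˣ)) := by
  rw [piS, piG_nonscal h₀ _ (g := Matrix.SpecialLinearGroup.toGL (c : SL(2, F))) hc]
  show -Phi h₀ _ ((c : SL(2, F)) : Mat).trace ((c : SL(2, F)) : Mat).det = _
  obtain ⟨p, rfl⟩ := (torSEquiv h₀).surjective c
  rw [scal_torSEquiv] at hc
  rw [sl_det, trace_torSEquiv]
  have h := Phi_ell h₀ (extT h₀ ψ) (p := p.1) hc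
  have hP : Phi h₀ (extT h₀ ψ) (2 * p.1.1 + t₀ * p.1.2) 1 =
      Phi h₀ (extT h₀ ψ) (2 * p.1.1 + t₀ * p.1.2) (nf t₀ d₀ p.1.1 p.1.2) := congrArg _ p.2.symm
  rw [hP, h, thP_torS h₀ ψ _ _ (coe_torSEquiv h₀ p),
    thP_torS h₀ ψ (torSEquiv h₀ p)⁻¹ (barP t₀ p.1) (by rw [torSEquiv_inv, coe_torSEquiv]), map_inv]

/-- Invariance under conjugation in `GL₂`. -/
theorem piS_glConj (h₀ : rts t₀ d₀ = ∅) (ψ : torS h₀ →* ℂˣ) {x : GL (Fin 2) F} {g k : SL(2, F)}
    (h : Matrix.SpecialLinearGroup.toGL k = x * Matrix.SpecialLinearGroup.toGL g * x⁻¹) :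
    piS h₀ ψ k = piS h₀ ψ g :=
  (piG_conj h₀ _ (isConj_iff.2 ⟨x, h.symm⟩)).symm

theorem indS_glConj (α : MulChar F ℂ) {x : GL (Fin 2) F} {g k : SL(2, F)}
    (h : Matrix.SpecialLinearGroup.toGL k = x * Matrix.SpecialLinearGroup.toGL g * x⁻¹) :
    indS α k = indS α g := by
  rcases gl_isConj_iff.1 (isConj_iff.2 ⟨x, h.symm⟩) with e | ⟨hg, hk, ht, -⟩
  · rw [show g = k from Subtype.ext (congrArg Units.val e)]
  · rw [indS_nonscal α (g := g) hg, indS_nonscal α (g := k) hk]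
    have ht' : (g : Mat).trace = (k : Mat).trace := ht
    rw [ht']

theorem piS_isClassFunction (h₀ : rts t₀ d₀ = ∅) (ψ : torS h₀ →* ℂˣ) {a b : SL(2, F)}
    (h : IsConj a b) : piS h₀ ψ a = piS h₀ ψ b := by
  obtain ⟨x, hx⟩ := isConj_iff.1 h
  exact (piS_glConj h₀ ψ (x := Matrix.SpecialLinearGroup.toGL x) (by rw [← hx]; simp)).symm

theorem indS_isClassFunction (α : MulChar F ℂ) {a b : SL(2, F)} (h : IsConj a b) :
    indS α a = indS α b := by
  obtain ⟨x, hx⟩ := isConj_iff.1 h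
  exact (indS_glConj α (x := Matrix.SpecialLinearGroup.toGL x) (by rw [← hx]; simp)).symm

theorem indS_sg (α : MulChar F ℂ) (r : Sg F) :
    indS α (scalSL r.1 (sg_sq r)) = (qC + 1) * α r.1 := by
  rw [indS_scal α (scal_scalSL r.1 (sg_sq r)), coe_scalSL]
  simp

theorem indS_par (α : MulChar F ℂ) (r : Sg F) {b : F} (hb : b ≠ 0) :
    indS α (parSL r.1 b (sg_sq r)) = α r.1 := by
  have hr : rts (2 * r.1) 1 = {r.1} := by
    have e := rts_split r.1 r.1
    rwa [← two_mul, ← sq, sg_sq r, Finset.pair_eq_singleton] at e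
  rw [indS_nonscal α (not_scal_parSL (sg_sq r) hb), trace_parSL, hr, Finset.sum_singleton]

theorem indS_diag (α : MulChar F ℂ) {a : Fˣ} (ha : (a : F) ^ 2 ≠ 1) :
    indS α (diagSL a) = α a + α (a : F)⁻¹ := by
  rw [indS_nonscal α (not_scal_diagSL ha), rts_diagSL, Finset.sum_pair (diag_ne ha)]

theorem indS_tor (α : MulChar F ℂ) {h₀ : rts t₀ d₀ = ∅} {c : torS h₀}
    (hc : ¬ Scal ((c : SL(2, F)) : Mat)) : indS α c = 0 := by
  rw [indS_nonscal α hc, rts_torS h₀ hc, Finset.sum_empty]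

/-- The Steinberg character. -/
noncomputable def stS (F : Type*) [Field F] [Fintype F] [DecidableEq F] : SL(2, F) → ℂ :=
  indS (1 : MulChar F ℂ) - fun _ => 1

theorem isClassFun_iff {G : Type*} [Group G] {f : G → ℂ} :
    Cfsg.IsClassFunction G f ↔ ∀ a b, IsConj a b → f a = f b := by
  refine ⟨fun h a b hab => ?_, fun h g x => (h g _ (isConj_iff.2 ⟨x, rfl⟩)).symm⟩
  obtain ⟨x, hx⟩ := isConj_iff.1 hab
  rw [← hx, h a x]

theorem piS_one_eq (h₀ : rts t₀ d₀ = ∅) (g : SL(2, F)) :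
    piS h₀ 1 g = stS F g - 1 := by
  rw [stS, Pi.sub_apply]
  rcases sl_cases h₀ g with ⟨r, rfl⟩ | ⟨r, b, hc⟩ | ⟨a, ha, hc⟩ | ⟨c, hc0, hc⟩
  · rw [piS_scal, indS_sg, MulChar.one_apply (sg_ne r).isUnit]; simp; try ring
  · rw [← piS_isClassFunction h₀ 1 hc, ← indS_isClassFunction 1 hc, piS_par h₀ 1 r b.ne_zero,
      indS_par 1 r b.ne_zero, MulChar.one_apply (sg_ne r).isUnit]; simp
  · rw [← piS_isClassFunction h₀ 1 hc, ← indS_isClassFunction 1 hc, piS_diag h₀ 1 ha,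
      indS_diag 1 ha, MulChar.one_apply a.isUnit, MulChar.one_apply a.isUnit.inv]; ring
  · rw [← piS_isClassFunction h₀ 1 hc, ← indS_isClassFunction 1 hc, piS_tor h₀ 1 hc0,
      indS_tor 1 hc0]; simp; ring

/-- The sum over the fibre of the Borel subgroup above a torus element. -/
noncomputable def borelSum (f : SL(2, F) → ℂ) (a : Fˣ) : ℂ :=
  ∑ z : F, f (borelEquivS (a, z) : SL(2, F))

theorem borelSum_reg (f : SL(2, F) → ℂ) (hf : ∀ a b, IsConj a b → f a = f b) {a : Fˣ}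
    (ha : (a : F) ^ 2 ≠ 1) : borelSum f a = qC * f (diagSL a) := by
  rw [borelSum, Finset.sum_congr rfl (g := fun _ => f (diagSL a)) fun z _ => ?_, Finset.sum_const,
    Finset.card_univ, nsmul_eq_mul]
  refine (hf _ _ (sl_isConj_of_trace (not_scal_diagSL ha) ?_ ?_ (Or.inl (dsc_diagSL ha)))).symm
  · intro hs
    exact diag_ne ha (by simpa [coe_borelEquivS] using hs.2.2)
  · rw [trace_diagSL, coe_borelEquivS, Matrix.trace_fin_two_of]

theorem borelSum_sg (f : SL(2, F) → ℂ) (r : Sg F) :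
    borelSum f (sgU r) = f (scalSL r.1 (sg_sq r)) + ∑ b : Fˣ, f (parSL r.1 b (sg_sq r)) := by
  have hr : ((r.1 : F))⁻¹ = r.1 := inv_eq_of_mul_eq_one_right (by rw [← sq]; exact sg_sq r)
  have hz : ∀ z : F, (borelEquivS (sgU r, z) : SL(2, F)) = parSL r.1 z (sg_sq r) := fun z => by
    refine Subtype.ext ?_
    show ((borelEquivS (sgU r, z) : SL(2, F)) : Mat) = _
    rw [coe_borelEquivS, sgU, Units.val_mk0, hr]
    rfl
  rw [borelSum, Finset.sum_congr rfl fun z _ => congrArg f (hz z),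
    ← Finset.add_sum_erase _ _ (Finset.mem_univ (0 : F))]
  congr 1
  · congr 1
    refine Subtype.ext ?_
    show (parSL r.1 0 (sg_sq r) : Mat) = r.1 • (1 : Mat)
    ext i j
    fin_cases i <;> fin_cases j <;> simp [coe_parSL]
  · exact Finset.sum_bij' (fun z hz => Units.mk0 z (Finset.mem_erase.1 hz).1) (fun b _ => (b : F))
      (fun _ _ => Finset.mem_univ _) (fun b _ => Finset.mem_erase.2 ⟨b.ne_zero, Finset.mem_univ _⟩)
      (fun _ _ => rfl) (fun _ _ => Units.ext rfl) (fun _ _ => rfl)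

theorem classInner_indS_eq (f : SL(2, F) → ℂ) (hf : ∀ a b, IsConj a b → f a = f b)
    (α : MulChar F ℂ) :
    Cfsg.classInner f (indS α) =
      ((qC - 1) * qC)⁻¹ * ∑ a : Fˣ, borelSum f a * conj (α (a : F)) := by
  classical
  rw [show indS α = Cfsg.indFun _ (thetaS α) from rfl,
    CfsgLib.Char.classInner_indFun_right _ _ (isClassFun_iff.2 hf), Cfsg.classInner,
    ← Nat.card_congr borelEquivS, ← borelEquivS.sum_comp, Fintype.sum_prod_type, Nat.card_prod,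
    Nat.card_units, Nat.card_eq_fintype_card, Nat.cast_mul, Nat.cast_sub Fintype.card_pos,
    Nat.cast_one]
  congr 1
  refine Finset.sum_congr rfl fun a _ => ?_
  rw [borelSum, Finset.sum_mul]
  refine Finset.sum_congr rfl fun z _ => ?_
  simp [thetaS, coe_borelEquivS]

open _root_.Classical in
/-- The coefficient on the non-split torus of the pairing with the cuspidal functions. -/
noncomputable def torSum (h₀ : rts t₀ d₀ = ∅) (f : SL(2, F) → ℂ) (c : torS h₀) : ℂ :=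
  if Scal ((c : SL(2, F)) : Mat) then
    2 * (qC - 1) * f c -
      2 * (qC + 1) * ∑ b : Fˣ, f ((c : SL(2, F)) * parSL 1 (b : F) (one_pow 2))
  else -(2 * qC * (qC - 1) * f c)

theorem torSum_sg (h₀ : rts t₀ d₀ = ∅) (f : SL(2, F) → ℂ) (r : Sg F) :
    torSum h₀ f (sgT h₀ r) = 2 * (qC - 1) * f (scalSL r.1 (sg_sq r)) -
      2 * (qC + 1) * ∑ b : Fˣ, f (parSL r.1 b (sg_sq r)) := by
  rw [torSum, if_pos (by rw [coe_sgT]; exact scal_scalSL _ _), coe_sgT]
  congr 2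
  refine Fintype.sum_equiv (Equiv.mulLeft (sgU r)) _ _ fun b => congrArg f (Subtype.ext ?_)
  show (scalSL r.1 (sg_sq r) : Mat) * (parSL 1 (b : F) (one_pow 2) : Mat) = _
  rw [coe_scalSL, coe_parSL]
  show _ = !![r.1, ((sgU r * b : Fˣ) : F); 0, r.1]
  ext i j
  fin_cases i <;> fin_cases j <;> simp [sgU]

theorem torSum_reg (h₀ : rts t₀ d₀ = ∅) (f : SL(2, F) → ℂ) {c : torS h₀} (hc : c ∈ regT h₀) :
    torSum h₀ f c = -(2 * qC * (qC - 1) * f c) := if_neg (mem_regT.1 hc)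

theorem sum_mul_piS (h₀ : rts t₀ d₀ = ∅) [Fintype (torS h₀)] (f : SL(2, F) → ℂ)
    (hf : ∀ a b, IsConj a b → f a = f b) (ψ : torS h₀ →* ℂˣ) :
    2 * ∑ g, f g * conj (piS h₀ ψ g) = ∑ c, torSum h₀ f c * conj (ψ c : ℂ) := by
  rw [sum_SL2 h₀ (fun g => f g * conj (piS h₀ ψ g))
    (fun a b h => by rw [hf a b h, piS_isClassFunction h₀ ψ h]), sum_torS_split h₀]
  have e1 : ∀ r : Sg F, ∑ b : Fˣ, f (parSL r.1 b (sg_sq r)) * conj (piS h₀ ψ (parSL r.1 b (sg_sq r)))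
      = -((∑ b : Fˣ, f (parSL r.1 b (sg_sq r))) * conj (ψ (sgT h₀ r) : ℂ)) := fun r => by
    rw [Finset.sum_mul, ← Finset.sum_neg_distrib]
    exact Finset.sum_congr rfl fun b _ => by rw [piS_par h₀ ψ r b.ne_zero, map_neg, mul_neg]
  have e2 : ∑ a ∈ regU F, f (diagSL a) * conj (piS h₀ ψ (diagSL a)) = 0 :=
    Finset.sum_eq_zero fun a ha => by rw [piS_diag h₀ ψ (mem_regU.1 ha), map_zero, mul_zero]
  have e3 : ∑ c ∈ regT h₀, f c * conj (piS h₀ ψ c) =
      -(2 * ∑ c ∈ regT h₀, f c * conj (ψ c : ℂ)) := by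
    have e4 : ∑ c ∈ regT h₀, f c * conj (((ψ c)⁻¹ : ℂˣ) : ℂ) = ∑ c ∈ regT h₀, f c * conj (ψ c : ℂ) := by
      have hinv : ∀ c ∈ regT h₀, c⁻¹ ∈ regT h₀ := fun c hc => mem_regT.2 fun hs => by
        refine mem_regT.1 hc ?_
        rw [Subgroup.coe_inv, Matrix.SpecialLinearGroup.coe_inv, Matrix.adjugate_fin_two] at hs
        obtain ⟨a, b, e⟩ := hs
        simp at a b e
        exact ⟨a, b, e.symm⟩
      refine Finset.sum_bij (fun c _ => c⁻¹) hinv (fun a _ b _ h => inv_injective h)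
        (fun c hc => ⟨c⁻¹, hinv c hc, inv_inv c⟩) (fun c hc => ?_)
      rw [map_inv]
      congr 1
      exact hf _ _ (sl_isConj_of_trace (mem_regT.1 hc) (mem_regT.1 (hinv c hc))
        (by rw [Subgroup.coe_inv, trace_inv_sl]) (Or.inl (dsc_torS h₀ (mem_regT.1 hc))))
    rw [two_mul]
    nth_rewrite 2 [← e4]
    rw [← Finset.sum_add_distrib, ← Finset.sum_neg_distrib]
    exact Finset.sum_congr rfl fun c hc => by
      rw [piS_tor h₀ ψ (mem_regT.1 hc), map_neg, map_add]; ring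
  have e5 : ∀ r : Sg F, torSum h₀ f (sgT h₀ r) * conj (ψ (sgT h₀ r) : ℂ) =
      2 * (f (scalSL r.1 (sg_sq r)) * conj (piS h₀ ψ (scalSL r.1 (sg_sq r)))) -
      2 * (qC + 1) * ((∑ b : Fˣ, f (parSL r.1 b (sg_sq r))) * conj (ψ (sgT h₀ r) : ℂ)) := fun r => by
    rw [torSum_sg, piS_scal, map_mul, map_sub, Complex.conj_natCast, map_one]; ring
  rw [Finset.sum_congr rfl fun r (_ : r ∈ (Finset.univ : Finset (Sg F))) => e5 r, Finset.sum_congr rfl fun r (_ : r ∈ (Finset.univ : Finset (Sg F))) => e1 r, e2, e3,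
    Finset.sum_congr rfl fun c (hc : c ∈ regT h₀) => congrArg (· * conj (ψ c : ℂ)) (torSum_reg h₀ f hc)]
  simp only [Finset.sum_sub_distrib, Finset.sum_neg_distrib, ← Finset.mul_sum, neg_mul, mul_assoc]
  ring

theorem cast_card_SL_ne : (Nat.card SL(2, F) : ℂ) ≠ 0 := Nat.cast_ne_zero.2 Nat.card_pos.ne'

open _root_.Classical in
theorem classInner_piS (h₀ : rts t₀ d₀ = ∅) (φ ψ : torS h₀ →* ℂˣ) :
    Cfsg.classInner (piS h₀ φ) (piS h₀ ψ) =
      (if φ = ψ then 1 else 0) + (if φ⁻¹ = ψ then 1 else 0) := by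
  have key := sum_mul_piS h₀ (piS h₀ φ) (fun a b => piS_isClassFunction h₀ φ) ψ
  have e : ∀ c : torS h₀, torSum h₀ (piS h₀ φ) c * conj (ψ c : ℂ) =
      2 * qC * (qC - 1) * ((φ c : ℂ) * conj (ψ c : ℂ) + (φ⁻¹ c : ℂ) * conj (ψ c : ℂ)) := by
    intro c
    by_cases hc : Scal ((c : SL(2, F)) : Mat)
    · have h1 := sl_det (c : SL(2, F))
      rw [scal_eq hc] at h1
      obtain ⟨r, rfl⟩ : ∃ r : Sg F, sgT h₀ r = c :=
        ⟨⟨((c : SL(2, F)) : Mat) 0 0, mem_signs.2 (by simpa using h1)⟩,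
          Subtype.ext (Subtype.ext (scal_eq hc).symm)⟩
      have hi : (sgT h₀ r)⁻¹ = sgT h₀ r := by
        refine inv_eq_of_mul_eq_one_right (Subtype.ext (Subtype.ext ?_))
        show (r.1 • (1 : Mat)) * (r.1 • (1 : Mat)) = 1
        rw [smul_mul_smul_comm, ← sq r.1, sg_sq r, one_smul, one_mul]
      have hsum : ∑ b : Fˣ, piS h₀ φ (parSL r.1 b (sg_sq r)) = (qC - 1) * (-(φ (sgT h₀ r) : ℂ)) := by
        rw [Finset.sum_congr rfl fun (b : Fˣ) _ => piS_par h₀ φ r b.ne_zero, Finset.sum_const,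
          Finset.card_univ, Fintype.card_units, nsmul_eq_mul, Nat.cast_sub Fintype.card_pos,
          Nat.cast_one]
      rw [MonoidHom.inv_apply, ← map_inv, hi, torSum_sg, hsum, piS_scal]
      ring
    · rw [torSum_reg h₀ _ (mem_regT.2 hc), piS_tor h₀ φ hc, MonoidHom.inv_apply]
      ring
  rw [Finset.sum_congr rfl fun c _ => e c, ← Finset.mul_sum, Finset.sum_add_distrib, sum_hom,
    sum_hom, card_torS] at key
  rw [Cfsg.classInner, inv_mul_eq_iff_eq_mul₀ cast_card_SL_ne, cast_card_SL]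
  refine mul_left_cancel₀ (two_ne_zero (α := ℂ)) (key.trans ?_)
  split_ifs <;> push_cast <;> ring

theorem classInner_piS_indS (h₀ : rts t₀ d₀ = ∅) (ψ : torS h₀ →* ℂˣ) (α : MulChar F ℂ) :
    Cfsg.classInner (piS h₀ ψ) (indS α) = 0 := by
  have hf := fun a b => piS_isClassFunction h₀ ψ (a := a) (b := b)
  rw [classInner_indS_eq _ hf, Finset.sum_eq_zero (fun a _ => ?_), mul_zero]
  by_cases ha : (a : F) ^ 2 = 1
  · rw [show a = sgU ⟨(a : F), mem_signs.2 ha⟩ from Units.ext rfl]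
    rw [borelSum_sg, piS_scal, Finset.sum_congr rfl fun (b : Fˣ) _ => piS_par h₀ ψ _ b.ne_zero,
      Finset.sum_const, Finset.card_univ, Fintype.card_units, nsmul_eq_mul,
      Nat.cast_sub Fintype.card_pos, Nat.cast_one]
    ring
  · rw [borelSum_reg _ hf ha, piS_diag h₀ ψ ha, mul_zero, zero_mul]

theorem isCharacter_piS (h₀ : rts t₀ d₀ = ∅) {ψ : torS h₀ →* ℂˣ} (hψ : ψ ≠ 1) :
    Cfsg.IsCharacter SL(2, F) (piS h₀ ψ) := by
  have hθ : extT h₀ ψ ≠ (extT h₀ ψ).comp (barT h₀) := fun h => hψ <| by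
    obtain ⟨α, hα⟩ := (fixed_hom_iff h₀ _).1 h
    ext c
    have e := extT_spec h₀ ψ c
    rw [hα, MonoidHom.comp_apply, show detT h₀ (toT h₀ c) = 1 from Units.ext (by
      rw [coe_detT, coe_toT]; exact sl_det _), map_one] at e
    rw [← e]
    rfl
  exact CfsgLib.Char.IsCharacter.comp
    (CfsgLib.Char.IsIrrCharacter.isCharacter (isIrr_piG h₀ hθ)) Matrix.SpecialLinearGroup.toGL

theorem piS_apply_one (h₀ : rts t₀ d₀ = ∅) (ψ : torS h₀ →* ℂˣ) : piS h₀ ψ 1 = qC - 1 := by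
  rw [piS, map_one, piG_one]

theorem isIrr_piS (h₀ : rts t₀ d₀ = ∅) {ψ : torS h₀ →* ℂˣ} (hψ : ψ ^ 2 ≠ 1) :
    Cfsg.IsIrrCharacter SL(2, F) (piS h₀ ψ) := by
  classical
  have h1 : ψ ≠ 1 := fun h => hψ (by rw [h]; ext c; simp)
  have h2 : ψ⁻¹ ≠ ψ := fun h => hψ (by rw [sq]; nth_rewrite 1 [← h]; exact inv_mul_cancel ψ)
  refine CfsgLib.Char.IsCharacter.isIrrCharacter_of_norm_one (isCharacter_piS h₀ h1) ?_
  rw [classInner_piS, if_pos rfl, if_neg h2, add_zero]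

theorem stS_apply_one : stS F 1 = qC := by
  have h := indS_scal (1 : MulChar F ℂ) (g := 1) (by simp [Scal])
  rw [stS, Pi.sub_apply, h]
  simp

theorem classInner_indS_one (α : MulChar F ℂ) [Decidable (α = 1)] :
    Cfsg.classInner (indS α) (fun _ => (1 : ℂ)) = if α = 1 then 1 else 0 := by
  classical
  rw [show indS α = Cfsg.indFun _ (thetaS α) from rfl,
    CfsgLib.Char.classInner_indFun _ _ (fun g x => rfl), Cfsg.classInner,
    ← Nat.card_congr borelEquivS, ← borelEquivS.sum_comp, Fintype.sum_prod_type]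
  have h : ∀ a : Fˣ, ∑ z : F, thetaS α (borelEquivS (a, z)) * conj (1 : ℂ) =
      qC * (α (a : F) * conj ((1 : MulChar F ℂ) (a : F))) := fun a => by
    simp [thetaS, coe_borelEquivS, MulChar.one_apply]
  rw [Finset.sum_congr rfl fun a _ => h a, ← Finset.mul_sum, sum_units_char, Nat.card_prod,
    Nat.card_units, Nat.card_eq_fintype_card, Nat.cast_mul, Nat.cast_sub Fintype.card_pos,
    Nat.cast_one]
  have hq0 : qC ≠ 0 := by exact_mod_cast Fintype.card_ne_zero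
  have hq1 : qC - 1 ≠ 0 := by
    rw [sub_ne_zero]; exact_mod_cast (Fintype.one_lt_card : 1 < Fintype.card F).ne'
  split_ifs with h1
  · field_simp
  · simp

theorem isIrr_stS : Cfsg.IsIrrCharacter SL(2, F) (stS F) := by
  classical
  refine isIrr_of_norm_one (CfsgLib.Char.IsGeneralizedCharacter.sub
    (CfsgLib.Char.IsCharacter.isGeneralizedCharacter (isCharacter_indS 1))
    (CfsgLib.Char.IsCharacter.isGeneralizedCharacter CfsgLib.Char.isCharacter_one))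
    ?_ (n := Fintype.card F) stS_apply_one
  rw [stS, CfsgLib.Char.classInner_sub_left, CfsgLib.Char.classInner_sub_right,
    CfsgLib.Char.classInner_sub_right, classInner_indS, classInner_indS_one,
    CfsgLib.Char.classInner_irr_self CfsgLib.Char.isIrrCharacter_one,
    ← CfsgLib.Char.classInner_conj_symm (indS 1), classInner_indS_one]
  simp

/-- A class function orthogonal to both series lives on the classes `±` non-trivial unipotent. -/
theorem vanish_of_orth (h₀ : rts t₀ d₀ = ∅) (f : SL(2, F) → ℂ)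
    (hf : ∀ a b, IsConj a b → f a = f b) (hI : ∀ α, Cfsg.classInner f (indS α) = 0)
    (hP : ∀ ψ, Cfsg.classInner f (piS h₀ ψ) = 0) :
    (∀ a : Fˣ, (a : F) ^ 2 ≠ 1 → f (diagSL a) = 0) ∧
    (∀ c : torS h₀, ¬ Scal ((c : SL(2, F)) : Mat) → f c = 0) ∧
    ∀ r : Sg F, f (scalSL r.1 (sg_sq r)) = 0 ∧ ∑ b : Fˣ, f (parSL r.1 b (sg_sq r)) = 0 := by
  classical
  have hq0 : qC ≠ 0 := by exact_mod_cast Fintype.card_ne_zero
  have hq1 : qC - 1 ≠ 0 := by
    rw [sub_ne_zero]; exact_mod_cast (Fintype.one_lt_card : 1 < Fintype.card F).ne'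
  have hB : borelSum f = 0 := eq_zero_of_forall_hom _ fun φ => by
    have := hI (MulChar.ofUnitHom φ)
    rw [classInner_indS_eq f hf, mul_eq_zero] at this
    simpa [MulChar.ofUnitHom_coe] using this.resolve_left (inv_ne_zero (mul_ne_zero hq1 hq0))
  have hT : torSum h₀ f = 0 := eq_zero_of_forall_hom _ fun ψ => by
    have := hP ψ
    rw [Cfsg.classInner, mul_eq_zero] at this
    rw [← sum_mul_piS h₀ f hf ψ, this.resolve_left (inv_ne_zero cast_card_SL_ne), mul_zero]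
  refine ⟨fun a ha => ?_, fun c hc => ?_, fun r => ?_⟩
  · have := congrFun hB a
    rw [borelSum_reg f hf ha] at this
    exact (mul_eq_zero.1 this).resolve_left hq0
  · have := congrFun hT c
    rw [torSum_reg h₀ f (mem_regT.2 hc), Pi.zero_apply, neg_eq_zero] at this
    exact (mul_eq_zero.1 this).resolve_left (mul_ne_zero (mul_ne_zero two_ne_zero hq0) hq1)
  · have e1 := congrFun hB (sgU r)
    have e2 := congrFun hT (sgT h₀ r)
    rw [borelSum_sg] at e1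
    rw [torSum_sg] at e2
    simp only [Pi.zero_apply] at e1 e2
    have h4 : (4 * qC) * f (scalSL r.1 (sg_sq r)) = 0 := by
      linear_combination e2 + 2 * (qC + 1) * e1
    have h5 := (mul_eq_zero.1 h4).resolve_left (mul_ne_zero (by norm_num) hq0)
    exact ⟨h5, by linear_combination e1 - h5⟩

end CfsgLib.KnownB.GL2
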