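import Cfsg.Agent.Lib.KnownB.GL2.Borel
import Cfsg.Agent.Lib.Char.Linear

/-!
The principal series of `GL₂` and `SL₂`.
-/

set_option autoImplicit false

namespace CfsgLib.KnownB.GL2

open scoped MatrixGroups ComplexConjugate

variable {F : Type*} [Field F] [Fintype F] [DecidableEq F]

local notation "Mat" => Matrix (Fin 2) (Fin 2) F

/-- The inclusion of `GL₂` into the matrices. -/
def glM (F : Type*) [Field F] [DecidableEq F] : GL (Fin 2) F →* Matrix (Fin 2) (Fin 2) F :=
  Units.coeHom _

theorem glM_apply (g : GL (Fin 2) F) : glM F g = (g : Mat) := rfl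

/-- The inclusion of `SL₂` into the matrices. -/
def slM (F : Type*) [Field F] [DecidableEq F] : SL(2, F) →* Matrix (Fin 2) (Fin 2) F where
  toFun g := g
  map_one' := rfl
  map_mul' _ _ := rfl

theorem slM_apply (g : SL(2, F)) : slM F g = (g : Mat) := rfl

theorem slM_trans (v : Fin 2 → F) (hv : v ≠ 0) : ∃ y : SL(2, F), col0 (slM F y) = v := by
  by_cases h : v 0 = 0
  · have h1 : v 1 ≠ 0 := fun h1 => hv (by ext i; fin_cases i <;> simp [h, h1])
    refine ⟨mkSL !![v 0, -(v 1)⁻¹; v 1, 0] (by rw [Matrix.det_fin_two_of]; simp [h1]), ?_⟩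
    ext i; fin_cases i <;> simp [col0, slM_apply]
  · refine ⟨mkSL !![v 0, 0; v 1, (v 0)⁻¹] (by rw [Matrix.det_fin_two_of]; simp [h]), ?_⟩
    ext i; fin_cases i <;> simp [col0, slM_apply]

theorem glM_trans (v : Fin 2 → F) (hv : v ≠ 0) : ∃ y : GL (Fin 2) F, col0 (glM F y) = v := by
  obtain ⟨y, hy⟩ := slM_trans v hv
  exact ⟨Matrix.SpecialLinearGroup.toGL y, hy⟩

/-- The upper triangular subgroup of `SL₂`. -/
abbrev borelS (F : Type*) [Field F] [DecidableEq F] : Subgroup SL(2, F) :=
  (Cfsg.upperTriangularGL 2 F).comap Matrix.SpecialLinearGroup.toGL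

/-- The linear character `(α, β)` of the upper triangular subgroup of `GL₂`. -/
noncomputable def thetaG (α β : MulChar F ℂ) : Cfsg.upperTriangularGL 2 F → ℂ := fun b =>
  α (((b : GL (Fin 2) F) : Mat) 0 0) * β (((b : GL (Fin 2) F) : Mat) 1 1)

/-- The linear character `α` of the upper triangular subgroup of `SL₂`. -/
noncomputable def thetaS (α : MulChar F ℂ) : borelS F → ℂ := fun b =>
  α (((b : SL(2, F)) : Mat) 0 0)

/-- The induced function on `GL₂`. -/
noncomputable def indG (α β : MulChar F ℂ) : GL (Fin 2) F → ℂ :=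
  Cfsg.indFun (Cfsg.upperTriangularGL 2 F) (thetaG α β)

/-- The induced function on `SL₂`. -/
noncomputable def indS (α : MulChar F ℂ) : SL(2, F) → ℂ :=
  Cfsg.indFun (borelS F) (thetaS α)

theorem thetaG_eq (α β : MulChar F ℂ) (b : Cfsg.upperTriangularGL 2 F) :
    thetaG α β b = α (glM F (b : GL (Fin 2) F) 0 0) *
      β ((glM F (b : GL (Fin 2) F)).det / glM F (b : GL (Fin 2) F) 0 0) := by
  have h10 := mem_upperTriangularGL.1 b.2
  have hd : ((b : GL (Fin 2) F) : Mat).det ≠ 0 := (b : GL (Fin 2) F).det_ne_zero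
  rw [thetaG, glM_apply, Matrix.det_fin_two, h10, mul_zero, sub_zero]
  rw [Matrix.det_fin_two, h10, mul_zero, sub_zero] at hd
  rw [mul_div_cancel_left₀ _ (left_ne_zero_of_mul hd)]

theorem indG_scal (α β : MulChar F ℂ) {g : GL (Fin 2) F} (hg : Scal (g : Mat)) :
    indG α β g = ((Fintype.card F : ℂ) + 1) * (α ((g : Mat) 0 0) * β ((g : Mat) 0 0)) := by
  rw [indG, indFun_borel_scal (glM F) glM_trans _ (fun _ => mem_upperTriangularGL) _
    (fun c d => α c * β (d / c)) (thetaG_eq α β) hg, glM_apply]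
  congr 3
  have hd : (g : Mat).det ≠ 0 := g.det_ne_zero
  rw [Matrix.det_fin_two, hg.1, hg.2.1, ← hg.2.2, zero_mul, sub_zero] at hd ⊢
  rw [mul_div_cancel_left₀ _ (left_ne_zero_of_mul hd)]

theorem indG_nonscal (α β : MulChar F ℂ) {g : GL (Fin 2) F} (hg : ¬ Scal (g : Mat)) :
    indG α β g = ∑ c ∈ rts (g : Mat).trace (g : Mat).det, α c * β ((g : Mat).det / c) :=
  indFun_borel_nonscal (glM F) glM_trans _ (fun _ => mem_upperTriangularGL) _
    (fun c d => α c * β (d / c)) (thetaG_eq α β) hg

theorem indS_scal (α : MulChar F ℂ) {g : SL(2, F)} (hg : Scal (g : Mat)) :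
    indS α g = ((Fintype.card F : ℂ) + 1) * α ((g : Mat) 0 0) :=
  indFun_borel_scal (slM F) slM_trans _ (fun _ => mem_borelSL) _ (fun c _ => α c)
    (fun _ => rfl) hg

theorem indS_nonscal (α : MulChar F ℂ) {g : SL(2, F)} (hg : ¬ Scal (g : Mat)) :
    indS α g = ∑ c ∈ rts (g : Mat).trace 1, α c := by
  have := indFun_borel_nonscal (slM F) slM_trans _ (fun _ => mem_borelSL) (thetaS α)
    (fun c _ => α c) (fun _ => rfl) hg
  rw [slM_apply, sl_det] at this
  exact this

/-- The value on a triangular element, summed over the corner entry. -/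
theorem sum_corner (α β : MulChar F ℂ) (a d : Fˣ) (m : F → GL (Fin 2) F)
    (hm : ∀ z, (m z : Mat) = !![(a : F), z; 0, (d : F)]) :
    ∑ z, indG α β (m z) =
      (Fintype.card F : ℂ) * (α a * β d + α d * β a) := by
  classical
  have hval : ∀ z, ¬ Scal (m z : Mat) →
      indG α β (m z) = ∑ c ∈ ({(a : F), (d : F)} : Finset F), α c * β ((a : F) * d / c) := by
    intro z hz
    rw [indG_nonscal α β hz, hm, Matrix.trace_fin_two_of, Matrix.det_fin_two_of, mul_zero, sub_zero,
      rts_split]
  by_cases had : (a : F) = d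
  · have hz : ∀ z ∈ (Finset.univ : Finset F).erase 0, indG α β (m z) = α a * β a := fun z hz => by
      rw [hval z fun hs => (Finset.mem_erase.1 hz).1 (by simpa [hm] using hs.1), ← had,
        Finset.pair_eq_singleton, Finset.sum_singleton, mul_div_cancel_left₀ _ a.ne_zero]
    have h0 : Scal (m 0 : Mat) := by rw [hm]; exact ⟨by simp, by simp, by simp [had]⟩
    rw [← Finset.sum_erase_add _ _ (Finset.mem_univ (0 : F)), Finset.sum_congr rfl hz,
      Finset.sum_const, Finset.card_erase_of_mem (Finset.mem_univ _), Finset.card_univ,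
      indG_scal α β h0, hm, nsmul_eq_mul, Nat.cast_sub Fintype.card_pos, Nat.cast_one]
    simp [← had]
    ring
  · rw [Finset.sum_congr rfl fun z _ => hval z fun hs => had (by simpa [hm] using hs.2.2),
      Finset.sum_const, Finset.card_univ, nsmul_eq_mul, Finset.sum_pair had,
      mul_div_cancel_left₀ _ a.ne_zero, mul_div_cancel_right₀ _ d.ne_zero]

theorem sum_corner_SL (α : MulChar F ℂ) (a : Fˣ) (m : F → SL(2, F))
    (hm : ∀ z, (m z : Mat) = !![(a : F), z; 0, (a : F)⁻¹]) :
    ∑ z, indS α (m z) = (Fintype.card F : ℂ) * (α a + α ((a : F)⁻¹)) := by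
  classical
  have hval : ∀ z, ¬ Scal (m z : Mat) →
      indS α (m z) = ∑ c ∈ ({(a : F), (a : F)⁻¹} : Finset F), α c := by
    intro z hz
    rw [indS_nonscal α hz, hm, Matrix.trace_fin_two_of]
    conv_lhs => rw [← mul_inv_cancel₀ a.ne_zero, rts_split]
  by_cases had : (a : F) = (a : F)⁻¹
  · have hz : ∀ z ∈ (Finset.univ : Finset F).erase 0, indS α (m z) = α a := fun z hz => by
      rw [hval z fun hs => (Finset.mem_erase.1 hz).1 (by simpa [hm] using hs.1), ← had,
        Finset.pair_eq_singleton, Finset.sum_singleton]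
    have h0 : Scal (m 0 : Mat) := by rw [hm]; exact ⟨by simp, by simp, by simpa using had⟩
    rw [← Finset.sum_erase_add _ _ (Finset.mem_univ (0 : F)), Finset.sum_congr rfl hz,
      Finset.sum_const, Finset.card_erase_of_mem (Finset.mem_univ _), Finset.card_univ,
      indS_scal α h0, hm, nsmul_eq_mul, Nat.cast_sub Fintype.card_pos, Nat.cast_one, ← had]
    simp
    ring
  · rw [Finset.sum_congr rfl fun z _ => hval z fun hs => had (by simpa [hm] using hs.2.2),
      Finset.sum_const, Finset.card_univ, nsmul_eq_mul, Finset.sum_pair had]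

/-- Orthogonality of multiplicative characters. -/
theorem sum_units_char (χ ψ : MulChar F ℂ) [Decidable (χ = ψ)] :
    ∑ a : Fˣ, χ a * conj (ψ a) = if χ = ψ then (Fintype.card F : ℂ) - 1 else 0 := by
  classical
  have h : ∑ x : F, (χ * ψ⁻¹) x = ∑ a : Fˣ, χ a * conj (ψ a) := by
    rw [← Finset.sum_erase_add _ _ (Finset.mem_univ (0 : F)), MulChar.map_zero, add_zero]
    refine Finset.sum_bij' (fun x hx => Units.mk0 x (Finset.mem_erase.1 hx).1)
      (fun a _ => (a : F)) (fun _ _ => Finset.mem_univ _)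
      (fun a _ => Finset.mem_erase.2 ⟨a.ne_zero, Finset.mem_univ _⟩) (fun _ _ => rfl)
      (fun a _ => Units.ext rfl) (fun x hx => ?_)
    rw [Units.val_mk0, starRingEnd_apply, MulChar.star_apply', MulChar.mul_apply]
  rw [← h]
  split_ifs with he
  · subst he
    rw [mul_inv_cancel, MulChar.sum_one_eq_card_units, Fintype.card_units,
      Nat.cast_sub Fintype.card_pos, Nat.cast_one]
  · exact MulChar.sum_eq_zero_of_ne_one (fun h1 => he (mul_inv_eq_one.1 h1))

/-- The upper triangular subgroup in coordinates. -/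
noncomputable def borelEquiv : (Fˣ × Fˣ) × F ≃ Cfsg.upperTriangularGL 2 F where
  toFun p := ⟨Matrix.GeneralLinearGroup.mkOfDetNeZero !![(p.1.1 : F), p.2; 0, (p.1.2 : F)]
    (by simp [Matrix.det_fin_two_of]), mem_upperTriangularGL.2 (by
      simp [Matrix.GeneralLinearGroup.mkOfDetNeZero])⟩
  invFun b := ((Units.mk0 (((b : GL (Fin 2) F) : Mat) 0 0) (by
      have h := (b : GL (Fin 2) F).det_ne_zero
      rw [Matrix.det_fin_two, mem_upperTriangularGL.1 b.2, mul_zero, sub_zero] at h
      exact left_ne_zero_of_mul h),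
    Units.mk0 (((b : GL (Fin 2) F) : Mat) 1 1) (by
      have h := (b : GL (Fin 2) F).det_ne_zero
      rw [Matrix.det_fin_two, mem_upperTriangularGL.1 b.2, mul_zero, sub_zero] at h
      exact right_ne_zero_of_mul h)), ((b : GL (Fin 2) F) : Mat) 0 1)
  left_inv p := by
    refine Prod.ext (Prod.ext (Units.ext ?_) (Units.ext ?_)) ?_ <;>
      simp [Matrix.GeneralLinearGroup.mkOfDetNeZero]
  right_inv b := by
    refine Subtype.ext (Units.ext ?_)
    ext i j
    fin_cases i <;> fin_cases j <;>
      simp [Matrix.GeneralLinearGroup.mkOfDetNeZero, mem_upperTriangularGL.1 b.2]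

theorem coe_borelEquiv (p : (Fˣ × Fˣ) × F) :
    ((borelEquiv p : GL (Fin 2) F) : Mat) = !![(p.1.1 : F), p.2; 0, (p.1.2 : F)] := rfl

/-- The upper triangular subgroup of `SL₂` in coordinates. -/
noncomputable def borelEquivS : Fˣ × F ≃ borelS F where
  toFun p := ⟨mkSL !![(p.1 : F), p.2; 0, (p.1 : F)⁻¹] (by simp [Matrix.det_fin_two_of]),
    mem_borelSL.2 (by simp)⟩
  invFun b := (Units.mk0 (((b : SL(2, F)) : Mat) 0 0) (by
      have h := sl_det (b : SL(2, F))
      rw [Matrix.det_fin_two, mem_borelSL.1 b.2, mul_zero, sub_zero] at h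
      exact left_ne_zero_of_mul_eq_one h), ((b : SL(2, F)) : Mat) 0 1)
  left_inv p := by refine Prod.ext (Units.ext ?_) ?_ <;> simp
  right_inv b := by
    refine Subtype.ext (Subtype.ext ?_)
    have h := sl_det (b : SL(2, F))
    rw [Matrix.det_fin_two, mem_borelSL.1 b.2, mul_zero, sub_zero] at h
    show !![_, _; 0, _] = ((b : SL(2, F)) : Mat)
    ext i j
    fin_cases i <;> fin_cases j <;> simp [mem_borelSL.1 b.2]
    exact (eq_inv_of_mul_eq_one_right h).symm

theorem coe_borelEquivS (p : Fˣ × F) :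
    ((borelEquivS p : SL(2, F)) : Mat) = !![(p.1 : F), p.2; 0, (p.1 : F)⁻¹] := rfl

open _root_.Classical in
/-- The inner product of two principal series characters of `GL₂`. -/
theorem classInner_indG (α β α' β' : MulChar F ℂ) :
    Cfsg.classInner (indG α β) (indG α' β') =
      (if α = α' ∧ β = β' then 1 else 0) + (if α = β' ∧ β = α' then 1 else 0) := by
  have hcl : Cfsg.IsClassFunction _ (indG α' β') := CfsgLib.Char.indFun_isClassFunction _ _
  rw [show indG α β = Cfsg.indFun _ (thetaG α β) from rfl, CfsgLib.Char.classInner_indFun _ _ hcl,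
    Cfsg.classInner, ← Nat.card_congr borelEquiv, ← borelEquiv.sum_comp, Fintype.sum_prod_type]
  have h : ∀ p : Fˣ × Fˣ, ∑ z : F, thetaG α β (borelEquiv (p, z)) *
      conj (indG α' β' (borelEquiv (p, z) : GL (Fin 2) F)) = (Fintype.card F : ℂ) *
        ((α p.1 * conj (α' p.1)) * (β p.2 * conj (β' p.2)) +
          (α p.1 * conj (β' p.1)) * (β p.2 * conj (α' p.2))) := by
    intro p
    simp only [thetaG, coe_borelEquiv, Matrix.of_apply, Matrix.cons_val', Matrix.cons_val_zero,
      Matrix.cons_val_one, Matrix.cons_val_fin_one]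
    rw [← Finset.mul_sum, ← map_sum, sum_corner α' β' p.1 p.2 _ (fun z => coe_borelEquiv (p, z))]
    simp only [map_mul, map_add, Complex.conj_natCast]
    ring
  change (Nat.card ((Fˣ × Fˣ) × F) : ℂ)⁻¹ * ∑ p : Fˣ × Fˣ, ∑ z : F, thetaG α β (borelEquiv (p, z)) *
    conj (indG α' β' (borelEquiv (p, z) : GL (Fin 2) F)) = _
  rw [Finset.sum_congr rfl fun p _ => h p, ← Finset.mul_sum, Finset.sum_add_distrib,
    Fintype.sum_prod_type, Fintype.sum_prod_type]
  simp only [← Finset.mul_sum, ← Finset.sum_mul, sum_units_char]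
  have hq0 : (Fintype.card F : ℂ) ≠ 0 := by exact_mod_cast Fintype.card_ne_zero
  have hq1 : (Fintype.card F : ℂ) - 1 ≠ 0 := by
    rw [sub_ne_zero]; exact_mod_cast (Fintype.one_lt_card : 1 < Fintype.card F).ne'
  simp only [Nat.card_prod, Nat.card_units, Nat.card_eq_fintype_card (α := F), Nat.cast_mul,
    Nat.cast_sub (Fintype.card_pos : 1 ≤ Fintype.card F), Nat.cast_one]
  have hi : ∀ (P Q : Prop) [Decidable P] [Decidable Q] (c : ℂ),
      (if P then c else 0) * (if Q then c else 0) = c * c * (if P ∧ Q then 1 else 0) := by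
    intro P Q _ _ c
    by_cases hP : P <;> by_cases hQ : Q <;> simp [hP, hQ]
  rw [hi, hi]
  field_simp

open _root_.Classical in
/-- The inner product of two principal series characters of `SL₂`. -/
theorem classInner_indS (α β : MulChar F ℂ) :
    Cfsg.classInner (indS α) (indS β) =
      (if α = β then 1 else 0) + (if α = β⁻¹ then 1 else 0) := by
  have hcl : Cfsg.IsClassFunction _ (indS β) := CfsgLib.Char.indFun_isClassFunction _ _
  rw [show indS α = Cfsg.indFun _ (thetaS α) from rfl, CfsgLib.Char.classInner_indFun _ _ hcl,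
    Cfsg.classInner, ← Nat.card_congr borelEquivS, ← borelEquivS.sum_comp, Fintype.sum_prod_type]
  have h : ∀ a : Fˣ, ∑ z : F, thetaS α (borelEquivS (a, z)) *
      conj (indS β (borelEquivS (a, z) : SL(2, F))) = (Fintype.card F : ℂ) *
        (α a * conj (β a) + α a * conj ((β⁻¹ : MulChar F ℂ) a)) := by
    intro a
    simp only [thetaS, coe_borelEquivS, Matrix.of_apply, Matrix.cons_val', Matrix.cons_val_zero,
      Matrix.cons_val_fin_one]
    rw [← Finset.mul_sum, ← map_sum, sum_corner_SL β a _ (fun z => coe_borelEquivS (a, z))]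
    simp only [map_add, map_mul, MulChar.inv_apply', Complex.conj_natCast]
    ring
  change (Nat.card (Fˣ × F) : ℂ)⁻¹ * ∑ a : Fˣ, ∑ z : F, thetaS α (borelEquivS (a, z)) *
    conj (indS β (borelEquivS (a, z) : SL(2, F))) = _
  rw [Finset.sum_congr rfl fun a _ => h a, ← Finset.mul_sum, Finset.sum_add_distrib,
    sum_units_char, sum_units_char]
  have hq0 : (Fintype.card F : ℂ) ≠ 0 := by exact_mod_cast Fintype.card_ne_zero
  have hq1 : (Fintype.card F : ℂ) - 1 ≠ 0 := by
    rw [sub_ne_zero]; exact_mod_cast (Fintype.one_lt_card : 1 < Fintype.card F).ne'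
  simp only [Nat.card_prod, Nat.card_units, Nat.card_eq_fintype_card (α := F), Nat.cast_mul,
    Nat.cast_sub (Fintype.card_pos : 1 ≤ Fintype.card F), Nat.cast_one]
  have hj : ∀ (P : Prop) [Decidable P] (c : ℂ),
      (if P then c else 0) = c * (if P then 1 else 0) := by
    intro P _ c
    by_cases hP : P <;> simp [hP]
  rw [hj, hj (α = β⁻¹)]
  field_simp

theorem isCharacter_indG (α β : MulChar F ℂ) : Cfsg.IsCharacter (GL (Fin 2) F) (indG α β) := by
  refine CfsgLib.Char.IsCharacter.indFun _ ?_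
  let φ : Cfsg.upperTriangularGL 2 F →* ℂˣ :=
    MonoidHom.toHomUnits
      { toFun := thetaG α β
        map_one' := by simp [thetaG]
        map_mul' := fun x y => by
          have hx := mem_upperTriangularGL.1 x.2
          have hy := mem_upperTriangularGL.1 y.2
          simp only [thetaG, Subgroup.coe_mul, Units.val_mul, Matrix.mul_apply, Fin.sum_univ_two,
            hx, hy, mul_zero, zero_mul, add_zero, zero_add, map_mul]
          ring }
  exact CfsgLib.Char.isCharacter_hom φ

theorem isCharacter_indS (α : MulChar F ℂ) : Cfsg.IsCharacter SL(2, F) (indS α) := by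
  refine CfsgLib.Char.IsCharacter.indFun _ ?_
  let φ : borelS F →* ℂˣ :=
    MonoidHom.toHomUnits
      { toFun := thetaS α
        map_one' := by simp [thetaS]
        map_mul' := fun x y => by
          have hy := mem_borelSL.1 y.2
          simp only [thetaS, Subgroup.coe_mul, Matrix.SpecialLinearGroup.coe_mul, Matrix.mul_apply,
            Fin.sum_univ_two, hy, mul_zero, add_zero, map_mul] }
  exact CfsgLib.Char.isCharacter_hom φ

end CfsgLib.KnownB.GL2
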