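import Cfsg.Agent.Lib.KnownB.GL2.TableGL

/-!
Statements read off the character table of `GL₂`.
-/

set_option autoImplicit false

namespace CfsgLib.KnownB.GL2

open scoped MatrixGroups

variable {F : Type*} [Field F] [Fintype F] [DecidableEq F]

local notation "Mat" => Matrix (Fin 2) (Fin 2) F
local notation "qC" => (Fintype.card F : ℂ)

theorem card_irr_subtype {G : Type*} [Group G] (P : (G → ℂ) → Prop) (S : Finset (G → ℂ))
    (h : ∀ χ, Cfsg.IsIrrCharacter G χ ∧ P χ ↔ χ ∈ S) :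
    Nat.card {χ : Cfsg.IrrCharacter G // P (χ : G → ℂ)} = S.card := by
  rw [← Nat.card_eq_finsetCard]
  exact Nat.card_congr
    { toFun := fun x => ⟨x.1.1, (h _).1 ⟨x.1.2, x.2⟩⟩
      invFun := fun x => ⟨⟨x.1, ((h _).2 x.2).1⟩, ((h _).2 x.2).2⟩
      left_inv := fun _ => rfl
      right_inv := fun _ => rfl }

theorem degrees_GL :
    (∀ χ : GL (Fin 2) F → ℂ, Cfsg.IsIrrCharacter (GL (Fin 2) F) χ →
      χ 1 = 1 ∨ χ 1 = qC - 1 ∨ χ 1 = qC ∨ χ 1 = qC + 1) ∧
    (3 ≤ Fintype.card F →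
      Nat.card {χ : Cfsg.IrrCharacter (GL (Fin 2) F) // (χ : GL (Fin 2) F → ℂ) 1 = 1} =
          Fintype.card F - 1 ∧
      Nat.card {χ : Cfsg.IrrCharacter (GL (Fin 2) F) // (χ : GL (Fin 2) F → ℂ) 1 = qC} =
          Fintype.card F - 1 ∧
      Nat.card {χ : Cfsg.IrrCharacter (GL (Fin 2) F) // (χ : GL (Fin 2) F → ℂ) 1 = qC + 1} =
          (Fintype.card F - 1) * (Fintype.card F - 2) / 2 ∧
      Nat.card {χ : Cfsg.IrrCharacter (GL (Fin 2) F) // (χ : GL (Fin 2) F → ℂ) 1 = qC - 1} =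
          Fintype.card F * (Fintype.card F - 1) / 2) := by
  classical
  obtain ⟨t₀, d₀, -, h₀⟩ := exists_irreducible (F := F)
  refine ⟨fun χ hχ => ?_, fun hq => ?_⟩
  · rcases irr_GL_cases h₀ hχ with ⟨α, rfl⟩ | ⟨α, rfl⟩ | ⟨α, β, -, rfl⟩ | ⟨θ, -, rfl⟩
    · exact Or.inl (linG_at_one α)
    · exact Or.inr (Or.inr (Or.inl (stG_one α)))
    · exact Or.inr (Or.inr (Or.inr (indG_at_one α β)))
    · exact Or.inr (Or.inl (piG_one h₀ θ))
  · have e0 : qC ≠ 0 := by exact_mod_cast Fintype.card_ne_zero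
    have e1 : qC ≠ 1 := by exact_mod_cast (by omega : Fintype.card F ≠ 1)
    have e2 : qC ≠ 2 := by exact_mod_cast (by omega : Fintype.card F ≠ 2)
    refine ⟨?_, ?_, ?_, ?_⟩
    · rw [card_irr_subtype (fun f : GL (Fin 2) F → ℂ => f 1 = 1) (linSet F) fun χ => ⟨fun h => ?_,
        fun h => ?_⟩, card_linSet]
      · rcases irr_GL_cases h₀ h.1 with ⟨α, rfl⟩ | ⟨α, rfl⟩ | ⟨α, β, -, rfl⟩ | ⟨θ, -, rfl⟩
        · exact mem_linSet.2 ⟨α, rfl⟩
        · exact absurd ((stG_one α).symm.trans h.2) e1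
        · exact absurd ((indG_at_one α β).symm.trans h.2) fun h => e0 (by linear_combination h)
        · exact absurd ((piG_one h₀ θ).symm.trans h.2) fun h => e2 (by linear_combination h)
      · obtain ⟨α, rfl⟩ := mem_linSet.1 h
        exact ⟨isIrr_linG α, linG_at_one α⟩
    · rw [card_irr_subtype (fun f : GL (Fin 2) F → ℂ => f 1 = qC) (stSet F) fun χ => ⟨fun h => ?_,
        fun h => ?_⟩, card_stSet]
      · rcases irr_GL_cases h₀ h.1 with ⟨α, rfl⟩ | ⟨α, rfl⟩ | ⟨α, β, -, rfl⟩ | ⟨θ, -, rfl⟩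
        · exact absurd ((linG_at_one α).symm.trans h.2) e1.symm
        · exact mem_stSet.2 ⟨α, rfl⟩
        · exact absurd ((indG_at_one α β).symm.trans h.2) fun h => by simp at h
        · exact absurd ((piG_one h₀ θ).symm.trans h.2) fun h => by simp at h
      · obtain ⟨α, rfl⟩ := mem_stSet.1 h
        exact ⟨isIrr_stG α, stG_one α⟩
    · rw [card_irr_subtype (fun f : GL (Fin 2) F → ℂ => f 1 = qC + 1) (prSet F) fun χ =>
        ⟨fun h => ?_, fun h => ?_⟩, ← card_prSet, Nat.mul_div_cancel_left _ two_pos]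
      · rcases irr_GL_cases h₀ h.1 with ⟨α, rfl⟩ | ⟨α, rfl⟩ | ⟨α, β, hab, rfl⟩ | ⟨θ, -, rfl⟩
        · exact absurd ((linG_at_one α).symm.trans h.2) fun h => e0 (by linear_combination -h)
        · exact absurd ((stG_one α).symm.trans h.2) fun h => by simp at h
        · exact mem_prSet.2 ⟨α, β, hab, rfl⟩
        · exact absurd ((piG_one h₀ θ).symm.trans h.2) fun h => by
            exact two_ne_zero (α := ℂ) (by linear_combination -h)
      · obtain ⟨α, β, hab, rfl⟩ := mem_prSet.1 h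
        exact ⟨isIrr_indG hab, indG_at_one α β⟩
    · rw [card_irr_subtype (fun f : GL (Fin 2) F → ℂ => f 1 = qC - 1) (cuSet h₀) fun χ =>
        ⟨fun h => ?_, fun h => ?_⟩, ← card_cuSet h₀, Nat.mul_div_cancel_left _ two_pos]
      · rcases irr_GL_cases h₀ h.1 with ⟨α, rfl⟩ | ⟨α, rfl⟩ | ⟨α, β, -, rfl⟩ | ⟨θ, hθ, rfl⟩
        · exact absurd ((linG_at_one α).symm.trans h.2) fun h => e2 (by linear_combination -h)
        · exact absurd ((stG_one α).symm.trans h.2) fun h => by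
            exact one_ne_zero (α := ℂ) (by linear_combination h)
        · exact absurd ((indG_at_one α β).symm.trans h.2) fun h => by
            exact two_ne_zero (α := ℂ) (by linear_combination h)
        · exact (mem_cuSet h₀).2 ⟨θ, hθ, rfl⟩
      · obtain ⟨θ, hθ, rfl⟩ := (mem_cuSet h₀).1 h
        exact ⟨isIrr_piG h₀ hθ, piG_one h₀ θ⟩

theorem vanish_GL (χ : GL (Fin 2) F → ℂ) (hχ : Cfsg.IsIrrCharacter (GL (Fin 2) F) χ)
    (g : GL (Fin 2) F) :
    (χ 1 = qC - 1 → (g : Mat) 0 1 = 0 → (g : Mat) 1 0 = 0 → (g : Mat) 0 0 ≠ (g : Mat) 1 1 →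
      χ g = 0) ∧
    (χ 1 = qC + 1 → (∀ (c : F) (v : Fin 2 → F), v ≠ 0 → (g : Mat).mulVec v ≠ c • v) →
      χ g = 0) := by
  obtain ⟨t₀, d₀, -, h₀⟩ := exists_irreducible (F := F)
  have e0 : qC ≠ 0 := by exact_mod_cast Fintype.card_ne_zero
  refine ⟨fun hd h01 h10 hne => ?_, fun hd hno => ?_⟩
  · have hdet : (g : Mat).det = (g : Mat) 0 0 * (g : Mat) 1 1 := by
      rw [Matrix.det_fin_two, h01, zero_mul, sub_zero]
    have hns : ¬ Scal (g : Mat) := fun hs => hne hs.2.2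
    have h2 : (rts (g : Mat).trace (g : Mat).det).card = 2 := by
      rw [Matrix.trace_fin_two, hdet]; exact card_rts_split hne
    rcases irr_GL_cases h₀ hχ with ⟨α, rfl⟩ | ⟨α, rfl⟩ | ⟨α, β, -, rfl⟩ | ⟨θ, -, rfl⟩
    · -- then `q = 2`, and there is no such diagonal matrix
      exfalso
      rw [linG_at_one] at hd
      have hq : Fintype.card F = 2 := by
        have : qC = ((2 : ℕ) : ℂ) := by push_cast; linear_combination -hd
        exact_mod_cast this
      have hu : Fintype.card Fˣ = 1 := by rw [Fintype.card_units, hq]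
      have hall := Fintype.card_le_one_iff.1 hu.le
      have hg := g.det_ne_zero
      rw [hdet] at hg
      exact hne (congrArg Units.val (hall (Units.mk0 _ (left_ne_zero_of_mul hg))
        (Units.mk0 _ (right_ne_zero_of_mul hg))))
    · rw [stG_one] at hd
      exact absurd hd fun h => one_ne_zero (α := ℂ) (by linear_combination h)
    · rw [indG_at_one] at hd
      exact absurd hd fun h => two_ne_zero (α := ℂ) (by linear_combination h)
    · rw [piG_nonscal h₀ θ hns, Phi_split h₀ θ h2, neg_zero]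
  · obtain ⟨hns, hr⟩ := elliptic_of_noEigen _ hno
    rcases irr_GL_cases h₀ hχ with ⟨α, rfl⟩ | ⟨α, rfl⟩ | ⟨α, β, -, rfl⟩ | ⟨θ, -, rfl⟩
    · rw [linG_at_one] at hd
      exact absurd hd fun h => e0 (by linear_combination -h)
    · rw [stG_one] at hd
      exact absurd hd fun h => by simp at h
    · rw [indG_nonscal α β hns, hr, Finset.sum_empty]
    · rw [piG_one] at hd
      exact absurd hd fun h => two_ne_zero (α := ℂ) (by linear_combination -h)

theorem unip_values_GL (hq : 3 ≤ Fintype.card F) (χ : GL (Fin 2) F → ℂ)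
    (hχ : Cfsg.IsIrrCharacter (GL (Fin 2) F) χ) (u : GL (Fin 2) F)
    (hu : (u : Mat) = !![1, 1; 0, 1]) :
    (χ 1 = 1 → χ u = 1) ∧ (χ 1 = qC + 1 → χ u = 1) ∧
    (χ 1 = qC - 1 → χ u = -1) ∧ (χ 1 = qC → χ u = 0) := by
  obtain ⟨t₀, d₀, -, h₀⟩ := exists_irreducible (F := F)
  obtain ⟨ul, us, ui, up⟩ := values_unip (u := u) (fun hs => by simpa [hu] using hs.1)
    (by rw [hu, Matrix.trace_fin_two_of]; ring) (by rw [hu, Matrix.det_fin_two_of]; ring)
  have e0 : qC ≠ 0 := by exact_mod_cast Fintype.card_ne_zero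
  have e1 : qC ≠ 1 := by exact_mod_cast (by omega : Fintype.card F ≠ 1)
  have e2 : qC ≠ 2 := by exact_mod_cast (by omega : Fintype.card F ≠ 2)
  rcases irr_GL_cases h₀ hχ with ⟨α, rfl⟩ | ⟨α, rfl⟩ | ⟨α, β, -, rfl⟩ | ⟨θ, -, rfl⟩
  · rw [linG_at_one, ul]
    exact ⟨fun _ => rfl, fun _ => rfl, fun h => absurd (show qC = 2 by linear_combination -h) e2,
      fun h => absurd h.symm e1⟩
  · rw [stG_one, us]
    refine ⟨fun h => absurd h e1, fun h => absurd h (by simp), fun h => ?_, fun _ => rfl⟩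
    exact absurd (show (1 : ℂ) = 0 by linear_combination h) one_ne_zero
  · rw [indG_at_one, ui]
    refine ⟨fun _ => rfl, fun _ => rfl, fun h => ?_, fun h => ?_⟩
    · exact absurd (show (2 : ℂ) = 0 by linear_combination h) two_ne_zero
    · exact absurd (show (1 : ℂ) = 0 by linear_combination h) one_ne_zero
  · rw [piG_one, up]
    refine ⟨fun h => absurd (show qC = 2 by linear_combination h) e2, fun h => ?_, fun _ => rfl,
      fun h => ?_⟩
    · exact absurd (show (2 : ℂ) = 0 by linear_combination -h) two_ne_zero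
    · exact absurd (show (1 : ℂ) = 0 by linear_combination -h) one_ne_zero

theorem norm_mulChar (α : MulChar F ℂ) {a : F} (ha : a ≠ 0) : ‖α a‖ = 1 := by
  refine Complex.norm_eq_one_of_pow_eq_one (n := Fintype.card F - 1) ?_
    (by have := Fintype.one_lt_card (α := F); omega)
  rw [← map_pow, FiniteField.pow_card_sub_one_eq_one a ha, map_one]

theorem steinberg_norm_GL (χ : GL (Fin 2) F → ℂ) (hχ : Cfsg.IsIrrCharacter (GL (Fin 2) F) χ)
    (hdeg : χ 1 = qC) (g : GL (Fin 2) F) :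
    ((g : Mat) 0 1 = 0 → (g : Mat) 1 0 = 0 → (g : Mat) 0 0 ≠ (g : Mat) 1 1 → ‖χ g‖ = 1) ∧
    ((∀ (c : F) (v : Fin 2 → F), v ≠ 0 → (g : Mat).mulVec v ≠ c • v) → ‖χ g‖ = 1) := by
  obtain ⟨t₀, d₀, -, h₀⟩ := exists_irreducible (F := F)
  have e1 : qC ≠ 1 := by exact_mod_cast (Fintype.one_lt_card : 1 < Fintype.card F).ne'
  rcases irr_GL_cases h₀ hχ with ⟨α, rfl⟩ | ⟨α, rfl⟩ | ⟨α, β, -, rfl⟩ | ⟨θ, -, rfl⟩
  · exact absurd (hdeg.symm.trans (linG_at_one α)) e1
  · refine ⟨fun h01 h10 hne => ?_, fun hno => ?_⟩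
    · have hdet : (g : Mat).det = (g : Mat) 0 0 * (g : Mat) 1 1 := by
        rw [Matrix.det_fin_two, h01, zero_mul, sub_zero]
      have hg : (g : Mat) 0 0 * (g : Mat) 1 1 ≠ 0 := hdet ▸ g.det_ne_zero
      rw [stG, Pi.sub_apply, indG_nonscal α α fun hs => hne hs.2.2, linG, Matrix.trace_fin_two,
        hdet, rts_split, Finset.sum_pair hne, mul_div_cancel_left₀ _ (left_ne_zero_of_mul hg),
        mul_div_cancel_right₀ _ (right_ne_zero_of_mul hg), ← map_mul, ← map_mul,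
        mul_comm ((g : Mat) 1 1), add_sub_cancel_right]
      exact norm_mulChar α hg
    · obtain ⟨hns, hr⟩ := elliptic_of_noEigen _ hno
      rw [stG, Pi.sub_apply, indG_nonscal α α hns, hr, Finset.sum_empty, zero_sub, norm_neg, linG]
      exact norm_mulChar α g.det_ne_zero
  · rw [indG_at_one] at hdeg
    exact absurd hdeg (by simp)
  · rw [piG_one] at hdeg
    exact absurd hdeg (by simp)

end CfsgLib.KnownB.GL2
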