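import Cfsg.Agent.Lib.KnownB.GL2.HalvesSL
import Cfsg.Agent.Lib.KnownB.GL2.TableGLApps

/-!
The irreducible characters of `SL₂` over a finite field.
-/

set_option autoImplicit false

namespace CfsgLib.KnownB.GL2

open scoped MatrixGroups ComplexConjugate

section Quad

variable {G : Type*} [CommGroup G] [Finite G]

theorem hom_sq_odd (h : Odd (Nat.card G)) {φ : G →* ℂˣ} (h2 : φ ^ 2 = 1) : φ = 1 := by
  obtain ⟨k, hk⟩ := h
  ext c
  have e1 : φ c ^ 2 = 1 := DFunLike.congr_fun h2 c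
  have e2 : φ c ^ (2 * k + 1) = 1 := by rw [← map_pow, ← hk, pow_card_eq_one', map_one]
  rw [pow_succ, pow_mul, e1, one_pow, one_mul] at e2
  rw [e2]
  rfl

/-- The values of the character of order two of a cyclic group of even order. -/
theorem quad_value [IsCyclic G] {m : ℕ} (hm : Nat.card G = 2 * m) {φ : G →* ℂˣ} (h1 : φ ≠ 1)
    (h2 : φ ^ 2 = 1) (c : G) [Decidable (c ^ m = 1)] :
    (φ c : ℂ) = if c ^ m = 1 then 1 else -1 := by
  obtain ⟨g, hg⟩ := IsCyclic.exists_generator (α := G)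
  have hpow : ∀ x : G, ∃ k : ℕ, g ^ k = x := fun x =>
    (Submonoid.mem_powers_iff _ _).1 (mem_powers_iff_mem_zpowers.2 (hg x))
  have hgval : (φ g : ℂ) = -1 := by
    have e : (φ g : ℂ) ^ 2 = 1 := by
      rw [← Units.val_pow_eq_pow_val, show φ g ^ 2 = 1 from DFunLike.congr_fun h2 g, Units.val_one]
    rcases sq_eq_one_iff.1 e with h | h
    · refine absurd (MonoidHom.ext fun x => ?_) h1
      obtain ⟨k, rfl⟩ := hpow x
      rw [map_pow, show φ g = 1 from Units.ext h, one_pow]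
      rfl
    · exact h
  have hpos : 0 < m := by
    have := Nat.card_pos (α := G)
    omega
  have ho : orderOf g = 2 * m := by rw [orderOf_eq_card_of_forall_mem_zpowers hg, hm]
  obtain ⟨k, rfl⟩ := hpow c
  rw [map_pow, Units.val_pow_eq_pow_val, hgval]
  have hiff : (g ^ k) ^ m = 1 ↔ Even k := by
    rw [← pow_mul, ← orderOf_dvd_iff_pow_eq_one, ho, even_iff_two_dvd]
    exact Nat.mul_dvd_mul_iff_right hpos
  split_ifs with h
  · rw [(hiff.1 h).neg_one_pow]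
  · rw [(Nat.not_even_iff_odd.1 fun he => h (hiff.2 he)).neg_one_pow]

theorem quad_unique [IsCyclic G] {m : ℕ} (hm : Nat.card G = 2 * m) {φ ψ : G →* ℂˣ} (h1 : φ ≠ 1)
    (h2 : φ ^ 2 = 1) (h3 : ψ ≠ 1) (h4 : ψ ^ 2 = 1) : φ = ψ := by
  classical
  ext c
  rw [quad_value hm h1 h2, quad_value hm h3 h4]

theorem exists_quad {m : ℕ} (hm : Nat.card G = 2 * m) : ∃ φ : G →* ℂˣ, φ ≠ 1 ∧ φ ^ 2 = 1 := by
  haveI : Finite (G →* ℂˣ) := by
    obtain ⟨e⟩ := CommGroup.monoidHom_mulEquiv_of_hasEnoughRootsOfUnity G ℂ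
    exact Finite.of_equiv _ e.toEquiv.symm
  haveI : Fact (Nat.Prime 2) := ⟨Nat.prime_two⟩
  obtain ⟨φ, hφ⟩ := exists_prime_orderOf_dvd_card' (G := G →* ℂˣ) 2
    (by rw [CommGroup.card_monoidHom_of_hasEnoughRootsOfUnity, hm]; exact dvd_mul_right 2 m)
  refine ⟨φ, fun h => ?_, by rw [← hφ]; exact pow_orderOf_eq_one φ⟩
  rw [h, orderOf_one] at hφ
  omega

end Quad

variable {F : Type*} [Field F] [Fintype F] [DecidableEq F] {t₀ d₀ : F}

local notation "Mat" => Matrix (Fin 2) (Fin 2) F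
local notation "qC" => (Fintype.card F : ℂ)

theorem two_ne_zero_of_odd (hodd : Odd (Fintype.card F)) : (2 : F) ≠ 0 :=
  Ring.two_ne_zero fun h => by
    have := FiniteField.even_card_of_char_two h
    have := Nat.odd_iff.1 hodd
    omega

theorem card_units_two_mul (hodd : Odd (Fintype.card F)) :
    Nat.card Fˣ = 2 * (Fintype.card F / 2) := by
  rw [Nat.card_units, Nat.card_eq_fintype_card]
  have := Nat.odd_iff.1 hodd
  omega

theorem card_torS_two_mul (hodd : Odd (Fintype.card F)) (h₀ : rts t₀ d₀ = ∅) :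
    Nat.card (torS h₀) = 2 * ((Fintype.card F + 1) / 2) := by
  rw [card_torS]
  have := Nat.odd_iff.1 hodd
  omega

theorem exists_quadM (hodd : Odd (Fintype.card F)) : ∃ α : MulChar F ℂ, α ≠ 1 ∧ α ^ 2 = 1 := by
  obtain ⟨φ, h1, h2⟩ := exists_quad (card_units_two_mul hodd)
  refine ⟨MulChar.ofUnitHom φ, fun h => h1 ?_, MulChar.ext fun a => ?_⟩
  · ext a
    have e := MulChar.ofUnitHom_coe φ a
    rw [h, MulChar.one_apply_coe] at e
    rw [← e]
    rfl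
  · rw [MulChar.pow_apply_coe, MulChar.ofUnitHom_coe, MulChar.one_apply_coe,
      ← Units.val_pow_eq_pow_val, show φ a ^ 2 = 1 from DFunLike.congr_fun h2 a, Units.val_one]

theorem quadM_value (hodd : Odd (Fintype.card F)) {α : MulChar F ℂ} (h1 : α ≠ 1) (h2 : α ^ 2 = 1)
    {a : F} (ha : a ≠ 0) [Decidable (IsSquare a)] : α a = if IsSquare a then 1 else -1 := by
  classical
  have hF : ringChar F ≠ 2 := fun h => by
    have := FiniteField.even_card_of_char_two h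
    have := Nat.odd_iff.1 hodd
    omega
  have h1' : α.toUnitHom ≠ 1 := fun h => h1 (MulChar.ext fun u => by
    rw [← MulChar.coe_toUnitHom, h, MulChar.one_apply_coe]; rfl)
  have h2' : α.toUnitHom ^ 2 = 1 := MonoidHom.ext fun u => Units.ext (by
    show ((α.toUnitHom u ^ 2 : ℂˣ) : ℂ) = 1
    rw [Units.val_pow_eq_pow_val, MulChar.coe_toUnitHom, ← MulChar.pow_apply_coe, h2,
      MulChar.one_apply_coe])
  have e := quad_value (card_units_two_mul hodd) h1' h2' (Units.mk0 a ha)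
  rw [MulChar.coe_toUnitHom, Units.val_mk0] at e
  rw [e]
  have hiff : Units.mk0 a ha ^ (Fintype.card F / 2) = 1 ↔ IsSquare a := by
    rw [FiniteField.isSquare_iff hF ha]
    simp [Units.ext_iff]
  by_cases h : IsSquare a
  · rw [if_pos (hiff.2 h), if_pos h]
  · rw [if_neg (fun h' => h (hiff.1 h')), if_neg h]

theorem quadM_unique (hodd : Odd (Fintype.card F)) {α β : MulChar F ℂ} (h1 : α ≠ 1) (h2 : α ^ 2 = 1)
    (h3 : β ≠ 1) (h4 : β ^ 2 = 1) : α = β := by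
  classical
  exact MulChar.ext fun a => by
    rw [quadM_value hodd h1 h2 a.ne_zero, quadM_value hodd h3 h4 a.ne_zero]

theorem mulChar_sq_two (hev : Even (Fintype.card F)) {α : MulChar F ℂ} (h2 : α ^ 2 = 1) : α = 1 := by
  have h : Odd (Nat.card Fˣ) := by
    rw [Nat.card_units, Nat.card_eq_fintype_card]
    exact Nat.Even.sub_odd Fintype.card_pos hev odd_one
  have h2' : α.toUnitHom ^ 2 = 1 := MonoidHom.ext fun u => Units.ext (by
    show ((α.toUnitHom u ^ 2 : ℂˣ) : ℂ) = 1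
    rw [Units.val_pow_eq_pow_val, MulChar.coe_toUnitHom, ← MulChar.pow_apply_coe, h2,
      MulChar.one_apply_coe])
  have e := hom_sq_odd h h2'
  exact MulChar.ext fun u => by
    rw [← MulChar.coe_toUnitHom, e, MulChar.one_apply_coe]; rfl

theorem indS_apply_one (α : MulChar F ℂ) : indS α 1 = qC + 1 := by
  have h := indS_scal α (g := 1) (by simp [Scal])
  simpa using h

theorem indS_one_eq : indS (1 : MulChar F ℂ) = (fun _ => (1 : ℂ)) + stS F := by rw [stS]; abel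

/-- Every irreducible character meets the series. -/
theorem irr_SL_cases (h₀ : rts t₀ d₀ = ∅) {χ : SL(2, F) → ℂ} (hχ : Cfsg.IsIrrCharacter SL(2, F) χ) :
    χ = (fun _ => 1) ∨ χ = stS F ∨ (∃ α : MulChar F ℂ, α ^ 2 ≠ 1 ∧ χ = indS α) ∨
    (∃ ψ : torS h₀ →* ℂˣ, ψ ^ 2 ≠ 1 ∧ χ = piS h₀ ψ) ∨
    (∃ α : MulChar F ℂ, α ≠ 1 ∧ α ^ 2 = 1 ∧ Cfsg.classInner χ (indS α) ≠ 0) ∨
    (∃ ψ : torS h₀ →* ℂˣ, ψ ≠ 1 ∧ ψ ^ 2 = 1 ∧ Cfsg.classInner χ (piS h₀ ψ) ≠ 0) := by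
  classical
  by_contra hn
  simp only [not_or] at hn
  obtain ⟨n1, n2, n3, n4, n5, n6⟩ := hn
  have e1 : Cfsg.classInner χ (fun _ => (1 : ℂ)) = 0 :=
    CfsgLib.Char.classInner_irr_ne hχ CfsgLib.Char.isIrrCharacter_one n1
  have e2 : Cfsg.classInner χ (stS F) = 0 := CfsgLib.Char.classInner_irr_ne hχ isIrr_stS n2
  have hI : ∀ α, Cfsg.classInner χ (indS α) = 0 := fun α => by
    by_cases h1 : α = 1
    · rw [h1, indS_one_eq, CfsgLib.Char.classInner_add_right, e1, e2, add_zero]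
    by_cases h2 : α ^ 2 = 1
    · by_contra h; exact n5 ⟨α, h1, h2, h⟩
    · exact CfsgLib.Char.classInner_irr_ne hχ ((isIrr_indS_iff α).2 h2) fun h => n3 ⟨α, h2, h⟩
  have hP : ∀ ψ, Cfsg.classInner χ (piS h₀ ψ) = 0 := fun ψ => by
    by_cases h1 : ψ = 1
    · rw [h1, show piS h₀ 1 = stS F - fun _ => 1 from
          funext fun g => by rw [Pi.sub_apply, piS_one_eq],
        CfsgLib.Char.classInner_sub_right, e1, e2, sub_zero]
    by_cases h2 : ψ ^ 2 = 1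
    · by_contra h; exact n6 ⟨ψ, h1, h2, h⟩
    · exact CfsgLib.Char.classInner_irr_ne hχ (isIrr_piS h₀ h2) fun h => n4 ⟨ψ, h2, h⟩
  have h := ((vanish_of_orth h₀ χ (isClassFun_iff.1 (CfsgLib.Char.IsIrrCharacter.isClassFunction hχ))
    hI hP).2.2 ⟨1, sg_one⟩).1
  rw [show scalSL (1 : F) (one_pow 2) = (1 : SL(2, F)) from Subtype.ext (by
    show ((scalSL (1 : F) (one_pow 2) : SL(2, F)) : Mat) = 1; rw [coe_scalSL, one_smul])] at h
  exact CfsgLib.Char.IsIrrCharacter.apply_one_ne_zero hχ h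

theorem halves_indS (h₀ : rts t₀ d₀ = ∅) (hodd : Odd (Fintype.card F)) {α : MulChar F ℂ}
    (h1 : α ≠ 1) (h2 : α ^ 2 = 1) : ∃ a b, Halves h₀ (indS α) a b := by
  classical
  have hinv : α⁻¹ = α := inv_eq_of_mul_eq_one_right (show α * α = 1 by rw [← sq]; exact h2)
  have hnorm : Cfsg.classInner (indS α) (indS α) = 2 := by
    rw [classInner_indS, if_pos rfl, if_pos hinv.symm]; norm_num
  obtain ⟨a, b, ha, hb, hne, hadd⟩ := exists_add_of_norm_two (isCharacter_indS α) hnorm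
  refine ⟨a, b, ⟨ha, hb, hne, hadd, fun x g k h => indS_glConj α h, fun β => ?_, fun ψ _ => ?_, ?_,
    CfsgLib.Char.IsIrrCharacter.apply_one_ne_zero ha⟩⟩
  · by_cases hb' : β = α
    · exact Or.inr (congrArg indS hb')
    · left
      rw [classInner_indS, if_neg (Ne.symm hb'), if_neg (fun h => hb' (by rw [← hinv, h, inv_inv])),
        add_zero]
  · left
    rw [← CfsgLib.Char.classInner_conj_symm, classInner_piS_indS, map_zero]
  · intro he
    have := classInner_indS α 1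
    rw [he, hnorm, if_neg h1, if_neg (by rwa [inv_one]), add_zero] at this
    norm_num at this

theorem halves_piS (h₀ : rts t₀ d₀ = ∅) {ψ : torS h₀ →* ℂˣ}
    (h1 : ψ ≠ 1) (h2 : ψ ^ 2 = 1) : ∃ a b, Halves h₀ (piS h₀ ψ) a b := by
  classical
  have hinv : ψ⁻¹ = ψ := MonoidHom.ext fun c => by
    rw [MonoidHom.inv_apply]
    exact inv_eq_of_mul_eq_one_right (by rw [← sq]; exact DFunLike.congr_fun h2 c)
  have hnorm : Cfsg.classInner (piS h₀ ψ) (piS h₀ ψ) = 2 := by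
    rw [classInner_piS, if_pos rfl, if_pos hinv]; norm_num
  obtain ⟨a, b, ha, hb, hne, hadd⟩ := exists_add_of_norm_two (isCharacter_piS h₀ h1) hnorm
  refine ⟨a, b, ⟨ha, hb, hne, hadd, fun x g k h => piS_glConj h₀ ψ h,
    fun β => Or.inl (classInner_piS_indS h₀ ψ β), fun φ _ => ?_, ?_,
    CfsgLib.Char.IsIrrCharacter.apply_one_ne_zero ha⟩⟩
  · by_cases hb' : φ = ψ
    · exact Or.inr (congrArg (piS h₀) hb')
    · left
      rw [classInner_piS, if_neg (Ne.symm hb'), if_neg (fun h => hb' (by rw [← h, hinv])), add_zero]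
  · intro he
    have := classInner_piS_indS h₀ ψ 1
    rw [he, hnorm] at this
    norm_num at this

theorem mem_halves {h₀ : rts t₀ d₀ = ∅} {θ a b χ : SL(2, F) → ℂ} (H : Halves h₀ θ a b)
    (hχ : Cfsg.IsIrrCharacter SL(2, F) χ) (h : Cfsg.classInner χ θ ≠ 0) : χ = a ∨ χ = b := by
  by_contra hc
  rw [not_or] at hc
  refine h ?_
  rw [H.add, CfsgLib.Char.classInner_add_right, CfsgLib.Char.classInner_irr_ne hχ H.ha hc.1,
    CfsgLib.Char.classInner_irr_ne hχ H.hb hc.2, add_zero]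

/-- The data of the table in odd characteristic. -/
structure OddTable (h₀ : rts t₀ d₀ = ∅) where
  α : MulChar F ℂ
  α_ne : α ≠ 1
  α_sq : α ^ 2 = 1
  ψ : torS h₀ →* ℂˣ
  ψ_ne : ψ ≠ 1
  ψ_sq : ψ ^ 2 = 1
  a : SL(2, F) → ℂ
  b : SL(2, F) → ℂ
  c : SL(2, F) → ℂ
  e : SL(2, F) → ℂ
  HI : Halves h₀ (indS α) a b
  HP : Halves h₀ (piS h₀ ψ) c e

theorem exists_oddTable (h₀ : rts t₀ d₀ = ∅) (hodd : Odd (Fintype.card F)) :
    Nonempty (OddTable h₀) := by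
  obtain ⟨α, h1, h2⟩ := exists_quadM hodd
  obtain ⟨a, b, H1⟩ := halves_indS h₀ hodd h1 h2
  haveI := isCyclic_torS h₀
  obtain ⟨ψ, h3, h4⟩ := exists_quad (card_torS_two_mul hodd h₀)
  obtain ⟨c, e, H2⟩ := halves_piS h₀ h3 h4
  exact ⟨⟨α, h1, h2, ψ, h3, h4, a, b, c, e, H1, H2⟩⟩

theorem OddTable.deg_a {h₀ : rts t₀ d₀ = ∅} (T : OddTable h₀) (hodd : Odd (Fintype.card F)) :
    T.a 1 = (((Fintype.card F + 1) / 2 : ℕ) : ℂ) ∧ T.b 1 = (((Fintype.card F + 1) / 2 : ℕ) : ℂ) ∧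
    T.c 1 = (((Fintype.card F - 1) / 2 : ℕ) : ℂ) ∧ T.e 1 = (((Fintype.card F - 1) / 2 : ℕ) : ℂ) := by
  obtain ⟨m, hm⟩ := hodd
  rw [T.HI.apply_one, T.HI.symm.apply_one, T.HP.apply_one, T.HP.symm.apply_one, indS_apply_one,
    piS_apply_one, show (Fintype.card F + 1) / 2 = m + 1 by omega,
    show (Fintype.card F - 1) / 2 = m by omega, hm]
  push_cast
  exact ⟨by ring, by ring, by ring, by ring⟩

/-- The irreducible characters in odd characteristic, with their degrees. -/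
theorem irr_SL_odd {h₀ : rts t₀ d₀ = ∅} (T : OddTable h₀) (hodd : Odd (Fintype.card F))
    {χ : SL(2, F) → ℂ} (hχ : Cfsg.IsIrrCharacter SL(2, F) χ) :
    ∃ n : ℕ, χ 1 = n ∧ ((n = 1 ∧ χ = fun _ => 1) ∨ (n = Fintype.card F ∧ χ = stS F) ∨
      (n = Fintype.card F + 1 ∧ ∃ α : MulChar F ℂ, α ^ 2 ≠ 1 ∧ χ = indS α) ∨
      (n = Fintype.card F - 1 ∧ ∃ ψ : torS h₀ →* ℂˣ, ψ ^ 2 ≠ 1 ∧ χ = piS h₀ ψ) ∨
      (n = (Fintype.card F + 1) / 2 ∧ (χ = T.a ∨ χ = T.b)) ∨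
      (n = (Fintype.card F - 1) / 2 ∧ (χ = T.c ∨ χ = T.e))) := by
  obtain ⟨da, db, dc, de⟩ := T.deg_a hodd
  rcases irr_SL_cases h₀ hχ with h | h | ⟨α, h2, h⟩ | ⟨ψ, h2, h⟩ | ⟨α, h1, h2, h⟩ | ⟨ψ, h1, h2, h⟩
  · exact ⟨1, by rw [h, Nat.cast_one], Or.inl ⟨rfl, h⟩⟩
  · exact ⟨Fintype.card F, by rw [h, stS_apply_one], Or.inr (Or.inl ⟨rfl, h⟩)⟩
  · exact ⟨Fintype.card F + 1, by rw [h, indS_apply_one]; push_cast; rfl,
      Or.inr (Or.inr (Or.inl ⟨rfl, α, h2, h⟩))⟩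
  · exact ⟨Fintype.card F - 1, by rw [h, piS_apply_one, Nat.cast_sub Fintype.card_pos, Nat.cast_one],
      Or.inr (Or.inr (Or.inr (Or.inl ⟨rfl, ψ, h2, h⟩)))⟩
  · rw [quadM_unique hodd h1 h2 T.α_ne T.α_sq] at h
    have hm := mem_halves T.HI hχ h
    refine ⟨_, ?_, Or.inr (Or.inr (Or.inr (Or.inr (Or.inl ⟨rfl, hm⟩))))⟩
    rcases hm with e | e <;> rw [e] <;> assumption
  · haveI := isCyclic_torS h₀
    rw [quad_unique (card_torS_two_mul hodd h₀) h1 h2 T.ψ_ne T.ψ_sq] at h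
    have hm := mem_halves T.HP hχ h
    refine ⟨_, ?_, Or.inr (Or.inr (Or.inr (Or.inr (Or.inr ⟨rfl, hm⟩))))⟩
    rcases hm with e | e <;> rw [e] <;> assumption

/-- The irreducible characters in characteristic two. -/
theorem irr_SL_even (h₀ : rts t₀ d₀ = ∅) (hev : Even (Fintype.card F))
    {χ : SL(2, F) → ℂ} (hχ : Cfsg.IsIrrCharacter SL(2, F) χ) :
    ∃ n : ℕ, χ 1 = n ∧ ((n = 1 ∧ χ = fun _ => 1) ∨ (n = Fintype.card F ∧ χ = stS F) ∨
      (n = Fintype.card F + 1 ∧ ∃ α : MulChar F ℂ, α ^ 2 ≠ 1 ∧ χ = indS α) ∨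
      (n = Fintype.card F - 1 ∧ ∃ ψ : torS h₀ →* ℂˣ, ψ ^ 2 ≠ 1 ∧ χ = piS h₀ ψ)) := by
  rcases irr_SL_cases h₀ hχ with h | h | ⟨α, h2, h⟩ | ⟨ψ, h2, h⟩ | ⟨α, h1, h2, -⟩ | ⟨ψ, h1, h2, -⟩
  · exact ⟨1, by rw [h, Nat.cast_one], Or.inl ⟨rfl, h⟩⟩
  · exact ⟨Fintype.card F, by rw [h, stS_apply_one], Or.inr (Or.inl ⟨rfl, h⟩)⟩
  · exact ⟨Fintype.card F + 1, by rw [h, indS_apply_one]; push_cast; rfl,
      Or.inr (Or.inr (Or.inl ⟨rfl, α, h2, h⟩))⟩
  · exact ⟨Fintype.card F - 1, by rw [h, piS_apply_one, Nat.cast_sub Fintype.card_pos, Nat.cast_one],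
      Or.inr (Or.inr (Or.inr ⟨rfl, ψ, h2, h⟩))⟩
  · exact absurd (mulChar_sq_two hev h2) h1
  · refine absurd (hom_sq_odd ?_ h2) h1
    rw [card_torS]
    exact hev.add_one

/-! ### Recognising the types -/

theorem diag_of_entries {g : SL(2, F)} (h01 : (g : Mat) 0 1 = 0) (h10 : (g : Mat) 1 0 = 0) :
    ∃ a : Fˣ, (a : F) = (g : Mat) 0 0 ∧ g = diagSL a := by
  have hd := sl_det g
  rw [Matrix.det_fin_two, h01, zero_mul, sub_zero] at hd
  refine ⟨Units.mk0 _ (left_ne_zero_of_mul_eq_one hd), rfl, Subtype.ext ?_⟩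
  show (g : Mat) = !![(g : Mat) 0 0, 0; 0, ((g : Mat) 0 0)⁻¹]
  ext i j
  fin_cases i <;> fin_cases j <;> simp [h01, h10]
  exact eq_inv_of_mul_eq_one_right hd

theorem par_of_entries {g : SL(2, F)} (h10 : (g : Mat) 1 0 = 0) (he : (g : Mat) 0 0 = (g : Mat) 1 1)
    (h01 : (g : Mat) 0 1 ≠ 0) :
    ∃ (r : Sg F) (b : Fˣ), g = parSL r.1 b (sg_sq r) := by
  have hd := sl_det g
  rw [Matrix.det_fin_two, h10, mul_zero, sub_zero, ← he, ← sq] at hd
  refine ⟨⟨_, mem_signs.2 hd⟩, Units.mk0 _ h01, Subtype.ext ?_⟩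
  show (g : Mat) = !![(g : Mat) 0 0, (g : Mat) 0 1; 0, (g : Mat) 0 0]
  ext i j
  fin_cases i <;> fin_cases j <;> simp [h10, he]

theorem ell_of_noEigen (h₀ : rts t₀ d₀ = ∅) {g : SL(2, F)}
    (h : ∀ (c : F) (v : Fin 2 → F), v ≠ 0 → (g : Mat).mulVec v ≠ c • v) :
    ∃ c : torS h₀, ¬ Scal ((c : SL(2, F)) : Mat) ∧ IsConj (c : SL(2, F)) g := by
  obtain ⟨hs, hr⟩ := elliptic_of_noEigen _ h
  rw [sl_det] at hr
  rcases sl_cases h₀ g with ⟨r, rfl⟩ | ⟨r, b, hc⟩ | ⟨a, ha, hc⟩ | hc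
  · exact absurd (scal_scalSL _ _) hs
  · exfalso
    have e := card_rts_double r.1
    rw [sg_sq r, ← trace_parSL r.1 (b : F) (sg_sq r), (sl_isConj_trace hc).1, hr] at e
    simp at e
  · exfalso
    have e := rts_diagSL a
    rw [(sl_isConj_trace hc).1, hr] at e
    exact absurd e.symm (Finset.insert_ne_empty _ _)
  · exact hc

theorem semi_diag {a : Fˣ} (ha : (a : F) ^ 2 ≠ 1) : Semi (diagSL a) := Or.inr (dsc_diagSL ha)

theorem semi_tor {h₀ : rts t₀ d₀ = ∅} {c : torS h₀} (hc : ¬ Scal ((c : SL(2, F)) : Mat)) :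
    Semi (c : SL(2, F)) := Or.inr (dsc_torS h₀ hc)

theorem irr_conj {χ : SL(2, F) → ℂ} (hχ : Cfsg.IsIrrCharacter SL(2, F) χ) {g k : SL(2, F)}
    (h : IsConj g k) : χ g = χ k :=
  isClassFun_iff.1 (CfsgLib.Char.IsIrrCharacter.isClassFunction hχ) g k h

end CfsgLib.KnownB.GL2
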