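import Cfsg.Agent.Lib.KnownB.GL2.TableSL

/-!
Degrees, counts and values in the table of `SL₂`.
-/

set_option autoImplicit false

namespace CfsgLib.KnownB.GL2

open scoped MatrixGroups ComplexConjugate

variable {F : Type*} [Field F] [Fintype F] [DecidableEq F] {t₀ d₀ : F}

local notation "Mat" => Matrix (Fin 2) (Fin 2) F
local notation "qC" => (Fintype.card F : ℂ)

theorem hom_inv_inv {G : Type*} [MulOneClass G] (ψ : G →* ℂˣ) : ψ⁻¹⁻¹ = ψ :=
  MonoidHom.ext fun c => inv_inv (ψ c)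

theorem hom_one_sq {G : Type*} [MulOneClass G] : (1 : G →* ℂˣ) ^ 2 = 1 :=
  MonoidHom.ext fun _ => one_pow 2

theorem hom_inv_sq {G : Type*} [MulOneClass G] {ψ : G →* ℂˣ} (h : ψ⁻¹ ^ 2 = 1) : ψ ^ 2 = 1 :=
  MonoidHom.ext fun c => by
    have e : (ψ c)⁻¹ ^ 2 = 1 := DFunLike.congr_fun h c
    rw [inv_pow, inv_eq_one] at e
    exact e

section Sets

open _root_.Classical

variable (F) in
/-- The irreducible principal series of `SL₂`. -/
noncomputable def prS : Finset (SL(2, F) → ℂ) :=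
  letI := Fintype.ofFinite (MulChar F ℂ)
  ((Finset.univ : Finset (MulChar F ℂ)).filter fun α => α ^ 2 ≠ 1).image indS

/-- The irreducible cuspidal series of `SL₂`. -/
noncomputable def cuS (h₀ : rts t₀ d₀ = ∅) : Finset (SL(2, F) → ℂ) :=
  haveI : Finite (torS h₀ →* ℂˣ) := by
    obtain ⟨e⟩ := CommGroup.monoidHom_mulEquiv_of_hasEnoughRootsOfUnity (torS h₀) ℂ
    exact Finite.of_equiv _ e.toEquiv.symm
  letI := Fintype.ofFinite (torS h₀ →* ℂˣ)
  ((Finset.univ : Finset (torS h₀ →* ℂˣ)).filter fun ψ => ψ ^ 2 ≠ 1).image (piS h₀)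

theorem mem_prS {χ : SL(2, F) → ℂ} : χ ∈ prS F ↔ ∃ α : MulChar F ℂ, α ^ 2 ≠ 1 ∧ χ = indS α := by
  simp [prS, eq_comm]

theorem mem_cuS (h₀ : rts t₀ d₀ = ∅) {χ : SL(2, F) → ℂ} :
    χ ∈ cuS h₀ ↔ ∃ ψ : torS h₀ →* ℂˣ, ψ ^ 2 ≠ 1 ∧ χ = piS h₀ ψ := by
  simp [cuS, eq_comm]

theorem indS_inv (α : MulChar F ℂ) : indS α⁻¹ = indS α := by
  refine sub_eq_zero.1 (CfsgLib.Char.classInner_self_eq_zero.1 ?_)
  rw [CfsgLib.Char.classInner_sub_left, CfsgLib.Char.classInner_sub_right,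
    CfsgLib.Char.classInner_sub_right, classInner_indS, classInner_indS, classInner_indS,
    classInner_indS]
  by_cases h : α = α⁻¹
  · simp [← h]
  · simp [inv_inv, Ne.symm h, h]

theorem piS_inv (h₀ : rts t₀ d₀ = ∅) (ψ : torS h₀ →* ℂˣ) : piS h₀ ψ⁻¹ = piS h₀ ψ := by
  refine sub_eq_zero.1 (CfsgLib.Char.classInner_self_eq_zero.1 ?_)
  rw [CfsgLib.Char.classInner_sub_left, CfsgLib.Char.classInner_sub_right,
    CfsgLib.Char.classInner_sub_right, classInner_piS, classInner_piS, classInner_piS, classInner_piS]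
  by_cases h : ψ = ψ⁻¹
  · simp [← h]
  · simp [hom_inv_inv, Ne.symm h, h]

theorem sq_one_iff_inv {G : Type*} [Group G] (x : G) : x ^ 2 = 1 ↔ x⁻¹ = x := by
  rw [sq, mul_eq_one_iff_eq_inv, eq_comm]

theorem card_prS :
    2 * (prS F).card + Nat.card {α : MulChar F ℂ // α ^ 2 = 1} = Fintype.card F - 1 := by
  letI := Fintype.ofFinite (MulChar F ℂ)
  rw [prS, card_image_two _ _ (fun α => α⁻¹) (fun α hα => ?_) (fun α hα β hβ h => ?_),
    ← card_mulChar (F := F), Nat.card_eq_fintype_card, Fintype.card_subtype,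
    Nat.card_eq_fintype_card, ← Finset.card_univ]
  · rw [add_comm]
    exact Finset.card_filter_add_card_filter_not (fun α : MulChar F ℂ => α ^ 2 = 1)
  · have h := (Finset.mem_filter.1 hα).2
    exact ⟨Finset.mem_filter.2 ⟨Finset.mem_univ _, by rwa [inv_pow, inv_ne_one]⟩,
      fun e => h ((sq_one_iff_inv α).2 e), indS_inv α⟩
  · have h1 := classInner_indS α β
    have hα' := (Finset.mem_filter.1 hα).2
    rw [← h, classInner_indS, if_pos rfl, if_neg (fun e => hα' ((sq_one_iff_inv α).2 e.symm))] at h1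
    by_cases e1 : α = β
    · exact Or.inl e1.symm
    · by_cases e2 : α = β⁻¹
      · exact Or.inr (by rw [e2, inv_inv])
      · simp [e1, e2] at h1

theorem card_cuS (h₀ : rts t₀ d₀ = ∅) :
    2 * (cuS h₀).card + Nat.card {ψ : torS h₀ →* ℂˣ // ψ ^ 2 = 1} = Fintype.card F + 1 := by
  haveI : Finite (torS h₀ →* ℂˣ) := by
    obtain ⟨e⟩ := CommGroup.monoidHom_mulEquiv_of_hasEnoughRootsOfUnity (torS h₀) ℂ
    exact Finite.of_equiv _ e.toEquiv.symm
  letI := Fintype.ofFinite (torS h₀ →* ℂˣ)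
  rw [cuS, card_image_two _ _ (fun ψ => ψ⁻¹) (fun ψ hψ => ?_) (fun ψ hψ φ hφ h => ?_),
    ← card_torS h₀, ← CommGroup.card_monoidHom_of_hasEnoughRootsOfUnity (torS h₀) ℂ,
    Nat.card_eq_fintype_card, Fintype.card_subtype, Nat.card_eq_fintype_card, ← Finset.card_univ]
  · rw [add_comm]
    exact Finset.card_filter_add_card_filter_not (fun ψ : torS h₀ →* ℂˣ => ψ ^ 2 = 1)
  · have h := (Finset.mem_filter.1 hψ).2
    exact ⟨Finset.mem_filter.2 ⟨Finset.mem_univ _, fun e => h (hom_inv_sq e)⟩,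
      fun e => h ((sq_one_iff_inv ψ).2 e), piS_inv h₀ ψ⟩
  · have h1 := classInner_piS h₀ ψ φ
    have hψ' := (Finset.mem_filter.1 hψ).2
    rw [← h, classInner_piS, if_pos rfl, if_neg (fun e => hψ' ((sq_one_iff_inv ψ).2 e))] at h1
    by_cases e1 : ψ = φ
    · exact Or.inl e1.symm
    · by_cases e2 : ψ⁻¹ = φ
      · exact Or.inr e2.symm
      · simp [e1, e2] at h1

theorem card_sq_mulChar_odd (hodd : Odd (Fintype.card F)) :
    Nat.card {α : MulChar F ℂ // α ^ 2 = 1} = 2 := by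
  obtain ⟨α, h1, h2⟩ := exists_quadM (F := F) hodd
  letI := Fintype.ofFinite (MulChar F ℂ)
  rw [Nat.card_eq_fintype_card, Fintype.card_subtype, Finset.card_eq_two]
  refine ⟨1, α, Ne.symm h1, ?_⟩
  ext β
  simp only [Finset.mem_filter, Finset.mem_univ, true_and, Finset.mem_insert, Finset.mem_singleton]
  exact ⟨fun h => (Classical.em (β = 1)).imp id fun hb => quadM_unique hodd hb h h1 h2,
    fun h => by rcases h with rfl | rfl; exacts [one_pow 2, h2]⟩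

theorem card_sq_torS_odd (h₀ : rts t₀ d₀ = ∅) (hodd : Odd (Fintype.card F)) :
    Nat.card {ψ : torS h₀ →* ℂˣ // ψ ^ 2 = 1} = 2 := by
  haveI : Finite (torS h₀ →* ℂˣ) := by
    obtain ⟨e⟩ := CommGroup.monoidHom_mulEquiv_of_hasEnoughRootsOfUnity (torS h₀) ℂ
    exact Finite.of_equiv _ e.toEquiv.symm
  haveI := isCyclic_torS h₀
  obtain ⟨ψ, h1, h2⟩ := exists_quad (card_torS_two_mul hodd h₀)
  letI := Fintype.ofFinite (torS h₀ →* ℂˣ)
  rw [Nat.card_eq_fintype_card, Fintype.card_subtype, Finset.card_eq_two]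
  refine ⟨1, ψ, Ne.symm h1, ?_⟩
  ext φ
  simp only [Finset.mem_filter, Finset.mem_univ, true_and, Finset.mem_insert, Finset.mem_singleton]
  exact ⟨fun h => (Classical.em (φ = 1)).imp id fun hb => quad_unique (card_torS_two_mul hodd h₀) hb h h1 h2,
    fun h => by rcases h with rfl | rfl; exacts [hom_one_sq, h2]⟩

end Sets

/-- The counts in odd characteristic. -/
theorem degrees_SL_odd (hodd : Odd (Fintype.card F)) :
    (∀ χ : SL(2, F) → ℂ, Cfsg.IsIrrCharacter SL(2, F) χ →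
      χ 1 = 1 ∨ χ 1 = qC ∨ χ 1 = qC + 1 ∨ χ 1 = qC - 1 ∨
        χ 1 = (((Fintype.card F + 1) / 2 : ℕ) : ℂ) ∨ χ 1 = (((Fintype.card F - 1) / 2 : ℕ) : ℂ)) ∧
    (5 ≤ Fintype.card F →
      Nat.card {χ : Cfsg.IrrCharacter SL(2, F) // (χ : SL(2, F) → ℂ) 1 = 1} = 1 ∧
      Nat.card {χ : Cfsg.IrrCharacter SL(2, F) // (χ : SL(2, F) → ℂ) 1 = qC} = 1 ∧
      Nat.card {χ : Cfsg.IrrCharacter SL(2, F) // (χ : SL(2, F) → ℂ) 1 = qC + 1} = (Fintype.card F - 3) / 2 ∧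
      Nat.card {χ : Cfsg.IrrCharacter SL(2, F) // (χ : SL(2, F) → ℂ) 1 = qC - 1} = (Fintype.card F - 1) / 2 ∧
      Nat.card {χ : Cfsg.IrrCharacter SL(2, F) // (χ : SL(2, F) → ℂ) 1 = (((Fintype.card F + 1) / 2 : ℕ) : ℂ)} = 2 ∧
      Nat.card {χ : Cfsg.IrrCharacter SL(2, F) // (χ : SL(2, F) → ℂ) 1 = (((Fintype.card F - 1) / 2 : ℕ) : ℂ)} = 2) := by
  classical
  obtain ⟨t₀, d₀, -, h₀⟩ := exists_irreducible (F := F)
  obtain ⟨T⟩ := exists_oddTable h₀ hodd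
  have hq1 : qC - 1 = ((Fintype.card F - 1 : ℕ) : ℂ) := by
    rw [Nat.cast_sub Fintype.card_pos, Nat.cast_one]
  have hq2 : qC + 1 = ((Fintype.card F + 1 : ℕ) : ℂ) := by push_cast; rfl
  have hm := Nat.odd_iff.1 hodd
  have hq3 := (Fintype.one_lt_card : 1 < Fintype.card F)
  constructor
  · intro χ hχ
    obtain ⟨n, hn, h⟩ := irr_SL_odd T hodd hχ
    rw [hn, hq1, hq2]
    simp only [← Nat.cast_one (R := ℂ), Nat.cast_inj]
    omega
  · intro hq
    obtain ⟨da, db, dc, de⟩ := T.deg_a hodd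
    have hcard : ∀ (k : ℕ) (S : Finset (SL(2, F) → ℂ)),
        (∀ χ ∈ S, Cfsg.IsIrrCharacter SL(2, F) χ ∧ χ 1 = (k : ℂ)) →
        (∀ χ, Cfsg.IsIrrCharacter SL(2, F) χ → χ 1 = (k : ℂ) → χ ∈ S) →
        Nat.card {χ : Cfsg.IrrCharacter SL(2, F) // (χ : SL(2, F) → ℂ) 1 = (k : ℂ)} = S.card :=
      fun k S h1 h2 => card_irr_subtype (fun χ => χ 1 = (k : ℂ)) S fun χ =>
        ⟨fun h => h2 χ h.1 h.2, h1 χ⟩
    have hsel : ∀ χ, Cfsg.IsIrrCharacter SL(2, F) χ → ∀ k : ℕ, χ 1 = (k : ℂ) →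
        (k = 1 → χ = fun _ => 1) ∧ (k = Fintype.card F → χ = stS F) ∧
        (k = Fintype.card F + 1 → χ ∈ prS F) ∧ (k = Fintype.card F - 1 → χ ∈ cuS h₀) ∧
        (k = (Fintype.card F + 1) / 2 → χ ∈ ({T.a, T.b} : Finset _)) ∧
        (k = (Fintype.card F - 1) / 2 → χ ∈ ({T.c, T.e} : Finset _)) := by
      intro χ hχ k hk
      obtain ⟨n, hn, h⟩ := irr_SL_odd T hodd hχ
      obtain rfl : n = k := by exact_mod_cast hn.symm.trans hk
      simp only [mem_prS, mem_cuS h₀, Finset.mem_insert, Finset.mem_singleton]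
      rcases h with ⟨e, h⟩ | ⟨e, h⟩ | ⟨e, h⟩ | ⟨e, h⟩ | ⟨e, h⟩ | ⟨e, h⟩ <;>
        refine ⟨?_, ?_, ?_, ?_, ?_, ?_⟩ <;> intro e' <;> first | exact h | (exfalso; omega)
    have c1 := card_prS (F := F)
    have c2 := card_cuS h₀
    rw [card_sq_mulChar_odd hodd] at c1
    rw [card_sq_torS_odd h₀ hodd] at c2
    rw [hq1, hq2]
    refine ⟨?_, ?_, ?_, ?_, ?_, ?_⟩
    · have := hcard 1 {fun _ => 1} (fun χ h => by
          rw [Finset.mem_singleton.1 h, Nat.cast_one]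
          exact ⟨CfsgLib.Char.isIrrCharacter_one, rfl⟩)
        (fun χ hχ h => Finset.mem_singleton.2 ((hsel χ hχ 1 h).1 rfl))
      simpa using this
    · rw [hcard (Fintype.card F) {stS F} (fun χ h => by
          rw [Finset.mem_singleton.1 h]; exact ⟨isIrr_stS, stS_apply_one⟩)
        (fun χ hχ h => Finset.mem_singleton.2 ((hsel χ hχ _ h).2.1 rfl)), Finset.card_singleton]
    · rw [hcard (Fintype.card F + 1) (prS F) (fun χ h => by
          obtain ⟨α, hα, rfl⟩ := mem_prS.1 h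
          exact ⟨(isIrr_indS_iff α).2 hα, by rw [indS_apply_one, hq2]⟩)
        (fun χ hχ h => (hsel χ hχ _ h).2.2.1 rfl)]
      omega
    · rw [hcard (Fintype.card F - 1) (cuS h₀) (fun χ h => by
          obtain ⟨ψ, hψ, rfl⟩ := (mem_cuS h₀).1 h
          exact ⟨isIrr_piS h₀ hψ, by rw [piS_apply_one, hq1]⟩)
        (fun χ hχ h => (hsel χ hχ _ h).2.2.2.1 rfl)]
      omega
    · rw [hcard ((Fintype.card F + 1) / 2) {T.a, T.b} (fun χ h => by
          simp only [Finset.mem_insert, Finset.mem_singleton] at h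
          rcases h with rfl | rfl
          exacts [⟨T.HI.ha, da⟩, ⟨T.HI.hb, db⟩])
        (fun χ hχ h => (hsel χ hχ _ h).2.2.2.2.1 rfl), Finset.card_pair T.HI.ne]
    · rw [hcard ((Fintype.card F - 1) / 2) {T.c, T.e} (fun χ h => by
          simp only [Finset.mem_insert, Finset.mem_singleton] at h
          rcases h with rfl | rfl
          exacts [⟨T.HP.ha, dc⟩, ⟨T.HP.hb, de⟩])
        (fun χ hχ h => (hsel χ hχ _ h).2.2.2.2.2 rfl), Finset.card_pair T.HP.ne]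

/-- The counts in characteristic two. -/
theorem degrees_SL_even (hev : Even (Fintype.card F)) :
    (∀ χ : SL(2, F) → ℂ, Cfsg.IsIrrCharacter SL(2, F) χ →
      χ 1 = 1 ∨ χ 1 = qC - 1 ∨ χ 1 = qC ∨ χ 1 = qC + 1) ∧
    (4 ≤ Fintype.card F →
      Nat.card {χ : Cfsg.IrrCharacter SL(2, F) // (χ : SL(2, F) → ℂ) 1 = 1} = 1 ∧
      Nat.card {χ : Cfsg.IrrCharacter SL(2, F) // (χ : SL(2, F) → ℂ) 1 = qC} = 1 ∧
      Nat.card {χ : Cfsg.IrrCharacter SL(2, F) // (χ : SL(2, F) → ℂ) 1 = qC + 1} = (Fintype.card F - 2) / 2 ∧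
      Nat.card {χ : Cfsg.IrrCharacter SL(2, F) // (χ : SL(2, F) → ℂ) 1 = qC - 1} = Fintype.card F / 2) := by
  classical
  obtain ⟨t₀, d₀, -, h₀⟩ := exists_irreducible (F := F)
  have hq1 : qC - 1 = ((Fintype.card F - 1 : ℕ) : ℂ) := by
    rw [Nat.cast_sub Fintype.card_pos, Nat.cast_one]
  have hq2 : qC + 1 = ((Fintype.card F + 1 : ℕ) : ℂ) := by push_cast; rfl
  have hm := Nat.even_iff.1 hev
  constructor
  · intro χ hχ
    obtain ⟨n, hn, h⟩ := irr_SL_even h₀ hev hχ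
    rw [hn, hq1, hq2]
    simp only [← Nat.cast_one (R := ℂ), Nat.cast_inj]
    omega
  · intro hq
    have hcard : ∀ (k : ℕ) (S : Finset (SL(2, F) → ℂ)),
        (∀ χ ∈ S, Cfsg.IsIrrCharacter SL(2, F) χ ∧ χ 1 = (k : ℂ)) →
        (∀ χ, Cfsg.IsIrrCharacter SL(2, F) χ → χ 1 = (k : ℂ) → χ ∈ S) →
        Nat.card {χ : Cfsg.IrrCharacter SL(2, F) // (χ : SL(2, F) → ℂ) 1 = (k : ℂ)} = S.card :=
      fun k S h1 h2 => card_irr_subtype (fun χ => χ 1 = (k : ℂ)) S fun χ =>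
        ⟨fun h => h2 χ h.1 h.2, h1 χ⟩
    have hsel : ∀ χ, Cfsg.IsIrrCharacter SL(2, F) χ → ∀ k : ℕ, χ 1 = (k : ℂ) →
        (k = 1 → χ = fun _ => 1) ∧ (k = Fintype.card F → χ = stS F) ∧
        (k = Fintype.card F + 1 → χ ∈ prS F) ∧ (k = Fintype.card F - 1 → χ ∈ cuS h₀) := by
      intro χ hχ k hk
      obtain ⟨n, hn, h⟩ := irr_SL_even h₀ hev hχ
      obtain rfl : n = k := by exact_mod_cast hn.symm.trans hk
      simp only [mem_prS, mem_cuS h₀]
      rcases h with ⟨e, h⟩ | ⟨e, h⟩ | ⟨e, h⟩ | ⟨e, h⟩ <;>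
        refine ⟨?_, ?_, ?_, ?_⟩ <;> intro e' <;> first | exact h | (exfalso; omega)
    have c1 := card_prS (F := F)
    have c2 := card_cuS h₀
    have e1 : Nat.card {α : MulChar F ℂ // α ^ 2 = 1} = 1 := by
      rw [Nat.card_eq_one_iff_unique]
      exact ⟨⟨fun a b => Subtype.ext ((mulChar_sq_two hev a.2).trans (mulChar_sq_two hev b.2).symm)⟩,
        ⟨⟨1, one_pow 2⟩⟩⟩
    have e2 : Nat.card {ψ : torS h₀ →* ℂˣ // ψ ^ 2 = 1} = 1 := by
      rw [Nat.card_eq_one_iff_unique]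
      have ho : Odd (Nat.card (torS h₀)) := by rw [card_torS]; exact hev.add_one
      exact ⟨⟨fun a b => Subtype.ext ((hom_sq_odd ho a.2).trans (hom_sq_odd ho b.2).symm)⟩,
        ⟨⟨1, hom_one_sq⟩⟩⟩
    rw [e1] at c1
    rw [e2] at c2
    rw [hq1, hq2]
    refine ⟨?_, ?_, ?_, ?_⟩
    · have := hcard 1 {fun _ => 1} (fun χ h => by
          rw [Finset.mem_singleton.1 h, Nat.cast_one]
          exact ⟨CfsgLib.Char.isIrrCharacter_one, rfl⟩)
        (fun χ hχ h => Finset.mem_singleton.2 ((hsel χ hχ 1 h).1 rfl))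
      simpa using this
    · rw [hcard (Fintype.card F) {stS F} (fun χ h => by
          rw [Finset.mem_singleton.1 h]; exact ⟨isIrr_stS, stS_apply_one⟩)
        (fun χ hχ h => Finset.mem_singleton.2 ((hsel χ hχ _ h).2.1 rfl)), Finset.card_singleton]
    · rw [hcard (Fintype.card F + 1) (prS F) (fun χ h => by
          obtain ⟨α, hα, rfl⟩ := mem_prS.1 h
          exact ⟨(isIrr_indS_iff α).2 hα, by rw [indS_apply_one, hq2]⟩)
        (fun χ hχ h => (hsel χ hχ _ h).2.2.1 rfl)]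
      omega
    · rw [hcard (Fintype.card F - 1) (cuS h₀) (fun χ h => by
          obtain ⟨ψ, hψ, rfl⟩ := (mem_cuS h₀).1 h
          exact ⟨isIrr_piS h₀ hψ, by rw [piS_apply_one, hq1]⟩)
        (fun χ hχ h => (hsel χ hχ _ h).2.2.2 rfl)]
      omega

theorem even_or_odd_card : Even (Fintype.card F) ∨ Odd (Fintype.card F) := Nat.even_or_odd _

/-- An irreducible character of degree `q` is the Steinberg character. -/
theorem eq_stS_of_degree {χ : SL(2, F) → ℂ} (hχ : Cfsg.IsIrrCharacter SL(2, F) χ) (h : χ 1 = qC) :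
    χ = stS F := by
  obtain ⟨t₀, d₀, -, h₀⟩ := exists_irreducible (F := F)
  have hq3 := (Fintype.one_lt_card : 1 < Fintype.card F)
  rcases Nat.even_or_odd (Fintype.card F) with hev | hodd
  · obtain ⟨n, hn, hc⟩ := irr_SL_even h₀ hev hχ
    have : n = Fintype.card F := by exact_mod_cast hn.symm.trans h
    rcases hc with ⟨e, he⟩ | ⟨e, he⟩ | ⟨e, he⟩ | ⟨e, he⟩ <;> first | exact he | (exfalso; omega)
  · obtain ⟨T⟩ := exists_oddTable h₀ hodd
    obtain ⟨n, hn, hc⟩ := irr_SL_odd T hodd hχ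
    have : n = Fintype.card F := by exact_mod_cast hn.symm.trans h
    have := Nat.odd_iff.1 hodd
    rcases hc with ⟨e, he⟩ | ⟨e, he⟩ | ⟨e, he⟩ | ⟨e, he⟩ | ⟨e, he⟩ | ⟨e, he⟩ <;>
      first | exact he | (exfalso; omega)

theorem steinberg_values (χ : SL(2, F) → ℂ) (hχ : Cfsg.IsIrrCharacter SL(2, F) χ)
    (hdeg : χ 1 = qC) (g : SL(2, F)) :
    ((g : Mat) 0 1 = 0 → (g : Mat) 1 0 = 0 → (g : Mat) 0 0 ^ 2 ≠ 1 → χ g = 1) ∧
    ((∀ (c : F) (v : Fin 2 → F), v ≠ 0 → (g : Mat).mulVec v ≠ c • v) → χ g = -1) ∧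
    ((g : Mat) 1 0 = 0 → (g : Mat) 0 0 = (g : Mat) 1 1 → (g : Mat) 0 1 ≠ 0 → χ g = 0) := by
  obtain rfl := eq_stS_of_degree hχ hdeg
  obtain ⟨h1, h2, h3, -⟩ := indS_values (1 : MulChar F ℂ) g
  refine ⟨fun a b c => ?_, fun h => ?_, fun a b c => ?_⟩
  · have hd := sl_det g
    rw [Matrix.det_fin_two, a, zero_mul, sub_zero] at hd
    rw [stS, Pi.sub_apply, h1 a b c, MulChar.one_apply (left_ne_zero_of_mul_eq_one hd).isUnit,
      MulChar.one_apply (right_ne_zero_of_mul_eq_one hd).isUnit]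
    norm_num
  · rw [stS, Pi.sub_apply, h2 h, zero_sub]
  · have hd := sl_det g
    rw [Matrix.det_fin_two, a, mul_zero, sub_zero] at hd
    rw [stS, Pi.sub_apply, h3 a b c, MulChar.one_apply (left_ne_zero_of_mul_eq_one hd).isUnit, sub_self]

/-- The degrees `q + 1`, `q - 1` pick out the two series for `q ≥ 4`. -/
theorem series_of_degree (h₀ : rts t₀ d₀ = ∅) (hq : 4 ≤ Fintype.card F) {χ : SL(2, F) → ℂ}
    (hχ : Cfsg.IsIrrCharacter SL(2, F) χ) :
    (χ 1 = qC + 1 → ∃ α : MulChar F ℂ, α ^ 2 ≠ 1 ∧ χ = indS α) ∧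
    (χ 1 = qC - 1 → ∃ ψ : torS h₀ →* ℂˣ, ψ ^ 2 ≠ 1 ∧ χ = piS h₀ ψ) := by
  have hq1 : qC - 1 = ((Fintype.card F - 1 : ℕ) : ℂ) := by
    rw [Nat.cast_sub Fintype.card_pos, Nat.cast_one]
  rw [hq1]
  rcases Nat.even_or_odd (Fintype.card F) with hev | hodd
  · obtain ⟨n, hn, hc⟩ := irr_SL_even h₀ hev hχ
    constructor <;> intro h
    · have : n = Fintype.card F + 1 := by exact_mod_cast hn.symm.trans h
      rcases hc with ⟨e, he⟩ | ⟨e, he⟩ | ⟨e, he⟩ | ⟨e, he⟩ <;> first | exact he | (exfalso; omega)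
    · have : n = Fintype.card F - 1 := by exact_mod_cast hn.symm.trans h
      rcases hc with ⟨e, he⟩ | ⟨e, he⟩ | ⟨e, he⟩ | ⟨e, he⟩ <;> first | exact he | (exfalso; omega)
  · obtain ⟨T⟩ := exists_oddTable h₀ hodd
    obtain ⟨n, hn, hc⟩ := irr_SL_odd T hodd hχ
    have := Nat.odd_iff.1 hodd
    constructor <;> intro h
    · have : n = Fintype.card F + 1 := by exact_mod_cast hn.symm.trans h
      rcases hc with ⟨e, he⟩ | ⟨e, he⟩ | ⟨e, he⟩ | ⟨e, he⟩ | ⟨e, he⟩ | ⟨e, he⟩ <;>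
        first | exact he | (exfalso; omega)
    · have : n = Fintype.card F - 1 := by exact_mod_cast hn.symm.trans h
      rcases hc with ⟨e, he⟩ | ⟨e, he⟩ | ⟨e, he⟩ | ⟨e, he⟩ | ⟨e, he⟩ | ⟨e, he⟩ <;>
        first | exact he | (exfalso; omega)

theorem sgT_one (h₀ : rts t₀ d₀ = ∅) : sgT h₀ (⟨1, sg_one⟩ : Sg F) = 1 := by
  refine Subtype.ext (Subtype.ext ?_)
  show ((scalSL (1 : F) (one_pow 2) : SL(2, F)) : Mat) = 1
  rw [coe_scalSL, one_smul]

theorem transvection_values (hq : 4 ≤ Fintype.card F) (χ : SL(2, F) → ℂ)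
    (hχ : Cfsg.IsIrrCharacter SL(2, F) χ) (u : SL(2, F)) (hu : (u : Mat) = !![1, 1; 0, 1]) :
    (χ 1 = qC + 1 → χ u = 1) ∧ (χ 1 = qC - 1 → χ u = -1) := by
  obtain ⟨t₀, d₀, -, h₀⟩ := exists_irreducible (F := F)
  obtain rfl : u = parSL (1 : F) 1 (one_pow 2) := Subtype.ext (hu.trans (coe_parSL _ _ _).symm)
  obtain ⟨h1, h2⟩ := series_of_degree h₀ hq hχ
  refine ⟨fun h => ?_, fun h => ?_⟩
  · obtain ⟨α, -, rfl⟩ := h1 h
    rw [indS_par α ⟨1, sg_one⟩ one_ne_zero, map_one]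
  · obtain ⟨ψ, -, rfl⟩ := h2 h
    rw [piS_par h₀ ψ ⟨1, sg_one⟩ one_ne_zero, sgT_one, map_one, Units.val_one]

end CfsgLib.KnownB.GL2
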