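import Cfsg.Agent.Lib.KnownB.GL2.TableSLValues
import Cfsg.Agent.Lib.Blocks.Defect2
import Cfsg.Agent.Lib.Blocks.DefectGroup

/-!
The blocks of `SL₂` in its own odd characteristic.
-/

set_option autoImplicit false

namespace CfsgLib.KnownB.GL2

open scoped MatrixGroups ComplexConjugate
open Cfsg CfsgLib.Blocks

variable {F : Type*} [Field F] [Fintype F] [DecidableEq F] {t₀ d₀ : F}

local notation "Mat" => Matrix (Fin 2) (Fin 2) F
local notation "qC" => (Fintype.card F : ℂ)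

theorem index_cast (g : SL(2, F)) {k : ℂ}
    (hk : (Nat.card (Subgroup.centralizer ({g} : Set SL(2, F))) : ℂ) = k) :
    ((Subgroup.centralizer ({g} : Set SL(2, F))).index : ℂ) * k = qC * (qC ^ 2 - 1) := by
  rw [← hk, ← Nat.cast_mul, Subgroup.index_mul_card, cast_card_SL]

theorem index_scal (r : Sg F) :
    ((Subgroup.centralizer ({scalSL r.1 (sg_sq r)} : Set SL(2, F))).index : ℂ) = 1 := by
  rw [show Subgroup.centralizer ({scalSL r.1 (sg_sq r)} : Set SL(2, F)) = ⊤ from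
    eq_top_iff.2 fun x _ => Subgroup.mem_centralizer_singleton_iff.2
      (Subgroup.mem_center_iff.1 (scal_center (scal_scalSL _ _)) x), Subgroup.index_top, Nat.cast_one]

theorem index_diag {a : Fˣ} (ha : (a : F) ^ 2 ≠ 1) :
    ((Subgroup.centralizer ({diagSL a} : Set SL(2, F))).index : ℂ) = qC * (qC + 1) := by
  have hk : (rts (diagSL a : Mat).trace 1).card = 2 := by rw [rts_diagSL, Finset.card_pair (diag_ne ha)]
  have h := index_cast _ (cast_centSL _ (not_scal_diagSL ha) 2 hk)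
  rw [if_neg (by norm_num)] at h
  have hq1 : qC - 1 ≠ 0 := by
    rw [sub_ne_zero]; exact_mod_cast (Fintype.one_lt_card : 1 < Fintype.card F).ne'
  push_cast at h
  exact mul_right_cancel₀ hq1 (by linear_combination h)

theorem index_tor {h₀ : rts t₀ d₀ = ∅} {c : torS h₀} (hc : ¬ Scal ((c : SL(2, F)) : Mat)) :
    ((Subgroup.centralizer ({(c : SL(2, F))} : Set SL(2, F))).index : ℂ) = qC * (qC - 1) := by
  have hk : (rts ((c : SL(2, F)) : Mat).trace 1).card = 0 := by rw [rts_torS h₀ hc, Finset.card_empty]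
  have h := index_cast _ (cast_centSL _ hc 0 hk)
  rw [if_neg (by norm_num)] at h
  have hq2 : qC + 1 ≠ 0 := by exact_mod_cast Nat.succ_ne_zero (Fintype.card F)
  push_cast at h
  exact mul_right_cancel₀ hq2 (by linear_combination h)

theorem index_par (hodd : Odd (Fintype.card F)) (r : Sg F) (b : Fˣ) :
    ((Subgroup.centralizer ({parSL r.1 b (sg_sq r)} : Set SL(2, F))).index : ℂ) = (qC ^ 2 - 1) / 2 := by
  have hk : (rts (parSL r.1 (b : F) (sg_sq r) : Mat).trace 1).card = 1 := by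
    rw [trace_parSL]
    nth_rewrite 1 [← sg_sq r]
    exact card_rts_double _
  have h := index_cast _ (cast_centSL _ (not_scal_parSL (sg_sq r) b.ne_zero) 1 hk)
  rw [if_pos rfl, card_signs_odd (two_ne_zero_of_odd hodd)] at h
  have hq0 : qC ≠ 0 := by exact_mod_cast Fintype.card_ne_zero
  push_cast at h
  field_simp
  exact mul_left_cancel₀ hq0 (by linear_combination h)

theorem Halves.diff_par_sq {h₀ : rts t₀ d₀ = ∅} {θ a b : SL(2, F) → ℂ} (H : Halves h₀ θ a b)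
    (h2 : (2 : F) ≠ 0) (r : Sg F) (v : Fˣ) :
    ∃ ω : ℂ, ‖ω‖ = 1 ∧ (a - b) (parSL r.1 v (sg_sq r)) ^ 2 =
      ω ^ 2 * ((-1 : ℂ) ^ ((Fintype.card F - 1) / 2) * qC) := by
  have hm : scalSL r.1 (sg_sq r) * parSL 1 ((sgU r * v : Fˣ) : F) (one_pow 2) =
      parSL r.1 v (sg_sq r) := by
    refine Subtype.ext ?_
    show (scalSL r.1 (sg_sq r) : Mat) * (parSL 1 ((sgU r * v : Fˣ) : F) (one_pow 2) : Mat) = _
    rw [coe_scalSL, coe_parSL]
    show _ = !![r.1, (v : F); 0, r.1]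
    ext i j
    fin_cases i <;> fin_cases j <;> simp [sgU, ← mul_assoc, ← sq, sg_sq r]
  obtain ⟨ω, hω, hv⟩ := H.central_mul r (parSL 1 ((sgU r * v : Fˣ) : F) (one_pow 2))
  rw [hm] at hv
  refine ⟨ω, hω, ?_⟩
  rw [hv, mul_pow]
  congr 1
  set x := sgU r * v
  by_cases hx : x ∈ sqUnits F
  · obtain ⟨t, ht⟩ := mem_sqUnits.1 hx
    rw [← H.diff_sq h2, H.diff_class _ _ ((parSL_isConj (one_pow 2) (one_pow 2) one_ne_zero).2
      ⟨rfl, (t : F), t.ne_zero, by rw [one_mul, ← Units.val_pow_eq_pow_val, ht]⟩)]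
  · have h := H.diff_par h2 (e := x⁻¹) (fun h => hx (inv_mem_iff.1 h)) ⟨1, sg_one⟩ 1
    rw [inv_inv, one_mul] at h
    rw [← H.diff_sq h2, ← neg_sq ((a - b) (parSL 1 1 (one_pow 2)))]
    exact congrArg (· ^ 2) h

section Cong

variable {p : ℕ} [hpf : Fact p.Prime] [CharP F p] {M : Ideal AlgInt}

theorem q_LI (hM : IsPModular p M) : MemLocalIdeal M qC := by
  obtain ⟨n, -, hn⟩ := FiniteField.card F p
  exact (LI.natCast_iff hM _).2 (hn ▸ dvd_pow_self p n.ne_zero)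

theorem q_mul_LI (hM : IsPModular p M) {x : ℂ} (hx : MemLocalRing M x) :
    MemLocalIdeal M (qC * x) := LI.mul_right hM (q_LI hM) hx

theorem half_LR (hM : IsPModular p M) (hp : p ≠ 2) : MemLocalRing M ((2 : ℂ)⁻¹) := by
  have h : ¬ MemLocalIdeal M (((2 : ℕ) : ℂ)) := fun h =>
    hp ((Nat.prime_dvd_prime_iff_eq hM.1 Nat.prime_two).1 ((LI.natCast_iff hM 2).1 h))
  have := LR.inv hM (LR.natCast hM 2) h
  rwa [Nat.cast_ofNat] at this

/-- The shape of central characters outside the Steinberg character. -/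
theorem cc_shape (hM : IsPModular p M) (hp : p ≠ 2) {h₀ : rts t₀ d₀ = ∅} (T : OddTable h₀)
    (hodd : Odd (Fintype.card F)) (χ : IrrCharacter SL(2, F)) (hne : (χ : SL(2, F) → ℂ) ≠ stS F) :
    ∃ w : Sg F → ℂ, (∀ r, (χ : SL(2, F) → ℂ) (scalSL r.1 (sg_sq r)) = w r * (χ : SL(2, F) → ℂ) 1) ∧
      (∀ r, w r ^ 2 = 1) ∧
      (∀ a : Fˣ, (a : F) ^ 2 ≠ 1 → MemLocalIdeal M (centralChar (χ : SL(2, F) → ℂ) (diagSL a))) ∧
      (∀ c : torS h₀, ¬ Scal ((c : SL(2, F)) : Mat) →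
        MemLocalIdeal M (centralChar (χ : SL(2, F) → ℂ) (c : SL(2, F)))) ∧
      (∀ (r : Sg F) (b : Fˣ),
        MemLocalIdeal M (centralChar (χ : SL(2, F) → ℂ) (parSL r.1 b (sg_sq r)) + w r / 2)) ∧
      ¬ p ∣ charDegree (χ : SL(2, F) → ℂ) := by
  have hint : ∀ g, MemLocalRing M ((χ : SL(2, F) → ℂ) g) := fun g =>
    LR.of_isIntegral hM (irr_isIntegral χ g)
  have hχ1 := irr_one_ne_zero χ
  obtain ⟨m, hm⟩ := id hodd
  have hqm : qC = 2 * (m : ℂ) + 1 := by rw [hm]; push_cast; ring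
  have hpq : p ∣ Fintype.card F := by
    obtain ⟨n, -, hn⟩ := FiniteField.card F p
    exact hn ▸ dvd_pow_self p n.ne_zero
  have hdeg : ∀ n : ℕ, (χ : SL(2, F) → ℂ) 1 = n → (2 * n = 2 * Fintype.card F + 2 ∨ 2 * n + 2 = 2 * Fintype.card F ∨
      2 * n = Fintype.card F + 1 ∨ 2 * n + 1 = Fintype.card F ∨ n = 1) →
      ¬ p ∣ charDegree (χ : SL(2, F) → ℂ) := by
    intro n hn hc hd
    rw [show charDegree (χ : SL(2, F) → ℂ) = n by
      rw [charDegree, hn, Complex.natCast_re, Nat.floor_natCast]] at hd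
    have h2 : p ∣ 2 * n := dvd_mul_of_dvd_right hd 2
    have h3 : ¬ p ∣ 2 := fun h => hp ((Nat.prime_dvd_prime_iff_eq hM.1 Nat.prime_two).1 h)
    rcases hc with h | h | h | h | rfl
    · rw [h] at h2; exact h3 ((Nat.dvd_add_right (dvd_mul_of_dvd_right hpq 2)).1 h2)
    · exact h3 ((Nat.dvd_add_right h2).1 (h ▸ dvd_mul_of_dvd_right hpq 2))
    · rw [h] at h2; exact hM.1.ne_one (Nat.dvd_one.1 ((Nat.dvd_add_right hpq).1 h2))
    · exact hM.1.ne_one (Nat.dvd_one.1 ((Nat.dvd_add_right h2).1 (h ▸ hpq)))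
    · exact hM.1.ne_one (Nat.dvd_one.1 hd)
  have hsg : ∀ r : Sg F, r.1 * r.1 = (1 : F) := fun r => by rw [← sq]; exact sg_sq r
  have hαsq : ∀ (α : MulChar F ℂ) (r : Sg F), α r.1 ^ 2 = 1 := fun α r => by
    rw [sq, ← map_mul, hsg r, map_one]
  have hψsq : ∀ (ψ : torS h₀ →* ℂˣ) (r : Sg F), (ψ (sgT h₀ r) : ℂ) ^ 2 = 1 := fun ψ r => by
    rw [← Units.val_pow_eq_pow_val, ← map_pow, show sgT h₀ r ^ 2 = 1 from ?_, map_one, Units.val_one]
    refine Subtype.ext (Subtype.ext ?_)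
    show (((sgT h₀ r : torS h₀) : SL(2, F)) ^ 2 : SL(2, F)).1 = 1
    rw [Matrix.SpecialLinearGroup.coe_pow, coe_sgT, coe_scalSL, smul_pow, one_pow, sg_sq r, one_smul]
  have cc : ∀ g (k : ℂ), ((Subgroup.centralizer ({g} : Set SL(2, F))).index : ℂ) = k →
      centralChar (χ : SL(2, F) → ℂ) g = k * (χ : SL(2, F) → ℂ) g / (χ : SL(2, F) → ℂ) 1 :=
    fun g k h => by rw [centralChar, h]
  have hq0 : qC ≠ 0 := by exact_mod_cast Fintype.card_ne_zero
  have hq2 : qC + 1 ≠ 0 := by exact_mod_cast Nat.succ_ne_zero (Fintype.card F)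
  have hq1 : qC - 1 ≠ 0 := by
    rw [sub_ne_zero]; exact_mod_cast (Fintype.one_lt_card : 1 < Fintype.card F).ne'
  have hfLI : ∀ {θ a b : SL(2, F) → ℂ}, Halves h₀ θ a b → ∀ (r : Sg F) (v : Fˣ),
      MemLocalIdeal M ((a - b) (parSL r.1 v (sg_sq r))) := by
    intro θ a b H r v
    set f := (a - b) (parSL r.1 v (sg_sq r)) with hf
    obtain ⟨ω, hω1, hω⟩ := H.diff_par_sq (two_ne_zero_of_odd hodd) r v
    have hR : MemLocalRing M f := LR.sub hM
      (LR.of_isIntegral hM (irr_isIntegral ⟨a, H.ha⟩ _)) (LR.of_isIntegral hM (irr_isIntegral ⟨b, H.hb⟩ _))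
    have hnorm : f * conj f = qC := by
      rw [Complex.mul_conj']
      have e : ‖f‖ ^ 2 = (Fintype.card F : ℝ) := by
        rw [← norm_pow, hω, norm_mul, norm_pow, hω1, norm_mul, norm_pow, norm_neg, norm_one, one_pow,
          one_pow, one_mul, one_mul, Complex.norm_natCast]
      rw [← Complex.ofReal_pow, e, Complex.ofReal_natCast]
    have hinv : conj f = (a - b) (parSL r.1 ((v * -1 : Fˣ) : F) (sg_sq r)) := by
      have hi : (parSL r.1 (v : F) (sg_sq r) : SL(2, F))⁻¹ = parSL r.1 ((v * -1 : Fˣ) : F) (sg_sq r) := by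
        refine inv_eq_of_mul_eq_one_right (Subtype.ext ?_)
        show (parSL r.1 (v : F) (sg_sq r) : Mat) * (parSL r.1 ((v * -1 : Fˣ) : F) (sg_sq r) : Mat) = 1
        rw [coe_parSL, coe_parSL]
        ext i j
        fin_cases i <;> fin_cases j <;>
          simp [Matrix.mul_apply, Fin.sum_univ_two, hsg r, mul_comm r.1]
      rw [← hi, hf, Pi.sub_apply, Pi.sub_apply, CfsgLib.Char.IsIrrCharacter.apply_inv H.ha,
        CfsgLib.Char.IsIrrCharacter.apply_inv H.hb, map_sub]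
    have hpm : conj f = f ∨ conj f = -f := by
      rw [hinv, hf]
      by_cases hm1 : (-1 : Fˣ) ∈ sqUnits F
      · left
        obtain ⟨t, ht⟩ := mem_sqUnits.1 hm1
        refine (H.diff_class _ _ ((parSL_isConj (sg_sq r) (sg_sq r) v.ne_zero).2 ⟨rfl, (t : F), t.ne_zero, ?_⟩)).symm
        rw [← Units.val_pow_eq_pow_val, ← Units.val_mul, ht]
      · right
        have h := H.diff_par (two_ne_zero_of_odd hodd) (e := -1) hm1 r v
        rwa [inv_neg, inv_one] at h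
    rcases hpm with h | h <;> rw [h] at hnorm
    · exact LI.of_pow hM hR (n := 2) (by rw [sq, hnorm]; exact q_LI hM)
    · exact LI.of_pow hM hR (n := 2) (by rw [sq, show f * f = -qC by rw [← hnorm]; ring]; exact LI.neg (q_LI hM))
  rcases irr_SL_odd T hodd χ.2 with ⟨n, hn, hc⟩
  rcases hc with ⟨e, h⟩ | ⟨e, h⟩ | ⟨e, α, hα, h⟩ | ⟨e, ψ, hψ, h⟩ | ⟨e, h⟩ | ⟨e, h⟩
  · refine ⟨fun _ => 1, fun r => by rw [h]; simp, fun _ => by norm_num, fun a ha => ?_,
      fun c hc => ?_, fun r b => ?_, hdeg n hn (by omega)⟩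
    · rw [cc _ _ (index_diag ha), h]
      simp only [mul_one, div_one]
      exact q_mul_LI hM (LR.add hM (LR.natCast hM _) (LR.one hM))
    · rw [cc _ _ (index_tor hc), h]
      simp only [mul_one, div_one]
      exact q_mul_LI hM (LR.sub hM (LR.natCast hM _) (LR.one hM))
    · rw [cc _ _ (index_par hodd r b), h]
      simp only [mul_one, div_one]
      rw [show (qC ^ 2 - 1) / 2 + 1 / 2 = qC * (qC * 2⁻¹) by ring]
      exact q_mul_LI hM (LR.mul hM (LR.natCast hM _) (half_LR hM hp))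
  · exact absurd h hne
  · refine ⟨fun r => α r.1, fun r => by rw [h, indS_sg, indS_apply_one]; ring, hαsq α,
      fun a ha => ?_, fun c hc => ?_, fun r b => ?_, hdeg n hn (by omega)⟩
    · rw [cc _ _ (index_diag ha), show (χ : SL(2, F) → ℂ) 1 = qC + 1 by rw [h, indS_apply_one],
        show qC * (qC + 1) * (χ : SL(2, F) → ℂ) (diagSL a) / (qC + 1) = qC * (χ : SL(2, F) → ℂ) (diagSL a) by field_simp]
      exact q_mul_LI hM (hint _)
    · rw [cc _ _ (index_tor hc), h, indS_tor α hc, mul_zero, zero_div]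
      exact LI.zero hM
    · have hv : (χ : SL(2, F) → ℂ) (parSL r.1 b (sg_sq r)) = α r.1 := by rw [h, indS_par α r b.ne_zero]
      rw [cc _ _ (index_par hodd r b), show (χ : SL(2, F) → ℂ) 1 = qC + 1 by rw [h, indS_apply_one],
        show (qC ^ 2 - 1) / 2 * (χ : SL(2, F) → ℂ) (parSL r.1 b (sg_sq r)) / (qC + 1) + α r.1 / 2 =
          qC * ((χ : SL(2, F) → ℂ) (parSL r.1 b (sg_sq r)) * 2⁻¹) by rw [hv]; field_simp; ring]
      exact q_mul_LI hM (LR.mul hM (hint _) (half_LR hM hp))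
  · refine ⟨fun r => (ψ (sgT h₀ r) : ℂ), fun r => by rw [h, piS_scal, piS_apply_one]; ring, hψsq ψ,
      fun a ha => ?_, fun c hc => ?_, fun r b => ?_, hdeg n hn (by omega)⟩
    · rw [cc _ _ (index_diag ha), h, piS_diag h₀ ψ ha, mul_zero, zero_div]
      exact LI.zero hM
    · rw [cc _ _ (index_tor hc), show (χ : SL(2, F) → ℂ) 1 = qC - 1 by rw [h, piS_apply_one],
        show qC * (qC - 1) * (χ : SL(2, F) → ℂ) c / (qC - 1) = qC * (χ : SL(2, F) → ℂ) c by field_simp]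
      exact q_mul_LI hM (hint _)
    · have hv : (χ : SL(2, F) → ℂ) (parSL r.1 b (sg_sq r)) = -(ψ (sgT h₀ r) : ℂ) := by
        rw [h, piS_par h₀ ψ r b.ne_zero]
      rw [cc _ _ (index_par hodd r b), show (χ : SL(2, F) → ℂ) 1 = qC - 1 by rw [h, piS_apply_one],
        show (qC ^ 2 - 1) / 2 * (χ : SL(2, F) → ℂ) (parSL r.1 b (sg_sq r)) / (qC - 1) + (ψ (sgT h₀ r) : ℂ) / 2 =
          qC * ((χ : SL(2, F) → ℂ) (parSL r.1 b (sg_sq r)) * 2⁻¹) by rw [hv]; field_simp; ring]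
      exact q_mul_LI hM (LR.mul hM (hint _) (half_LR hM hp))
  · obtain ⟨a', b', H, hab⟩ : ∃ a' b', Halves h₀ (indS T.α) a' b' ∧ (χ : SL(2, F) → ℂ) = a' := by
      rcases h with h | h
      exacts [⟨_, _, T.HI, h⟩, ⟨_, _, T.HI.symm, h⟩]
    have h1 : (χ : SL(2, F) → ℂ) 1 = (qC + 1) / 2 := by rw [hab, H.apply_one, indS_apply_one]
    refine ⟨fun r => T.α r.1, fun r => by
        rw [h1, hab, (H.semi_eq (Or.inl (scal_scalSL _ _))).1, indS_sg]; ring, hαsq T.α,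
      fun u hu => ?_, fun c hc => ?_, fun r v => ?_, hdeg n hn (by omega)⟩
    · rw [cc _ _ (index_diag hu), h1, show qC * (qC + 1) * (χ : SL(2, F) → ℂ) (diagSL u) / ((qC + 1) / 2) =
          qC * ((2 : ℕ) * (χ : SL(2, F) → ℂ) (diagSL u)) by push_cast; field_simp]
      exact q_mul_LI hM (LR.mul hM (LR.natCast hM _) (hint _))
    · rw [cc _ _ (index_tor hc), hab, (H.semi_eq (semi_tor hc)).1, indS_tor _ hc, zero_div, mul_zero,
        zero_div]
      exact LI.zero hM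
    · have hv : a' (parSL r.1 v (sg_sq r)) + b' (parSL r.1 v (sg_sq r)) = T.α r.1 := by
        rw [← Pi.add_apply, ← H.add, indS_par T.α r v.ne_zero]
      rw [cc _ _ (index_par hodd r v), h1, show (qC ^ 2 - 1) / 2 * (χ : SL(2, F) → ℂ) (parSL r.1 v (sg_sq r)) / ((qC + 1) / 2) + T.α r.1 / 2 =
          qC * (χ : SL(2, F) → ℂ) (parSL r.1 v (sg_sq r)) - (a' - b') (parSL r.1 v (sg_sq r)) * 2⁻¹ by
        rw [hab, Pi.sub_apply, ← hv]; field_simp; ring]
      exact LI.sub hM (q_mul_LI hM (hint _)) (LI.mul_right hM (hfLI H r v) (half_LR hM hp))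
  · obtain ⟨a', b', H, hab⟩ : ∃ a' b', Halves h₀ (piS h₀ T.ψ) a' b' ∧ (χ : SL(2, F) → ℂ) = a' := by
      rcases h with h | h
      exacts [⟨_, _, T.HP, h⟩, ⟨_, _, T.HP.symm, h⟩]
    have h1 : (χ : SL(2, F) → ℂ) 1 = (qC - 1) / 2 := by rw [hab, H.apply_one, piS_apply_one]
    refine ⟨fun r => (T.ψ (sgT h₀ r) : ℂ), fun r => by
        rw [h1, hab, (H.semi_eq (Or.inl (scal_scalSL _ _))).1, piS_scal]; ring, hψsq T.ψ,
      fun u hu => ?_, fun c hc => ?_, fun r v => ?_, hdeg n hn (by omega)⟩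
    · rw [cc _ _ (index_diag hu), hab, (H.semi_eq (semi_diag hu)).1, piS_diag h₀ _ hu, zero_div, mul_zero,
        zero_div]
      exact LI.zero hM
    · rw [cc _ _ (index_tor hc), h1, show qC * (qC - 1) * (χ : SL(2, F) → ℂ) c / ((qC - 1) / 2) =
          qC * ((2 : ℕ) * (χ : SL(2, F) → ℂ) c) by push_cast; field_simp]
      exact q_mul_LI hM (LR.mul hM (LR.natCast hM _) (hint _))
    · have hv : a' (parSL r.1 v (sg_sq r)) + b' (parSL r.1 v (sg_sq r)) = -(T.ψ (sgT h₀ r) : ℂ) := by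
        rw [← Pi.add_apply, ← H.add, piS_par h₀ T.ψ r v.ne_zero]
      rw [cc _ _ (index_par hodd r v), h1, show (qC ^ 2 - 1) / 2 * (χ : SL(2, F) → ℂ) (parSL r.1 v (sg_sq r)) / ((qC - 1) / 2) + (T.ψ (sgT h₀ r) : ℂ) / 2 =
          qC * (χ : SL(2, F) → ℂ) (parSL r.1 v (sg_sq r)) + (a' - b') (parSL r.1 v (sg_sq r)) * 2⁻¹ by
        rw [hab, Pi.sub_apply, ← neg_eq_iff_eq_neg.2 hv]; field_simp; ring]
      exact LI.add hM (q_mul_LI hM (hint _)) (LI.mul_right hM (hfLI H r v) (half_LR hM hp))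

theorem scalSL_neg_one : scalSL (-1 : F) (neg_one_sq) = (-1 : SL(2, F)) := by
  apply Matrix.SpecialLinearGroup.ext
  intro i j
  show ((scalSL (-1 : F) neg_one_sq : SL(2, F)) : Mat) i j = ((-1 : SL(2, F)) : Mat) i j
  rw [coe_scalSL, Matrix.SpecialLinearGroup.coe_neg, Matrix.SpecialLinearGroup.coe_one, neg_one_smul]

/-- The three blocks. -/
theorem blocks_SL2 (p : ℕ) [Fact p.Prime] [CharP F p] (hp : p ≠ 2) (M : Ideal AlgInt)
    (hM : IsPModular p M) :
    (∀ B : Set (IrrCharacter SL(2, F)), IsPBlock M B ↔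
      (B = {χ : IrrCharacter SL(2, F) | (χ : SL(2, F) → ℂ) 1 = qC} ∨
       B = {χ : IrrCharacter SL(2, F) | (χ : SL(2, F) → ℂ) (-1) = (χ : SL(2, F) → ℂ) 1 ∧ (χ : SL(2, F) → ℂ) 1 ≠ qC} ∨
       B = {χ : IrrCharacter SL(2, F) | (χ : SL(2, F) → ℂ) (-1) = -(χ : SL(2, F) → ℂ) 1})) ∧
    Nat.card {B : Set (IrrCharacter SL(2, F)) // IsPBlock M B} = 3 ∧
    ∀ P : Sylow p SL(2, F),
      IsDefectGroup p M {χ : IrrCharacter SL(2, F) | (χ : SL(2, F) → ℂ) (-1) = (χ : SL(2, F) → ℂ) 1 ∧ (χ : SL(2, F) → ℂ) 1 ≠ qC} (P : Subgroup SL(2, F)) ∧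
      IsDefectGroup p M {χ : IrrCharacter SL(2, F) | (χ : SL(2, F) → ℂ) (-1) = -(χ : SL(2, F) → ℂ) 1} (P : Subgroup SL(2, F)) := by
  classical
  obtain ⟨t₀, d₀, -, h₀⟩ := exists_irreducible (F := F)
  have hF2 : ringChar F ≠ 2 := by rw [ringChar.eq F p]; exact hp
  have hodd : Odd (Fintype.card F) := Nat.odd_iff.2 (FiniteField.odd_card_of_char_ne_two hF2)
  obtain ⟨T⟩ := exists_oddTable h₀ hodd
  have h2 := two_ne_zero_of_odd hodd
  have hq3 := (Fintype.one_lt_card : 1 < Fintype.card F)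
  have hqodd := Nat.odd_iff.1 hodd
  set St : IrrCharacter SL(2, F) := ⟨stS F, isIrr_stS⟩ with hSt
  have hdegSt : ∀ χ : IrrCharacter SL(2, F), (χ : SL(2, F) → ℂ) 1 = qC ↔ χ = St := fun χ =>
    ⟨fun h => Subtype.ext (eq_stS_of_degree χ.2 h), fun h => by rw [h]; exact stS_apply_one⟩
  let m1 : Sg F := ⟨-1, mem_signs.2 neg_one_sq⟩
  let one' : Sg F := ⟨1, sg_one⟩
  have hm1 : scalSL m1.1 (sg_sq m1) = (-1 : SL(2, F)) := scalSL_neg_one
  have hone : scalSL one'.1 (sg_sq one') = (1 : SL(2, F)) := Subtype.ext (by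
    show ((scalSL (1 : F) (one_pow 2) : SL(2, F)) : Mat) = 1; rw [coe_scalSL, one_smul])
  have hstm1 : stS F (-1) = qC := by
    rw [← hm1, stS, Pi.sub_apply, indS_sg, MulChar.one_apply (sg_ne m1).isUnit]; ring
  have hsigns : ∀ r : Sg F, r = one' ∨ r = m1 := fun r => by
    rcases sq_eq_one_iff.1 (sg_sq r) with h | h
    exacts [Or.inl (Subtype.ext h), Or.inr (Subtype.ext h)]
  have hnotLI2 : ¬ MemLocalIdeal M (2 : ℂ) := fun h => hp ((Nat.prime_dvd_prime_iff_eq hM.1 Nat.prime_two).1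
    ((LI.natCast_iff hM 2).1 (by exact_mod_cast h)))
  have hhalf : ¬ MemLocalIdeal M ((1 : ℂ) / 2) := fun h => by
    have h' := LI.mul_left hM (LR.natCast hM 2) h
    push_cast at h'
    rw [mul_one_div_cancel two_ne_zero] at h'
    exact LI.not_one hM h'
  -- non-Steinberg characters
  have hw : ∀ χ : IrrCharacter SL(2, F), χ ≠ St → ∃ s : ℂ, (s = 1 ∨ s = -1) ∧
      (χ : SL(2, F) → ℂ) (-1) = s * (χ : SL(2, F) → ℂ) 1 ∧ ¬ p ∣ charDegree (χ : SL(2, F) → ℂ) := fun χ hne => by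
    obtain ⟨w, h1, hsq, -, -, -, hd⟩ := cc_shape hM hp T hodd χ (fun h => hne (Subtype.ext h))
    exact ⟨w m1, sq_eq_one_iff.1 (hsq m1), by rw [← hm1, h1], hd⟩
  have hsame : ∀ χ ψ : IrrCharacter SL(2, F), χ ≠ St → ψ ≠ St →
      (SameBlock M (χ : SL(2, F) → ℂ) (ψ : SL(2, F) → ℂ) ↔
        (χ : SL(2, F) → ℂ) (-1) / (χ : SL(2, F) → ℂ) 1 = (ψ : SL(2, F) → ℂ) (-1) / (ψ : SL(2, F) → ℂ) 1) := by
    intro χ ψ hχ hψ
    obtain ⟨w, h1, hsq, hd, hc, hu, -⟩ := cc_shape hM hp T hodd χ (fun h => hχ (Subtype.ext h))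
    obtain ⟨v, k1, ksq, kd, kc, ku, -⟩ := cc_shape hM hp T hodd ψ (fun h => hψ (Subtype.ext h))
    have hcs : ∀ r : Sg F, centralChar (χ : SL(2, F) → ℂ) (scalSL r.1 (sg_sq r)) = w r := fun r => by
      rw [centralChar, index_scal, one_mul, h1, mul_div_cancel_right₀ _ (irr_one_ne_zero χ)]
    have kcs : ∀ r : Sg F, centralChar (ψ : SL(2, F) → ℂ) (scalSL r.1 (sg_sq r)) = v r := fun r => by
      rw [centralChar, index_scal, one_mul, k1, mul_div_cancel_right₀ _ (irr_one_ne_zero ψ)]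
    have e1 : (χ : SL(2, F) → ℂ) (-1) / (χ : SL(2, F) → ℂ) 1 = w m1 := by
      rw [← hm1, h1, mul_div_cancel_right₀ _ (irr_one_ne_zero χ)]
    have e2 : (ψ : SL(2, F) → ℂ) (-1) / (ψ : SL(2, F) → ℂ) 1 = v m1 := by
      rw [← hm1, k1, mul_div_cancel_right₀ _ (irr_one_ne_zero ψ)]
    rw [e1, e2]
    constructor
    · intro h
      have := h (scalSL m1.1 (sg_sq m1))
      rw [hcs, kcs] at this
      rcases sq_eq_one_iff.1 (hsq m1) with a | a <;> rcases sq_eq_one_iff.1 (ksq m1) with b | b <;>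
        rw [a, b] at this ⊢
      · norm_num at this; exact absurd this hnotLI2
      · norm_num at this
        exact absurd (by simpa using LI.neg this) hnotLI2
    · intro hwv g
      have hwr : ∀ r, w r = v r := fun r => by
        rcases hsigns r with rfl | rfl
        · have a := h1 one'
          have b := k1 one'
          rw [hone] at a b
          rw [(mul_eq_right₀ (irr_one_ne_zero χ)).1 a.symm, (mul_eq_right₀ (irr_one_ne_zero ψ)).1 b.symm]
        · exact hwv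
      have hcl : ∀ (φ : IrrCharacter SL(2, F)) (x y : SL(2, F)), IsConj x y →
          centralChar (φ : SL(2, F) → ℂ) x = centralChar (φ : SL(2, F) → ℂ) y :=
        fun φ x y hxy => isClassFun_iff.1 (fun a b => centralChar_isClassFunction φ a b) x y hxy
      rcases sl_cases h₀ g with ⟨r, rfl⟩ | ⟨r, b, hg⟩ | ⟨a, ha, hg⟩ | ⟨c, hc0, hg⟩
      · rw [hcs, kcs, hwr, sub_self]; exact LI.zero hM
      · rw [← hcl χ _ _ hg, ← hcl ψ _ _ hg]
        have := LI.sub hM (hu r b) (ku r b)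
        rwa [hwr, add_sub_add_right_eq_sub] at this
      · rw [← hcl χ _ _ hg, ← hcl ψ _ _ hg]; exact LI.sub hM (hd a ha) (kd a ha)
      · rw [← hcl χ _ _ hg, ← hcl ψ _ _ hg]; exact LI.sub hM (hc c hc0) (kc c hc0)
  have halone : ∀ χ : IrrCharacter SL(2, F), χ ≠ St →
      ¬ SameBlock M (St : SL(2, F) → ℂ) (χ : SL(2, F) → ℂ) := by
    intro χ hχ h
    obtain ⟨w, h1, hsq, -, -, hu, -⟩ := cc_shape hM hp T hodd χ (fun h => hχ (Subtype.ext h))
    have hz : centralChar (St : SL(2, F) → ℂ) (parSL one'.1 ((1 : Fˣ) : F) (sg_sq one')) = 0 := by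
      rw [centralChar, show (St : SL(2, F) → ℂ) (parSL one'.1 ((1 : Fˣ) : F) (sg_sq one')) = 0 from by
        show stS F _ = 0
        rw [stS, Pi.sub_apply, indS_par 1 one' (Units.ne_zero _), MulChar.one_apply (sg_ne one').isUnit, sub_self],
        mul_zero, zero_div]
    have := LI.add hM (h (parSL one'.1 ((1 : Fˣ) : F) (sg_sq one'))) (hu one' 1)
    rw [hz, show ∀ x y : ℂ, (0 - x) + (x + y) = y from fun x y => by ring] at this
    have a := h1 one'
    rw [hone] at a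
    rw [(mul_eq_right₀ (irr_one_ne_zero χ)).1 a.symm] at this
    exact hhalf this
  set B1 := {χ : IrrCharacter SL(2, F) | (χ : SL(2, F) → ℂ) 1 = qC}
  set B2 := {χ : IrrCharacter SL(2, F) | (χ : SL(2, F) → ℂ) (-1) = (χ : SL(2, F) → ℂ) 1 ∧ (χ : SL(2, F) → ℂ) 1 ≠ qC}
  set B3 := {χ : IrrCharacter SL(2, F) | (χ : SL(2, F) → ℂ) (-1) = -(χ : SL(2, F) → ℂ) 1}
  have hne0 : ∀ χ : IrrCharacter SL(2, F), (χ : SL(2, F) → ℂ) 1 ≠ -(χ : SL(2, F) → ℂ) 1 := fun χ h =>
    irr_one_ne_zero χ (by linear_combination h / 2)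
  have hb1 : blockOf M (St : SL(2, F) → ℂ) = B1 := by
    ext ψ
    show SameBlock M _ _ ↔ (ψ : SL(2, F) → ℂ) 1 = qC
    rw [hdegSt]
    refine ⟨fun h => ?_, fun h => by rw [h]; exact SameBlock_refl hM _⟩
    by_contra hne
    exact halone ψ hne h
  have hb23 : ∀ χ : IrrCharacter SL(2, F), χ ≠ St →
      (χ ∈ B2 → blockOf M (χ : SL(2, F) → ℂ) = B2) ∧ (χ ∈ B3 → blockOf M (χ : SL(2, F) → ℂ) = B3) := by
    intro χ hχ
    constructor <;> intro hm <;> ext ψ
    · show SameBlock M _ _ ↔ _ ∧ _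
      by_cases hψ : ψ = St
      · exact iff_of_false (fun h => halone χ hχ (SameBlock_symm (hψ ▸ h))) fun h => h.2 ((hdegSt ψ).2 hψ)
      rw [hsame χ ψ hχ hψ, hm.1, div_self (irr_one_ne_zero χ), eq_comm, div_eq_one_iff_eq (irr_one_ne_zero ψ)]
      exact ⟨fun h => ⟨h, fun h' => hψ ((hdegSt ψ).1 h')⟩, And.left⟩
    · show SameBlock M _ _ ↔ _
      by_cases hψ : ψ = St
      · refine iff_of_false (fun h => halone χ hχ (SameBlock_symm (hψ ▸ h))) fun h => hne0 ψ ?_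
        have h' : stS F (-1) = -stS F 1 := by rw [hψ] at h; exact h
        rw [hψ]
        show stS F 1 = -stS F 1
        rw [← h', hstm1, stS_apply_one]
      rw [hsame χ ψ hχ hψ, show (χ : SL(2, F) → ℂ) (-1) = -(χ : SL(2, F) → ℂ) 1 from hm, neg_div,
        div_self (irr_one_ne_zero χ), eq_comm, div_eq_iff (irr_one_ne_zero ψ), neg_one_mul]
      exact Iff.rfl
  let triv : IrrCharacter SL(2, F) := ⟨fun _ => 1, CfsgLib.Char.isIrrCharacter_one⟩
  have htriv : triv ≠ St := fun h => by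
    have := congrFun (congrArg Subtype.val h) 1
    rw [show (St : SL(2, F) → ℂ) 1 = qC from stS_apply_one] at this
    replace this : (1 : ℂ) = qC := this
    have : (1 : ℕ) = Fintype.card F := by exact_mod_cast this
    omega
  have ht2 : triv ∈ B2 := ⟨rfl, fun h => htriv ((hdegSt triv).1 h)⟩
  obtain ⟨χ₃, hχ₃⟩ : ∃ χ₃ : IrrCharacter SL(2, F), χ₃ ∈ B3 := by
    have ha : (⟨T.a, T.HI.ha⟩ : IrrCharacter SL(2, F)) ∈ B3 ∨ (⟨T.c, T.HP.ha⟩ : IrrCharacter SL(2, F)) ∈ B3 := by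
      show T.a (-1) = -T.a 1 ∨ T.c (-1) = -T.c 1
      rw [← hm1, (T.HI.semi_eq (Or.inl (scal_scalSL _ _))).1, (T.HP.semi_eq (Or.inl (scal_scalSL _ _))).1,
        indS_sg, piS_scal, T.HI.apply_one, T.HP.apply_one, indS_apply_one, piS_apply_one,
        show T.α m1.1 = if IsSquare (-1 : F) then 1 else -1 from quadM_value hodd T.α_ne T.α_sq (sg_ne m1)]
      haveI := isCyclic_torS h₀
      by_cases hs : IsSquare (-1 : F)
      · right
        have h4 := FiniteField.isSquare_neg_one_iff.1 hs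
        rw [quad_value (card_torS_two_mul hodd h₀) T.ψ_ne T.ψ_sq (sgT h₀ m1), if_neg]
        · ring
        · intro he
          have e := congrArg (fun x : torS h₀ => ((x : SL(2, F)) : Mat) 0 0) he
          simp only [Subgroup.coe_pow, Matrix.SpecialLinearGroup.coe_pow, coe_sgT, coe_scalSL, smul_pow,
            one_pow, Subgroup.coe_one, Matrix.SpecialLinearGroup.coe_one] at e
          rw [Odd.neg_one_pow (Nat.odd_iff.2 (by omega))] at e
          simp at e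
          exact Ring.neg_one_ne_one_of_char_ne_two hF2 e
      · left
        rw [if_neg hs]; ring
    rcases ha with h | h
    exacts [⟨_, h⟩, ⟨_, h⟩]
  have hχ₃St : χ₃ ≠ St := fun h => by
    have h' : stS F (-1) = -stS F 1 := by rw [h] at hχ₃; exact hχ₃
    rw [hstm1, stS_apply_one] at h'
    have : qC = 0 := by linear_combination h' / 2
    exact Fintype.card_ne_zero (Nat.cast_eq_zero.1 this)
  have hb2 : IsPBlock M B2 := ⟨triv, ((hb23 triv htriv).1 ht2).symm⟩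
  have hb3 : IsPBlock M B3 := ⟨χ₃, ((hb23 χ₃ hχ₃St).2 hχ₃).symm⟩
  have hiff : ∀ B, IsPBlock M B ↔ (B = B1 ∨ B = B2 ∨ B = B3) := fun B => by
    constructor
    · rintro ⟨χ, rfl⟩
      by_cases hχ : χ = St
      · exact Or.inl (hχ ▸ hb1)
      obtain ⟨s, hs, he, -⟩ := hw χ hχ
      rcases hs with rfl | rfl
      · exact Or.inr (Or.inl ((hb23 χ hχ).1 ⟨by rw [he, one_mul], fun h => hχ ((hdegSt χ).1 h)⟩))
      · exact Or.inr (Or.inr ((hb23 χ hχ).2 (show _ = _ by rw [he, neg_one_mul])))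
    · rintro (rfl | rfl | rfl)
      exacts [⟨St, hb1.symm⟩, hb2, hb3]
  refine ⟨hiff, ?_, fun P => ?_⟩
  · have h12 : B1 ≠ B2 := fun h => by
      have hS : St ∈ B1 := (hdegSt St).2 rfl
      rw [h] at hS
      exact hS.2 ((hdegSt St).2 rfl)
    have h13 : B1 ≠ B3 := fun h => hχ₃St ((hdegSt χ₃).1 (show χ₃ ∈ B1 by rw [h]; exact hχ₃))
    have h23 : B2 ≠ B3 := fun h => by
      have hS : triv ∈ B3 := h ▸ ht2
      exact hne0 triv (by rw [← show (triv : SL(2, F) → ℂ) (-1) = -(triv : SL(2, F) → ℂ) 1 from hS])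
    rw [Nat.card_congr (Equiv.subtypeEquivRight hiff)]
    exact (Nat.card_coe_set_eq ({B1, B2, B3} : Set (Set (IrrCharacter SL(2, F))))).trans
      (Set.ncard_eq_three.2 ⟨B1, B2, B3, h12, h13, h23, rfl⟩)
  · have key : ∀ B, IsPBlock M B → (∃ χ ∈ B, ¬ p ∣ charDegree ((χ : IrrCharacter SL(2, F)) : SL(2, F) → ℂ)) →
        IsDefectGroup p M B (P : Subgroup SL(2, F)) := by
      rintro B hB ⟨χ, hχ, hd⟩
      obtain ⟨D, hD⟩ := exists_isDefectGroup hM hB
      have hbd : blockDefect p B = (Nat.card SL(2, F)).factorization p := by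
        have h1 := blockDefect_add_min (p := p) ⟨χ, hχ⟩
        have h2 := minDegVal_le (p := p) hχ
        rw [degVal, Nat.factorization_eq_zero_of_not_dvd hd] at h2
        omega
      let S : Sylow p SL(2, F) := Sylow.ofCard D (by rw [card_defectGroup hM hB hD, hbd])
      obtain ⟨y, hy⟩ := MulAction.exists_smul_eq SL(2, F) S P
      have e : (P : Subgroup SL(2, F)) = D.map (MulAut.conj y).toMonoidHom := by
        rw [← hy, Sylow.smul_def, Sylow.pointwise_smul_def]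
        rfl
      rw [e]
      exact isDefectGroup_conj hD y
    refine ⟨key B2 hb2 ⟨triv, ht2, ?_⟩, key B3 hb3 ⟨χ₃, hχ₃, ?_⟩⟩
    · obtain ⟨-, -, -, h⟩ := hw triv htriv; exact h
    · obtain ⟨-, -, -, h⟩ := hw χ₃ hχ₃St; exact h

end Cong

end CfsgLib.KnownB.GL2
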