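import Cfsg.Agent.Lib.KnownB.GL2.TableSLApps

/-!
Values of the irreducible characters of `SL₂` in odd characteristic.
-/

set_option autoImplicit false

namespace CfsgLib.KnownB.GL2

open scoped MatrixGroups ComplexConjugate

variable {F : Type*} [Field F] [Fintype F] [DecidableEq F] {t₀ d₀ : F}

local notation "Mat" => Matrix (Fin 2) (Fin 2) F
local notation "qC" => (Fintype.card F : ℂ)

theorem cast_q_sub_one : qC - 1 = ((Fintype.card F - 1 : ℕ) : ℂ) := by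
  rw [Nat.cast_sub Fintype.card_pos, Nat.cast_one]

theorem Halves.sum_par {h₀ : rts t₀ d₀ = ∅} {θ a b : SL(2, F) → ℂ} (H : Halves h₀ θ a b) (r : Sg F) :
    ∑ u : Fˣ, a (parSL r.1 u (sg_sq r)) = (∑ u : Fˣ, θ (parSL r.1 u (sg_sq r))) / 2 := by
  have h := (H.vanish.2.2 r).2
  rw [H.add]
  simp only [Pi.sub_apply, Pi.add_apply, Finset.sum_sub_distrib, Finset.sum_add_distrib] at h ⊢
  linear_combination h / 2

theorem vanishing_SL_odd (hodd : Odd (Fintype.card F)) (χ : SL(2, F) → ℂ)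
    (hχ : Cfsg.IsIrrCharacter SL(2, F) χ) (g : SL(2, F)) :
    ((χ 1 = qC - 1 ∨ χ 1 = (((Fintype.card F - 1) / 2 : ℕ) : ℂ)) →
      (g : Mat) 0 1 = 0 → (g : Mat) 1 0 = 0 → (g : Mat) 0 0 ^ 2 ≠ 1 → χ g = 0) ∧
    ((χ 1 = qC + 1 ∨ χ 1 = (((Fintype.card F + 1) / 2 : ℕ) : ℂ)) →
      (∀ (c : F) (v : Fin 2 → F), v ≠ 0 → (g : Mat).mulVec v ≠ c • v) → χ g = 0) := by
  obtain ⟨t₀, d₀, -, h₀⟩ := exists_irreducible (F := F)
  obtain ⟨T⟩ := exists_oddTable h₀ hodd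
  obtain ⟨n, hn, hc⟩ := irr_SL_odd T hodd hχ
  have hm := Nat.odd_iff.1 hodd
  have hq := (Fintype.one_lt_card : 1 < Fintype.card F)
  constructor
  · intro hdeg h01 h10 ha
    obtain ⟨u, hu, rfl⟩ := diag_of_entries h01 h10
    rw [← hu] at ha
    have hq5 : 5 ≤ Fintype.card F := by
      have h1 : (splitVals F).card + (signs F).card = Fintype.card F - 1 := card_splitVals
      have h2 : 0 < (splitVals F).card :=
        Finset.card_pos.2 ⟨(u : F), mem_splitVals.2 ⟨u.ne_zero, ha⟩⟩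
      rw [card_signs_odd (two_ne_zero_of_odd hodd)] at h1
      omega
    have hn' : n = Fintype.card F - 1 ∨ n = (Fintype.card F - 1) / 2 := by
      rw [hn, cast_q_sub_one] at hdeg
      exact_mod_cast hdeg
    rcases hc with ⟨e, h⟩ | ⟨e, h⟩ | ⟨e, h⟩ | ⟨e, ψ, hψ, h⟩ | ⟨e, h⟩ | ⟨e, h⟩
    · omega
    · omega
    · omega
    · rw [h, piS_diag h₀ ψ ha]
    · omega
    · rcases h with h | h <;> rw [h]
      · rw [(T.HP.semi_eq (semi_diag ha)).1, piS_diag h₀ _ ha, zero_div]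
      · rw [(T.HP.semi_eq (semi_diag ha)).2, piS_diag h₀ _ ha, zero_div]
  · intro hdeg hg
    obtain ⟨c, hc0, hcg⟩ := ell_of_noEigen h₀ hg
    rw [← irr_conj hχ hcg]
    have hn' : n = Fintype.card F + 1 ∨ n = (Fintype.card F + 1) / 2 := by
      rw [hn] at hdeg
      exact_mod_cast hdeg
    rcases hc with ⟨e, h⟩ | ⟨e, h⟩ | ⟨e, α, hα, h⟩ | ⟨e, ψ, hψ, h⟩ | ⟨e, h⟩ | ⟨e, h⟩
    · omega
    · omega
    · rw [h, indS_tor α hc0]
    · -- `q = 3`
      have hq3 : Fintype.card F = 3 := by omega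
      have hcard : Nat.card (torS h₀) = 4 := by rw [card_torS, hq3]
      have ho : orderOf c = 4 := by
        have h4 : orderOf c ∣ 2 ^ 2 := by
          rw [show (2 : ℕ) ^ 2 = 4 by norm_num, ← hcard]; exact orderOf_dvd_natCard c
        obtain ⟨k, hk, hk'⟩ := (Nat.dvd_prime_pow Nat.prime_two).1 h4
        have hne : c ^ 2 ≠ 1 := fun h => inv_ne_torS h₀ hc0 ((sq_one_iff_inv c).1 h)
        rcases (show k = 0 ∨ k = 1 ∨ k = 2 by omega) with rfl | rfl | rfl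
        · rw [pow_zero, orderOf_eq_one_iff] at hk'
          exact absurd (by rw [hk', one_pow]) hne
        · rw [pow_one] at hk'
          have := pow_orderOf_eq_one c
          rw [hk'] at this
          exact absurd this hne
        · rw [hk']
          norm_num
      have hgen : ∀ x : torS h₀, x ∈ Subgroup.zpowers c := by
        have : Subgroup.zpowers c = ⊤ := by
          apply Subgroup.eq_top_of_card_eq
          rw [Nat.card_zpowers, ho, hcard]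
        intro x; rw [this]; trivial
      have hψc : (ψ c : ℂ) ^ 2 ≠ 1 := fun hc2 => hψ (MonoidHom.ext fun x => by
        obtain ⟨k, rfl⟩ := Subgroup.mem_zpowers_iff.1 (hgen x)
        have : ψ c ^ 2 = 1 := Units.ext (by rw [Units.val_pow_eq_pow_val, hc2, Units.val_one])
        show ψ (c ^ k) ^ 2 = 1
        rw [map_zpow, ← zpow_natCast, ← zpow_mul, mul_comm, zpow_mul, zpow_natCast, this, one_zpow])
      have hψ4 : ((ψ c : ℂ) ^ 2) ^ 2 = 1 := by
        rw [← pow_mul, ← Units.val_pow_eq_pow_val, ← map_pow, show 2 * 2 = orderOf c by rw [ho],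
          pow_orderOf_eq_one, map_one, Units.val_one]
      have hψ2 : (ψ c : ℂ) ^ 2 = -1 := (sq_eq_one_iff.1 hψ4).resolve_left hψc
      rw [h, piS_tor h₀ ψ hc0, Units.val_inv_eq_inv_val]
      have hne : (ψ c : ℂ) ≠ 0 := Units.ne_zero _
      field_simp
      linear_combination -hψ2
    · rcases h with h | h <;> rw [h]
      · rw [(T.HI.semi_eq (semi_tor hc0)).1, indS_tor _ hc0, zero_div]
      · rw [(T.HI.semi_eq (semi_tor hc0)).2, indS_tor _ hc0, zero_div]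
    · omega

theorem exists_nonsquare (hodd : Odd (Fintype.card F)) : ∃ e : Fˣ, e ∉ sqUnits F := by
  by_contra hc
  push Not at hc
  have := (card_sqUnits_index (F := F)).trans (card_signs_odd (two_ne_zero_of_odd hodd))
  rw [show sqUnits F = ⊤ from eq_top_iff.2 fun x _ => hc x, Subgroup.index_top] at this
  exact absurd this (by norm_num)

theorem principal_two_splits (hodd : Odd (Fintype.card F)) (α : MulChar F ℂ) (hα : α ^ 2 = 1)
    (hα1 : α ≠ 1) :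
    ∃ χ₁ χ₂ : SL(2, F) → ℂ, Cfsg.IsIrrCharacter SL(2, F) χ₁ ∧ Cfsg.IsIrrCharacter SL(2, F) χ₂ ∧
      χ₁ ≠ χ₂ ∧ indS α = χ₁ + χ₂ ∧
      χ₁ 1 = (((Fintype.card F + 1) / 2 : ℕ) : ℂ) ∧ χ₂ 1 = (((Fintype.card F + 1) / 2 : ℕ) : ℂ) ∧
      ∃ x : GL (Fin 2) F, ∀ g h : SL(2, F), Matrix.SpecialLinearGroup.toGL h =
        x * Matrix.SpecialLinearGroup.toGL g * x⁻¹ → χ₂ h = χ₁ g := by
  obtain ⟨t₀, d₀, -, h₀⟩ := exists_irreducible (F := F)
  obtain ⟨a, b, H⟩ := halves_indS h₀ hodd hα1 hα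
  obtain ⟨e, he⟩ := exists_nonsquare hodd
  obtain ⟨m, hm⟩ := id hodd
  have hd : indS α 1 / 2 = (((Fintype.card F + 1) / 2 : ℕ) : ℂ) := by
    rw [indS_apply_one, show (Fintype.card F + 1) / 2 = m + 1 by omega, hm]
    push_cast; ring
  refine ⟨a, b, H.ha, H.hb, H.ne, H.add, by rw [H.apply_one, hd], by rw [H.symm.apply_one, hd],
    diag1 e, fun g h hgh => ?_⟩
  rw [show h = conjX e g from Subtype.ext (congrArg Units.val (hgh.trans (toGL_conjX e g).symm))]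
  exact H.swap (two_ne_zero_of_odd hodd) he g

/-- Identification of the half degrees for `q ≥ 5`. -/
theorem half_of_degree {h₀ : rts t₀ d₀ = ∅} (T : OddTable h₀) (hodd : Odd (Fintype.card F))
    (hq : 5 ≤ Fintype.card F) {χ : SL(2, F) → ℂ} (hχ : Cfsg.IsIrrCharacter SL(2, F) χ) :
    (χ 1 = (((Fintype.card F + 1) / 2 : ℕ) : ℂ) → χ = T.a ∨ χ = T.b) ∧
    (χ 1 = (((Fintype.card F - 1) / 2 : ℕ) : ℂ) → χ = T.c ∨ χ = T.e) := by
  obtain ⟨n, hn, hc⟩ := irr_SL_odd T hodd hχ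
  have hm := Nat.odd_iff.1 hodd
  constructor <;> intro h
  · have : n = (Fintype.card F + 1) / 2 := by exact_mod_cast hn.symm.trans h
    rcases hc with ⟨e, he⟩ | ⟨e, he⟩ | ⟨e, he⟩ | ⟨e, he⟩ | ⟨e, he⟩ | ⟨e, he⟩ <;>
      first | exact he | (exfalso; omega)
  · have : n = (Fintype.card F - 1) / 2 := by exact_mod_cast hn.symm.trans h
    rcases hc with ⟨e, he⟩ | ⟨e, he⟩ | ⟨e, he⟩ | ⟨e, he⟩ | ⟨e, he⟩ | ⟨e, he⟩ <;>
      first | exact he | (exfalso; omega)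

theorem half_values_at_transvection (hodd : Odd (Fintype.card F)) (hq : 5 ≤ Fintype.card F)
    (u : SL(2, F)) (hu : (u : Mat) = !![1, 1; 0, 1]) :
    (∀ χ : SL(2, F) → ℂ, Cfsg.IsIrrCharacter SL(2, F) χ → χ 1 = (((Fintype.card F + 1) / 2 : ℕ) : ℂ) →
      (2 * χ u - 1) ^ 2 = (-1 : ℂ) ^ ((Fintype.card F - 1) / 2) * qC) ∧
    (∀ χ : SL(2, F) → ℂ, Cfsg.IsIrrCharacter SL(2, F) χ → χ 1 = (((Fintype.card F - 1) / 2 : ℕ) : ℂ) →
      (2 * χ u + 1) ^ 2 = (-1 : ℂ) ^ ((Fintype.card F - 1) / 2) * qC) ∧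
    (∀ χ₁ χ₂ : SL(2, F) → ℂ, Cfsg.IsIrrCharacter SL(2, F) χ₁ → Cfsg.IsIrrCharacter SL(2, F) χ₂ → χ₁ ≠ χ₂ →
      χ₁ 1 = (((Fintype.card F + 1) / 2 : ℕ) : ℂ) → χ₂ 1 = (((Fintype.card F + 1) / 2 : ℕ) : ℂ) →
      χ₁ u + χ₂ u = 1) ∧
    (∀ χ₁ χ₂ : SL(2, F) → ℂ, Cfsg.IsIrrCharacter SL(2, F) χ₁ → Cfsg.IsIrrCharacter SL(2, F) χ₂ → χ₁ ≠ χ₂ →
      χ₁ 1 = (((Fintype.card F - 1) / 2 : ℕ) : ℂ) → χ₂ 1 = (((Fintype.card F - 1) / 2 : ℕ) : ℂ) →
      χ₁ u + χ₂ u = -1) := by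
  obtain ⟨t₀, d₀, -, h₀⟩ := exists_irreducible (F := F)
  obtain ⟨T⟩ := exists_oddTable h₀ hodd
  have h2 := two_ne_zero_of_odd hodd
  obtain rfl : u = parSL (1 : F) 1 (one_pow 2) := Subtype.ext (hu.trans (coe_parSL _ _ _).symm)
  set u := parSL (1 : F) 1 (one_pow 2)
  have eI : T.a u + T.b u = 1 := by
    rw [← Pi.add_apply, ← T.HI.add]
    rw [indS_par T.α ⟨1, sg_one⟩ one_ne_zero, map_one]
  have eP : T.c u + T.e u = -1 := by
    rw [← Pi.add_apply, ← T.HP.add]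
    rw [piS_par h₀ T.ψ ⟨1, sg_one⟩ one_ne_zero, sgT_one, map_one, Units.val_one]
  have fI : (T.a u - T.b u) ^ 2 = _ := T.HI.diff_sq h2
  have fP : (T.c u - T.e u) ^ 2 = _ := T.HP.diff_sq h2
  refine ⟨fun χ hχ hd => ?_, fun χ hχ hd => ?_, fun χ₁ χ₂ h₁ h₂' hne d1 d2 => ?_,
    fun χ₁ χ₂ h₁ h₂' hne d1 d2 => ?_⟩
  · rw [← fI]
    rcases (half_of_degree T hodd hq hχ).1 hd with h | h <;> rw [h]
    · linear_combination (3 * T.a u - T.b u - 1) * eI
    · linear_combination (3 * T.b u - T.a u - 1) * eI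
  · rw [← fP]
    rcases (half_of_degree T hodd hq hχ).2 hd with h | h <;> rw [h]
    · linear_combination (3 * T.c u - T.e u + 1) * eP
    · linear_combination (3 * T.e u - T.c u + 1) * eP
  · rcases (half_of_degree T hodd hq h₁).1 d1 with h | h <;>
      rcases (half_of_degree T hodd hq h₂').1 d2 with h' | h' <;> subst h h'
    · exact absurd rfl hne
    · exact eI
    · rw [add_comm]; exact eI
    · exact absurd rfl hne
  · rcases (half_of_degree T hodd hq h₁).2 d1 with h | h <;>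
      rcases (half_of_degree T hodd hq h₂').2 d2 with h' | h' <;> subst h h'
    · exact absurd rfl hne
    · exact eP
    · rw [add_comm]; exact eP
    · exact absurd rfl hne

theorem semisimple_half_values (hodd : Odd (Fintype.card F)) (hq : 5 ≤ Fintype.card F)
    (χ : SL(2, F) → ℂ) (hχ : Cfsg.IsIrrCharacter SL(2, F) χ) (g : SL(2, F)) :
    (χ 1 = (((Fintype.card F + 1) / 2 : ℕ) : ℂ) → (g : Mat) 0 1 = 0 → (g : Mat) 1 0 = 0 →
      (g : Mat) 0 0 ^ 2 ≠ 1 →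
      (IsSquare ((g : Mat) 0 0) → χ g = 1) ∧ (¬ IsSquare ((g : Mat) 0 0) → χ g = -1)) ∧
    (χ 1 = (((Fintype.card F - 1) / 2 : ℕ) : ℂ) →
      (∀ (c : F) (v : Fin 2 → F), v ≠ 0 → (g : Mat).mulVec v ≠ c • v) →
      (g ^ ((Fintype.card F + 1) / 2) = 1 → χ g = -1) ∧
      (g ^ ((Fintype.card F + 1) / 2) ≠ 1 → χ g = 1)) := by
  classical
  obtain ⟨t₀, d₀, -, h₀⟩ := exists_irreducible (F := F)
  obtain ⟨T⟩ := exists_oddTable h₀ hodd
  constructor
  · intro hd h01 h10 ha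
    obtain ⟨u, hu, rfl⟩ := diag_of_entries h01 h10
    rw [← hu] at ha ⊢
    have hval : χ (diagSL u) = T.α (u : F) := by
      have hαi : T.α (u : F)⁻¹ = T.α (u : F) := by
        rw [← MulChar.inv_apply', inv_eq_of_mul_eq_one_right (show T.α * T.α = 1 by rw [← sq]; exact T.α_sq)]
      rcases (half_of_degree T hodd hq hχ).1 hd with h | h <;> rw [h]
      · rw [(T.HI.semi_eq (semi_diag ha)).1, indS_diag _ ha, hαi]; ring
      · rw [(T.HI.semi_eq (semi_diag ha)).2, indS_diag _ ha, hαi]; ring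
    rw [hval, quadM_value hodd T.α_ne T.α_sq u.ne_zero]
    exact ⟨fun h => if_pos h, fun h => if_neg h⟩
  · intro hd hg
    obtain ⟨c, hc0, hcg⟩ := ell_of_noEigen h₀ hg
    have hiff : g ^ ((Fintype.card F + 1) / 2) = 1 ↔ c ^ ((Fintype.card F + 1) / 2) = 1 := by
      obtain ⟨x, hx⟩ := isConj_iff.1 hcg
      rw [← hx, conj_pow, conj_eq_one_iff, ← Subgroup.coe_pow]
      exact ⟨fun h => Subtype.ext h, fun h => by rw [h]; rfl⟩
    have hval : χ g = -(T.ψ c : ℂ) := by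
      have hψi : (T.ψ c)⁻¹ = T.ψ c := inv_eq_of_mul_eq_one_right (by
        rw [← sq]; exact DFunLike.congr_fun T.ψ_sq c)
      rw [← irr_conj hχ hcg]
      rcases (half_of_degree T hodd hq hχ).2 hd with h | h <;> rw [h]
      · rw [(T.HP.semi_eq (semi_tor hc0)).1, piS_tor h₀ _ hc0, hψi]; ring
      · rw [(T.HP.semi_eq (semi_tor hc0)).2, piS_tor h₀ _ hc0, hψi]; ring
    haveI := isCyclic_torS h₀
    rw [hval, quad_value (card_torS_two_mul hodd h₀) T.ψ_ne T.ψ_sq c]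
    refine ⟨fun h => ?_, fun h => ?_⟩
    · rw [if_pos (hiff.1 h)]
    · rw [if_neg (fun h' => h (hiff.2 h')), neg_neg]

/-- The sum over the unitriangular subgroup. -/
theorem sum_unitri (χ : SL(2, F) → ℂ) :
    (∑ g : SL(2, F), if (g : Mat) 1 0 = 0 ∧ (g : Mat) 0 0 = 1 ∧ (g : Mat) 1 1 = 1 then χ g else 0) =
      χ 1 + ∑ b : Fˣ, χ (parSL (1 : F) b (one_pow 2)) := by
  classical
  rw [← Finset.sum_filter]
  have e : ∀ z : F, χ (parSL (1 : F) z (one_pow 2)) = χ (parSL (1 : F) z (one_pow 2)) := fun _ => rfl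
  rw [show (∑ g ∈ Finset.univ.filter (fun g : SL(2, F) => (g : Mat) 1 0 = 0 ∧ (g : Mat) 0 0 = 1 ∧ (g : Mat) 1 1 = 1), χ g) = ∑ z : F, χ (parSL (1 : F) z (one_pow 2)) from ?_]
  · rw [← Finset.add_sum_erase _ _ (Finset.mem_univ (0 : F))]
    congr 1
    · congr 1
      refine Subtype.ext ?_
      show (parSL (1 : F) 0 (one_pow 2) : Mat) = 1
      rw [coe_parSL, Matrix.one_fin_two]
    · exact Finset.sum_bij' (fun z hz => Units.mk0 z (Finset.mem_erase.1 hz).1) (fun b _ => (b : F))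
        (fun _ _ => Finset.mem_univ _) (fun b _ => Finset.mem_erase.2 ⟨b.ne_zero, Finset.mem_univ _⟩)
        (fun _ _ => rfl) (fun _ _ => Units.ext rfl) (fun _ _ => rfl)
  refine Finset.sum_bij' (fun g _ => (g : Mat) 0 1) (fun z _ => parSL (1 : F) z (one_pow 2))
    (fun _ _ => Finset.mem_univ _) (fun z _ => Finset.mem_filter.2 ⟨Finset.mem_univ _, by simp [coe_parSL]⟩)
    (fun g hg => ?_) (fun z _ => by simp [coe_parSL]) (fun g hg => ?_)
  all_goals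
    obtain ⟨h1, h2, h3⟩ := (Finset.mem_filter.1 hg).2
    have e : parSL (1 : F) ((g : Mat) 0 1) (one_pow 2) = g := by
      refine Subtype.ext ?_
      show (parSL (1 : F) ((g : Mat) 0 1) (one_pow 2) : Mat) = (g : Mat)
      rw [coe_parSL]
      ext i j
      fin_cases i <;> fin_cases j <;> simp [h1, h2, h3]
  · exact e
  · rw [e]

theorem cusp_sums (hodd : Odd (Fintype.card F)) (hq : 5 ≤ Fintype.card F)
    (χ : SL(2, F) → ℂ) (hχ : Cfsg.IsIrrCharacter SL(2, F) χ) :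
    let S := ∑ g : SL(2, F), if (g : Mat) 1 0 = 0 ∧ (g : Mat) 0 0 = 1 ∧ (g : Mat) 1 1 = 1 then χ g else 0
    (χ 1 = qC + 1 → S = 2 * qC) ∧ (χ 1 = qC → S = qC) ∧ (χ 1 = qC - 1 → S = 0) ∧
    (χ 1 = (((Fintype.card F + 1) / 2 : ℕ) : ℂ) → S = qC) ∧
    (χ 1 = (((Fintype.card F - 1) / 2 : ℕ) : ℂ) → S = 0) := by
  intro S
  obtain ⟨t₀, d₀, -, h₀⟩ := exists_irreducible (F := F)
  obtain ⟨T⟩ := exists_oddTable h₀ hodd
  have hS : S = χ 1 + ∑ b : Fˣ, χ (parSL (1 : F) b (one_pow 2)) := sum_unitri χ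
  have hI : ∀ α : MulChar F ℂ, ∑ b : Fˣ, indS α (parSL (1 : F) b (one_pow 2)) = qC - 1 := fun α => by
    rw [Finset.sum_congr rfl (g := fun _ => (1 : ℂ)) fun b _ => by
      rw [indS_par α ⟨1, sg_one⟩ b.ne_zero, map_one], Finset.sum_const, Finset.card_univ,
      Fintype.card_units, nsmul_eq_mul, mul_one, Nat.cast_sub Fintype.card_pos, Nat.cast_one]
  have hP : ∀ ψ : torS h₀ →* ℂˣ, ∑ b : Fˣ, piS h₀ ψ (parSL (1 : F) b (one_pow 2)) = -(qC - 1) := fun ψ => by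
    rw [Finset.sum_congr rfl (g := fun _ => (-1 : ℂ)) fun b _ => by
      rw [piS_par h₀ ψ ⟨1, sg_one⟩ b.ne_zero, sgT_one, map_one, Units.val_one], Finset.sum_const,
      Finset.card_univ, Fintype.card_units, nsmul_eq_mul, Nat.cast_sub Fintype.card_pos, Nat.cast_one]
    ring
  obtain ⟨s1, s2⟩ := series_of_degree h₀ (by omega) hχ
  obtain ⟨h1, h2⟩ := half_of_degree T hodd hq hχ
  refine ⟨fun h => ?_, fun h => ?_, fun h => ?_, fun h => ?_, fun h => ?_⟩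
  · obtain ⟨α, -, e⟩ := s1 h
    rw [hS, h, e, hI]; ring
  · rw [hS, eq_stS_of_degree hχ h, stS_apply_one]
    simp only [stS, Pi.sub_apply, Finset.sum_sub_distrib, Finset.sum_const, Finset.card_univ,
      Fintype.card_units, nsmul_eq_mul, hI, Nat.cast_sub Fintype.card_pos, Nat.cast_one]
    ring
  · obtain ⟨ψ, -, e⟩ := s2 h
    rw [hS, h, e, hP]; ring
  · rcases h1 h with e | e <;> rw [hS, e]
    · rw [T.HI.apply_one, T.HI.sum_par ⟨1, sg_one⟩, hI, indS_apply_one]; ring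
    · rw [T.HI.symm.apply_one, T.HI.symm.sum_par ⟨1, sg_one⟩, hI, indS_apply_one]; ring
  · rcases h2 h with e | e <;> rw [hS, e]
    · rw [T.HP.apply_one, T.HP.sum_par ⟨1, sg_one⟩, hP, piS_apply_one]; ring
    · rw [T.HP.symm.apply_one, T.HP.symm.sum_par ⟨1, sg_one⟩, hP, piS_apply_one]; ring

end CfsgLib.KnownB.GL2
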