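import Cfsg.Agent.Lib.KnownB.GL2.Count

/-!
The non-split torus of `GL₂` and its characters.
-/

set_option autoImplicit false

namespace CfsgLib.KnownB.GL2

open scoped MatrixGroups ComplexConjugate

variable {F : Type*} [Field F] [Fintype F] [DecidableEq F] {t₀ d₀ : F}

local notation "Mat" => Matrix (Fin 2) (Fin 2) F

theorem d_ne_zero (h₀ : rts t₀ d₀ = ∅) : d₀ ≠ 0 := fun h => by
  have : (0 : F) ∈ rts t₀ d₀ := by rw [mem_rts, h]; ring
  simp [h₀] at this

theorem nf_ne_zero_iff (h₀ : rts t₀ d₀ = ∅) {p : F × F} : nf t₀ d₀ p.1 p.2 ≠ 0 ↔ p ≠ 0 := by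
  refine ⟨fun h hp => h (by simp [hp, nf]), fun hp h => hp ?_⟩
  exact Prod.ext (nf_eq_zero h₀ h).1 (nf_eq_zero h₀ h).2

/-- The generator of the non-split torus as an algebra. -/
noncomputable def torGen (h₀ : rts t₀ d₀ = ∅) : GL (Fin 2) F := compGL t₀ d₀ (d_ne_zero h₀)

/-- The non-split torus. -/
noncomputable def torG (h₀ : rts t₀ d₀ = ∅) : Subgroup (GL (Fin 2) F) :=
  Subgroup.centralizer {torGen h₀}

/-- The torus in coordinates. -/
noncomputable def torEquiv (h₀ : rts t₀ d₀ = ∅) : {p : F × F // p ≠ 0} ≃ torG h₀ :=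
  (Equiv.subtypeEquivRight fun p => by
    rw [torGen, coe_compGL, trace_comp, det_comp]; exact (nf_ne_zero_iff h₀).symm).trans
    (centGLEquiv (torGen h₀) (not_scal_comp t₀ d₀))

theorem coe_torEquiv (h₀ : rts t₀ d₀ = ∅) (p : {p : F × F // p ≠ 0}) :
    ((torEquiv h₀ p : GL (Fin 2) F) : Mat) = p.1.1 • (1 : Mat) + p.1.2 • comp t₀ d₀ := rfl

noncomputable instance commGroupTorG (h₀ : rts t₀ d₀ = ∅) : CommGroup (torG h₀) :=
  { (inferInstance : Group (torG h₀)) with
    mul_comm := fun a b => by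
      obtain ⟨p, rfl⟩ := (torEquiv h₀).surjective a
      obtain ⟨r, rfl⟩ := (torEquiv h₀).surjective b
      refine Subtype.ext (Units.ext ?_)
      simp only [Subgroup.coe_mul, Units.val_mul, coe_torEquiv]
      simp [add_mul, mul_add, smul_smul]
      rw [mul_comm r.1.1 p.1.1, mul_comm r.1.2 p.1.1, mul_comm r.1.1 p.1.2, mul_comm r.1.2 p.1.2]
      abel }

theorem trace_torEquiv (h₀ : rts t₀ d₀ = ∅) (p : {p : F × F // p ≠ 0}) :
    ((torEquiv h₀ p : GL (Fin 2) F) : Mat).trace = 2 * p.1.1 + t₀ * p.1.2 := by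
  rw [coe_torEquiv, trace_lin, trace_comp]

theorem det_torEquiv (h₀ : rts t₀ d₀ = ∅) (p : {p : F × F // p ≠ 0}) :
    ((torEquiv h₀ p : GL (Fin 2) F) : Mat).det = nf t₀ d₀ p.1.1 p.1.2 := by
  rw [coe_torEquiv, det_lin, trace_comp, det_comp]

theorem card_torG (h₀ : rts t₀ d₀ = ∅) : Nat.card (torG h₀) = Fintype.card F ^ 2 - 1 := by
  rw [← Nat.card_congr (torEquiv h₀), Nat.card_eq_fintype_card, Fintype.card_subtype_compl,
    Fintype.card_subtype_eq, Fintype.card_prod, sq]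

/-- Conjugation on the coordinates. -/
def barP (t₀ : F) (p : F × F) : F × F := (p.1 + t₀ * p.2, -p.2)

theorem barP_barP (p : F × F) : barP t₀ (barP t₀ p) = p := by
  simp [barP]

theorem barP_ne_zero {p : F × F} (hp : p ≠ 0) : barP t₀ p ≠ 0 := fun h => hp (by
  rw [← barP_barP (t₀ := t₀) p, h]; simp [barP])

theorem adjugate_lin (t d x y : F) :
    (x • (1 : Mat) + y • comp t d).adjugate = (x + t * y) • (1 : Mat) + (-y) • comp t d := by
  rw [Matrix.adjugate_fin_two]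
  ext i j
  fin_cases i <;> fin_cases j <;> simp [comp] <;> ring

/-- Conjugation of the torus. -/
noncomputable def barT (h₀ : rts t₀ d₀ = ∅) : torG h₀ →* torG h₀ :=
  MonoidHom.mk' (fun c => torEquiv h₀ ⟨barP t₀ ((torEquiv h₀).symm c).1,
    barP_ne_zero ((torEquiv h₀).symm c).2⟩) fun a b => by
    have key : ∀ c : torG h₀, ((torEquiv h₀ ⟨barP t₀ ((torEquiv h₀).symm c).1,
        barP_ne_zero ((torEquiv h₀).symm c).2⟩ : GL (Fin 2) F) : Mat) =
          ((c : GL (Fin 2) F) : Mat).adjugate := fun c => by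
      conv_rhs => rw [← (torEquiv h₀).apply_symm_apply c, coe_torEquiv, adjugate_lin]
      rfl
    refine Subtype.ext (Units.ext ?_)
    rw [Subgroup.coe_mul, Units.val_mul, key, key, key, mul_comm a b, Subgroup.coe_mul, Units.val_mul,
      Matrix.adjugate_mul_distrib]

theorem barT_apply (h₀ : rts t₀ d₀ = ∅) (p : {p : F × F // p ≠ 0}) :
    barT h₀ (torEquiv h₀ p) = torEquiv h₀ ⟨barP t₀ p.1, barP_ne_zero p.2⟩ := by
  simp [barT]

theorem barT_barT (h₀ : rts t₀ d₀ = ∅) (c : torG h₀) : barT h₀ (barT h₀ c) = c := by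
  obtain ⟨p, rfl⟩ := (torEquiv h₀).surjective c
  rw [barT_apply, barT_apply]
  exact congrArg _ (Subtype.ext (barP_barP p.1))

/-- A character of the torus, as a function on coordinates. -/
noncomputable def thP (h₀ : rts t₀ d₀ = ∅) (θ : torG h₀ →* ℂˣ) (p : F × F) : ℂ :=
  if h : p ≠ 0 then (θ (torEquiv h₀ ⟨p, h⟩) : ℂ) else 0

theorem thP_zero (h₀ : rts t₀ d₀ = ∅) (θ : torG h₀ →* ℂˣ) : thP h₀ θ 0 = 0 := by simp [thP]

theorem thP_of_ne (h₀ : rts t₀ d₀ = ∅) (θ : torG h₀ →* ℂˣ) {p : F × F} (h : p ≠ 0) :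
    thP h₀ θ p = (θ (torEquiv h₀ ⟨p, h⟩) : ℂ) := by rw [thP, dif_pos h]

theorem thP_bar (h₀ : rts t₀ d₀ = ∅) (θ : torG h₀ →* ℂˣ) (p : F × F) :
    thP h₀ θ (barP t₀ p) = thP h₀ (θ.comp (barT h₀)) p := by
  by_cases h : p = 0
  · subst h
    rw [show barP t₀ (0 : F × F) = 0 by simp [barP], thP_zero, thP_zero]
  · rw [thP_of_ne h₀ _ h, thP_of_ne h₀ _ (barP_ne_zero h), MonoidHom.comp_apply, barT_apply]

theorem conj_hom {G : Type*} [Group G] [Finite G] (φ : G →* ℂˣ) (g : G) :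
    conj ((φ g : ℂ)) = ((φ g)⁻¹ : ℂˣ) := by
  have h : ‖(φ g : ℂ)‖ = 1 := by
    refine Complex.norm_eq_one_of_pow_eq_one (n := orderOf g) ?_ (orderOf_pos g).ne'
    rw [← Units.val_pow_eq_pow_val, ← map_pow, pow_orderOf_eq_one, map_one, Units.val_one]
  rw [Units.val_inv_eq_inv_val, Complex.inv_eq_conj h]

theorem sum_hom {G : Type*} [CommGroup G] [Fintype G] (θ φ : G →* ℂˣ) [Decidable (θ = φ)] :
    ∑ g, (θ g : ℂ) * conj (φ g : ℂ) = if θ = φ then (Nat.card G : ℂ) else 0 := by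
  split_ifs with h
  · subst h
    rw [Finset.sum_congr rfl (g := fun _ => (1 : ℂ)) fun g _ => by
      rw [conj_hom, Units.mul_inv], Finset.sum_const, Finset.card_univ, nsmul_eq_mul, mul_one,
      Nat.card_eq_fintype_card]
  · have hne : ((Units.coeHom ℂ).comp (θ * φ⁻¹)) ≠ 1 := fun h1 => h (MonoidHom.ext fun g => by
      have := DFunLike.congr_fun h1 g
      simp only [MonoidHom.comp_apply, MonoidHom.mul_apply, MonoidHom.inv_apply,
        Units.coeHom_apply, MonoidHom.one_apply] at this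
      exact mul_inv_eq_one.1 (Units.ext this))
    rw [← sum_hom_units_eq_zero _ hne]
    exact Finset.sum_congr rfl fun g _ => by simp [conj_hom]

theorem sum_thP (h₀ : rts t₀ d₀ = ∅) (θ φ : torG h₀ →* ℂˣ) [Decidable (θ = φ)] :
    ∑ p, thP h₀ θ p * conj (thP h₀ φ p) =
      if θ = φ then (Fintype.card F : ℂ) ^ 2 - 1 else 0 := by
  classical
  rw [← Finset.sum_erase_add _ _ (Finset.mem_univ (0 : F × F)), thP_zero, zero_mul, add_zero,
    Finset.sum_subtype ((Finset.univ : Finset (F × F)).erase 0) (p := fun p => p ≠ 0) (by simp),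
    Finset.sum_congr rfl (g := fun p : {p : F × F // p ≠ 0} =>
      (θ (torEquiv h₀ p) : ℂ) * conj (φ (torEquiv h₀ p) : ℂ))
      (fun p _ => by rw [thP_of_ne h₀ θ p.2, thP_of_ne h₀ φ p.2]),
    (torEquiv h₀).sum_comp (fun c => (θ c : ℂ) * conj (φ c : ℂ)), sum_hom, card_torG,
    Nat.cast_sub (Nat.one_le_pow _ _ Fintype.card_pos)]
  push_cast
  rfl

/-- The trace of the torus character over the elements with given trace and determinant. -/
noncomputable def Phi (h₀ : rts t₀ d₀ = ∅) (θ : torG h₀ →* ℂˣ) (T D : F) : ℂ :=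
  ∑ p ∈ Finset.univ.filter (fun p : F × F => 2 * p.1 + t₀ * p.2 = T ∧ nf t₀ d₀ p.1 p.2 = D),
    thP h₀ θ p

theorem barP_params (p : F × F) :
    2 * (barP t₀ p).1 + t₀ * (barP t₀ p).2 = 2 * p.1 + t₀ * p.2 ∧
      nf t₀ d₀ (barP t₀ p).1 (barP t₀ p).2 = nf t₀ d₀ p.1 p.2 := by
  constructor <;> simp [barP, nf] <;> ring

theorem barP_ne (h₀ : rts t₀ d₀ = ∅) {p : F × F} (hy : p.2 ≠ 0) : barP t₀ p ≠ p := fun h => by
  have h1 := congrArg Prod.fst h
  have h2 := congrArg Prod.snd h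
  simp only [barP] at h1 h2
  have ht : t₀ = 0 := (mul_eq_zero.1 (show t₀ * p.2 = 0 by linear_combination h1)).resolve_right hy
  have htwo : (2 : F) = 0 :=
    (mul_eq_zero.1 (show (2 : F) * p.2 = 0 by linear_combination -h2)).resolve_right hy
  refine dsc_ne_zero h₀ ?_
  rw [dsc, ht]
  linear_combination -2 * d₀ * htwo

theorem Phi_ell (h₀ : rts t₀ d₀ = ∅) (θ : torG h₀ →* ℂˣ) {p : F × F} (hy : p.2 ≠ 0) :
    Phi h₀ θ (2 * p.1 + t₀ * p.2) (nf t₀ d₀ p.1 p.2) = thP h₀ θ p + thP h₀ θ (barP t₀ p) := by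
  have : (Finset.univ.filter fun r : F × F => 2 * r.1 + t₀ * r.2 = 2 * p.1 + t₀ * p.2 ∧
      nf t₀ d₀ r.1 r.2 = nf t₀ d₀ p.1 p.2) = {p, barP t₀ p} := by
    ext r
    simp only [Finset.mem_filter, Finset.mem_univ, true_and, Finset.mem_insert, Finset.mem_singleton]
    constructor
    · rintro ⟨h1, h2⟩
      rcases ell_fibre h₀ h1 h2 with ⟨a, b⟩ | ⟨a, b⟩
      · exact Or.inl (Prod.ext a b)
      · exact Or.inr (Prod.ext a b)
    · rintro (rfl | rfl)
      · exact ⟨rfl, rfl⟩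
      · exact barP_params p
  rw [Phi, this, Finset.sum_pair (barP_ne h₀ hy).symm]

theorem Phi_double (h₀ : rts t₀ d₀ = ∅) (θ : torG h₀ →* ℂˣ) (r : F) :
    Phi h₀ θ (2 * r) (r ^ 2) = thP h₀ θ (r, 0) := by
  have : (Finset.univ.filter fun p : F × F => 2 * p.1 + t₀ * p.2 = 2 * r ∧
      nf t₀ d₀ p.1 p.2 = r ^ 2) = {(r, 0)} := by
    ext p
    simp only [Finset.mem_filter, Finset.mem_univ, true_and, Finset.mem_singleton]
    constructor
    · rintro ⟨h1, h2⟩
      rcases ell_fibre h₀ (x := r) (y := 0) (x' := p.1) (y' := p.2) (by rw [h1]; ring)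
        (by rw [h2]; simp [nf]) with ⟨a, b⟩ | ⟨a, b⟩
      · exact Prod.ext a b
      · exact Prod.ext (by rw [a]; ring) (by rw [b]; simp)
    · rintro rfl
      simp [nf]
  rw [Phi, this, Finset.sum_singleton]

theorem Phi_split (h₀ : rts t₀ d₀ = ∅) (θ : torG h₀ →* ℂˣ) {T D : F} (h : (rts T D).card = 2) :
    Phi h₀ θ T D = 0 := by
  rw [Phi, Finset.filter_eq_empty_iff.2, Finset.sum_empty]
  rintro ⟨x, y⟩ - ⟨h1, h2⟩
  by_cases hy : y = 0
  · subst hy
    have hT : T = 2 * x := by rw [← h1]; ring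
    have hD : D = x ^ 2 := by rw [← h2]; simp [nf]
    rw [hT, hD, card_rts_double] at h
    omega
  · rw [← h1, ← h2] at h
    simp [rts_ell h₀ hy] at h

theorem det_surj (h₀ : rts t₀ d₀ = ∅) (u : Fˣ) :
    ∃ c : torG h₀, ((c : GL (Fin 2) F) : Mat).det = u := by
  obtain ⟨x, y, hxy⟩ := exists_nf_eq (Or.inl (dsc_ne_zero h₀)) (u : F)
  have hp : ((x, y) : F × F) ≠ 0 := (nf_ne_zero_iff h₀).1 (by rw [hxy]; exact u.ne_zero)
  exact ⟨torEquiv h₀ ⟨(x, y), hp⟩, by rw [det_torEquiv, hxy]⟩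

theorem isCyclic_torG (h₀ : rts t₀ d₀ = ∅) : IsCyclic (torG h₀) := by
  classical
  obtain ⟨ρ, hρ⟩ := IsAlgClosed.exists_root (k := AlgebraicClosure F)
    (Polynomial.X ^ 2 - Polynomial.C (algebraMap F _ t₀) * Polynomial.X +
      Polynomial.C (algebraMap F _ d₀)) (by
    have : (Polynomial.X ^ 2 - Polynomial.C (algebraMap F (AlgebraicClosure F) t₀) * Polynomial.X +
        Polynomial.C (algebraMap F _ d₀)).natDegree = 2 := by compute_degree!
    intro h
    have := Polynomial.natDegree_eq_zero_iff_degree_le_zero.2 h.le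
    omega)
  simp only [Polynomial.IsRoot.def, Polynomial.eval_add, Polynomial.eval_sub, Polynomial.eval_pow,
    Polynomial.eval_X, Polynomial.eval_mul, Polynomial.eval_C] at hρ
  set i := algebraMap F (AlgebraicClosure F) with hi
  have hinj : ∀ x y : F, i x + i y * ρ = 0 → x = 0 ∧ y = 0 := by
    intro x y h
    refine nf_eq_zero h₀ (i.injective ?_)
    rw [map_zero]
    simp only [nf, map_add, map_mul, map_pow]
    linear_combination (i x - i y * ρ + i t₀ * i y) * h + i y ^ 2 * hρ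
  let f : torG h₀ →* AlgebraicClosure F :=
    { toFun := fun c => i ((c : GL (Fin 2) F) : Mat).trace - i (((c : GL (Fin 2) F) : Mat) 1 1)
          + i (((c : GL (Fin 2) F) : Mat) 1 0) * ρ
      map_one' := by
        simp [map_ofNat]
        norm_num
      map_mul' := fun a b => by
        obtain ⟨p, rfl⟩ := (torEquiv h₀).surjective a
        obtain ⟨r, rfl⟩ := (torEquiv h₀).surjective b
        simp only [Subgroup.coe_mul, Units.val_mul, coe_torEquiv, Matrix.trace_fin_two]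
        simp [comp, Matrix.mul_apply, Fin.sum_univ_two]
        linear_combination -(i p.1.2 * i r.1.2) * hρ }
  refine isCyclic_of_injective_ringHom f ((injective_iff_map_eq_one f).2 fun c hc => ?_)
  obtain ⟨p, rfl⟩ := (torEquiv h₀).surjective c
  have h1 : i (p.1.1 - 1) + i p.1.2 * ρ = 0 := by
    simp [f, coe_torEquiv, comp, Matrix.trace_fin_two] at hc
    rw [map_sub, map_one]
    linear_combination hc
  obtain ⟨e1, e2⟩ := hinj _ _ h1
  refine Subtype.ext (Units.ext ?_)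
  rw [coe_torEquiv, e2, sub_eq_zero.1 e1]
  simp

end CfsgLib.KnownB.GL2
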