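import Mathlib

/-!
Two by two matrices over a finite field: rational canonical form, commutants and the norm form.
-/

set_option autoImplicit false

namespace CfsgLib.KnownB.GL2

variable {F : Type*} [Field F]

/-- A scalar matrix. -/
def Scal (M : Matrix (Fin 2) (Fin 2) F) : Prop := M 0 1 = 0 ∧ M 1 0 = 0 ∧ M 0 0 = M 1 1

theorem scal_iff_exists (M : Matrix (Fin 2) (Fin 2) F) : Scal M ↔ ∃ c : F, M = c • 1 := by
  constructor
  · rintro ⟨h01, h10, h⟩
    exact ⟨M 0 0, by ext i j; fin_cases i <;> fin_cases j <;> simp [h01, h10, h]⟩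
  · rintro ⟨c, rfl⟩
    exact ⟨by simp, by simp, by simp⟩

theorem scal_eq {M : Matrix (Fin 2) (Fin 2) F} (h : Scal M) : M = M 0 0 • 1 := by
  obtain ⟨c, hc⟩ := (scal_iff_exists M).1 h
  have : M 0 0 = c := by simp [hc]
  rw [this, hc]

/-- The companion matrix with trace `t` and determinant `d`. -/
def comp (t d : F) : Matrix (Fin 2) (Fin 2) F := !![0, -d; 1, t]

@[simp] theorem det_comp (t d : F) : (comp t d).det = d := by simp [comp, Matrix.det_fin_two]

@[simp] theorem trace_comp (t d : F) : (comp t d).trace = t := by simp [comp, Matrix.trace_fin_two]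

theorem not_scal_comp (t d : F) : ¬ Scal (comp t d) := fun h => by simpa [comp] using h.2.1

/-- A non-scalar matrix is similar to its companion matrix. -/
theorem exists_comp {M : Matrix (Fin 2) (Fin 2) F} (hM : ¬ Scal M) :
    ∃ P : Matrix (Fin 2) (Fin 2) F, P.det ≠ 0 ∧ M * P = P * comp M.trace M.det := by
  have key : ∀ x y : F,
      M * !![x, M 0 0 * x + M 0 1 * y; y, M 1 0 * x + M 1 1 * y] =
        !![x, M 0 0 * x + M 0 1 * y; y, M 1 0 * x + M 1 1 * y] * comp M.trace M.det := fun x y => by
    ext i j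
    fin_cases i <;> fin_cases j <;>
      simp [comp, Matrix.mul_apply, Fin.sum_univ_two, Matrix.trace_fin_two, Matrix.det_fin_two] <;> ring
  by_cases h10 : M 1 0 = 0
  · by_cases h01 : M 0 1 = 0
    · refine ⟨_, ?_, key 1 1⟩
      rw [Matrix.det_fin_two_of, h10, h01]
      intro h
      exact hM ⟨h01, h10, by linear_combination -h⟩
    · refine ⟨_, ?_, key 0 1⟩
      rw [Matrix.det_fin_two_of]
      simpa using h01
  · refine ⟨_, ?_, key 1 0⟩
    rw [Matrix.det_fin_two_of]
    simpa using h10

/-- Two non-scalar matrices with the same trace and determinant are similar. -/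
theorem exists_similar {M N : Matrix (Fin 2) (Fin 2) F} (hM : ¬ Scal M) (hN : ¬ Scal N)
    (ht : M.trace = N.trace) (hd : M.det = N.det) :
    ∃ P : Matrix (Fin 2) (Fin 2) F, P.det ≠ 0 ∧ M * P = P * N := by
  obtain ⟨P, hP, hP'⟩ := exists_comp hM
  obtain ⟨Q, hQ, hQ'⟩ := exists_comp hN
  have hu : IsUnit Q.det := isUnit_iff_ne_zero.2 hQ
  refine ⟨P * Q⁻¹, ?_, ?_⟩
  · rw [Matrix.det_mul, Matrix.det_nonsing_inv, Ring.inverse_eq_inv']
    exact mul_ne_zero hP (inv_ne_zero hQ)
  · rw [← mul_assoc, hP', ht, hd, mul_assoc, mul_assoc]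
    congr 1
    calc comp N.trace N.det * Q⁻¹ = Q⁻¹ * (Q * comp N.trace N.det) * Q⁻¹ := by
          rw [← mul_assoc, Matrix.nonsing_inv_mul _ hu, one_mul]
      _ = Q⁻¹ * N := by rw [← hQ', mul_assoc, mul_assoc, Matrix.mul_nonsing_inv _ hu, mul_one]

/-- The commutant of a non-scalar matrix is spanned by one and the matrix. -/
theorem exists_of_commute {M X : Matrix (Fin 2) (Fin 2) F} (hM : ¬ Scal M) (h : X * M = M * X) :
    ∃ x y : F, X = x • (1 : Matrix (Fin 2) (Fin 2) F) + y • M := by
  have e00 := congrFun (congrFun h 0) 0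
  have e01 := congrFun (congrFun h 0) 1
  have e10 := congrFun (congrFun h 1) 0
  simp only [Matrix.mul_apply, Fin.sum_univ_two] at e00 e01 e10
  by_cases h10 : M 1 0 = 0
  · by_cases h01 : M 0 1 = 0
    · have hne : M 0 0 - M 1 1 ≠ 0 := fun h' => hM ⟨h01, h10, sub_eq_zero.1 h'⟩
      refine ⟨X 0 0 - (X 0 0 - X 1 1) / (M 0 0 - M 1 1) * M 0 0,
        (X 0 0 - X 1 1) / (M 0 0 - M 1 1), ?_⟩
      rw [h01] at e01
      rw [h10] at e10
      have x01 : X 0 1 = 0 := (mul_eq_zero.1 (show X 0 1 * (M 0 0 - M 1 1) = 0 by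
        linear_combination -e01)).resolve_right hne
      have x10 : X 1 0 = 0 := (mul_eq_zero.1 (show X 1 0 * (M 0 0 - M 1 1) = 0 by
        linear_combination e10)).resolve_right hne
      ext i j
      fin_cases i <;> fin_cases j <;> simp [h01, h10, x01, x10]
      field_simp
      ring
    · refine ⟨X 0 0 - X 0 1 / M 0 1 * M 0 0, X 0 1 / M 0 1, ?_⟩
      rw [h10] at e00
      have x10 : X 1 0 = 0 := (mul_eq_zero.1 (show M 0 1 * X 1 0 = 0 by
        linear_combination -e00)).resolve_left h01
      ext i j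
      fin_cases i <;> fin_cases j <;> simp [h10, x10, h01]
      field_simp
      linear_combination -e01
  · refine ⟨X 0 0 - X 1 0 / M 1 0 * M 0 0, X 1 0 / M 1 0, ?_⟩
    ext i j
    fin_cases i <;> fin_cases j <;> simp [h10]
    · field_simp
      linear_combination e00
    · field_simp
      linear_combination e10

/-- The norm form of `x + y M`. -/
def nf (t d x y : F) : F := x ^ 2 + t * x * y + d * y ^ 2

theorem det_lin (M : Matrix (Fin 2) (Fin 2) F) (x y : F) :
    (x • (1 : Matrix (Fin 2) (Fin 2) F) + y • M).det = nf M.trace M.det x y := by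
  simp [nf, Matrix.det_fin_two, Matrix.trace_fin_two]
  ring

theorem trace_lin (M : Matrix (Fin 2) (Fin 2) F) (x y : F) :
    (x • (1 : Matrix (Fin 2) (Fin 2) F) + y • M).trace = 2 * x + M.trace * y := by
  simp [Matrix.trace_fin_two]
  ring

theorem lin_injective {M : Matrix (Fin 2) (Fin 2) F} (hM : ¬ Scal M) :
    Function.Injective fun p : F × F => p.1 • (1 : Matrix (Fin 2) (Fin 2) F) + p.2 • M := by
  rintro ⟨x, y⟩ ⟨x', y'⟩ h
  have hy : y = y' := by
    by_contra hne
    refine hM ((scal_iff_exists M).2 ⟨(x' - x) / (y - y'), ?_⟩)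
    have hne' : y - y' ≠ 0 := sub_ne_zero.2 hne
    have h' : (y - y') • M = (x' - x) • (1 : Matrix (Fin 2) (Fin 2) F) := by
      simp only at h
      rw [sub_smul, sub_smul]
      linear_combination (norm := abel) h
    rw [div_eq_inv_mul, mul_smul, ← h', inv_smul_smul₀ hne']
  subst hy
  have h1 := congrFun (congrFun h 0) 0
  simp at h1
  simp [h1]

/-- The discriminant. -/
def dsc (t d : F) : F := t ^ 2 - 4 * d

variable [Fintype F]

open Classical in
/-- The roots of `X ^ 2 - t X + d`. -/
noncomputable def rts (t d : F) : Finset F := Finset.univ.filter fun r => r ^ 2 - t * r + d = 0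

theorem mem_rts {t d r : F} : r ∈ rts t d ↔ r ^ 2 - t * r + d = 0 := by simp [rts]

theorem rts_eq_pair [DecidableEq F] {t d r : F} (hr : r ∈ rts t d) : rts t d = {r, t - r} := by
  rw [mem_rts] at hr
  ext s
  rw [mem_rts, Finset.mem_insert, Finset.mem_singleton]
  constructor
  · intro hs
    rcases mul_eq_zero.1 (show (s - r) * (s - (t - r)) = 0 by linear_combination hs - hr) with h | h
    · exact Or.inl (sub_eq_zero.1 h)
    · exact Or.inr (sub_eq_zero.1 h)
  · rintro (rfl | rfl) <;> linear_combination hr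

theorem card_rts_le (t d : F) : (rts t d).card ≤ 2 := by
  classical
  rcases (rts t d).eq_empty_or_nonempty with h | ⟨r, hr⟩
  · simp [h]
  · rw [rts_eq_pair hr]
    exact Finset.card_le_two

theorem dsc_of_root {t d r : F} (hr : r ∈ rts t d) : dsc t d = (r - (t - r)) ^ 2 := by
  rw [mem_rts] at hr
  rw [dsc]
  linear_combination -4 * hr

theorem card_rts_eq_one_iff {t d : F} : (rts t d).card = 1 ↔ (rts t d).Nonempty ∧ dsc t d = 0 := by
  classical
  constructor
  · intro h
    obtain ⟨r, hr⟩ := Finset.card_pos.1 (by rw [h]; exact one_pos)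
    refine ⟨⟨r, hr⟩, ?_⟩
    rw [rts_eq_pair hr] at h
    by_cases he : r = t - r
    · rw [dsc_of_root hr, ← he]; ring
    · rw [Finset.card_pair he] at h; omega
  · rintro ⟨⟨r, hr⟩, h⟩
    rw [dsc_of_root hr, pow_eq_zero_iff two_ne_zero, sub_eq_zero] at h
    rw [rts_eq_pair hr, ← h]
    simp

theorem card_rts_eq_two_iff {t d : F} : (rts t d).card = 2 ↔ (rts t d).Nonempty ∧ dsc t d ≠ 0 := by
  have := card_rts_le t d
  constructor
  · intro h
    refine ⟨Finset.card_pos.1 (by omega), fun h0 => ?_⟩
    have := card_rts_eq_one_iff.2 ⟨Finset.card_pos.1 (by omega : 0 < (rts t d).card), h0⟩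
    omega
  · rintro ⟨hne, h⟩
    have h1 := Finset.card_pos.2 hne
    by_contra h'
    exact h (card_rts_eq_one_iff.1 (show (rts t d).card = 1 by omega)).2

/-- The zeros of the norm form. -/
theorem card_nf_zero (t d : F) :
    Nat.card {p : F × F // nf t d p.1 p.2 = 0} = 1 + (Fintype.card F - 1) * (rts t d).card := by
  classical
  have e : {p : F × F // nf t d p.1 p.2 = 0} ≃ Unit ⊕ ({r // r ∈ rts t d} × Fˣ) :=
    { toFun := fun p => if hy : p.1.2 = 0 then Sum.inl () else
        Sum.inr (⟨-p.1.1 / p.1.2, by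
          rw [mem_rts]
          have := p.2
          simp only [nf] at this
          field_simp
          linear_combination this⟩, Units.mk0 _ hy)
      invFun := fun s => match s with
        | Sum.inl _ => ⟨(0, 0), by simp [nf]⟩
        | Sum.inr (r, y) => ⟨(-(r.1 * y), (y : F)), by
            have := mem_rts.1 r.2
            simp only [nf]
            linear_combination (y : F) ^ 2 * this⟩
      left_inv := fun p => by
        by_cases hy : p.1.2 = 0
        · have := p.2
          simp only [nf, hy] at this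
          have hx : p.1.1 = 0 := by simpa using this
          simp only [dif_pos hy]
          exact Subtype.ext (Prod.ext hx.symm hy.symm)
        · simp only [dif_neg hy]
          exact Subtype.ext (Prod.ext (by simp [hy]) rfl)
      right_inv := fun s => by
        rcases s with ⟨⟩ | ⟨r, y⟩
        · simp
        · simp only [dif_neg y.ne_zero, Units.mk0_val]
          simp }
  rw [Nat.card_congr e, Nat.card_sum, Nat.card_unique, Nat.card_prod, Nat.card_eq_finsetCard,
    Nat.card_eq_fintype_card, Fintype.card_units, mul_comm]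

theorem card_nf_ne_zero (t d : F) :
    Nat.card {p : F × F // nf t d p.1 p.2 ≠ 0} + (1 + (Fintype.card F - 1) * (rts t d).card) =
      Fintype.card F ^ 2 := by
  classical
  rw [← card_nf_zero, add_comm, ← Nat.card_sum, Nat.card_congr (Equiv.sumCompl _), Nat.card_prod,
    Nat.card_eq_fintype_card, sq]

/-- The norm form represents everything, unless it is a square in odd characteristic. -/
theorem exists_nf_eq {t d : F} (h : dsc t d ≠ 0 ∨ (2 : F) = 0) (c : F) :
    ∃ x y : F, nf t d x y = c := by
  by_cases h2 : (2 : F) = 0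
  · have : CharP F 2 := CharTwo.of_one_ne_zero_of_two_eq_zero one_ne_zero h2
    obtain ⟨x, hx⟩ := (bijective_frobenius F 2).2 c
    exact ⟨x, 0, by simpa [nf, frobenius_def] using hx⟩
  · have hd := h.resolve_right h2
    open Polynomial in
    have hf : ((X : F[X]) ^ 2).degree = 2 := Polynomial.degree_X_pow 2
    have he : -dsc t d / 4 ≠ 0 := by
      have h4 : (4 : F) ≠ 0 := by rw [show (4 : F) = 2 * 2 by norm_num]; exact mul_ne_zero h2 h2
      exact div_ne_zero (neg_ne_zero.2 hd) h4
    open Polynomial in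
    have hg : (C (-dsc t d / 4) * X ^ 2 - C c : F[X]).degree = 2 := by
      rw [sub_eq_add_neg, Polynomial.degree_add_eq_left_of_degree_lt]
      · rw [Polynomial.degree_C_mul_X_pow 2 he]; rfl
      · rw [Polynomial.degree_C_mul_X_pow 2 he, Polynomial.degree_neg]
        exact lt_of_le_of_lt Polynomial.degree_C_le (by decide)
    have hodd : Fintype.card F % 2 = 1 :=
      FiniteField.odd_card_of_char_ne_two fun hc => h2 (by
        have := ringChar.charP (R := F)
        rw [hc] at this
        exact CharTwo.two_eq_zero)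
    obtain ⟨a, b, hab⟩ := FiniteField.exists_root_sum_quadratic hf hg hodd
    refine ⟨a - t * b / 2, b, ?_⟩
    simp at hab
    have h4 : (4 : F) ≠ 0 := by rw [show (4 : F) = 2 * 2 by norm_num]; exact mul_ne_zero h2 h2
    simp only [nf]
    simp only [dsc] at hab
    field_simp at hab ⊢
    linear_combination hab

end CfsgLib.KnownB.GL2
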